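import Mathlib

/-!
# Integer polynomials at primitive roots of unity

* `aeval_pow_eq_zero_of_coprime`: if an integer polynomial vanishes at a primitive `n`-th root
  of unity `ζ`, it vanishes at `ζ ^ i` for `i` coprime to `n`.
* `one_le_prod_norm_aeval_primitiveRoots`: the product of the values of an integer polynomial
  at all primitive `n`-th roots of unity is a nonzero integer if no value vanishes, so its
  absolute value is at least one.
* `card_le_sum_sq_norm_aeval_pow`: hence (AM-GM) the sum of the squared absolute values is at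
  least the number of primitive roots.
-/

set_option autoImplicit false

namespace Cfsg.Agent.H79

open Polynomial

theorem aeval_pow_eq_zero_of_coprime {n : ℕ} (hn : 0 < n) {ζ : ℂ} (hζ : IsPrimitiveRoot ζ n)
    (i : ℕ) (hi : i.Coprime n) (h : ℤ[X]) (h0 : aeval ζ h = 0) : aeval (ζ ^ i) h = 0 := by
  have hdvd : cyclotomic n ℤ ∣ h := by
    rw [cyclotomic_eq_minpoly hζ hn]
    exact minpoly.isIntegrallyClosed_dvd (hζ.isIntegral hn) h0
  obtain ⟨q, rfl⟩ := hdvd
  have hζi : IsPrimitiveRoot (ζ ^ i) n := hζ.pow_of_coprime i hi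
  rw [map_mul, cyclotomic_eq_minpoly hζi hn, minpoly.aeval, zero_mul]

theorem isIntegral_aeval_int {A : Type*} [CommRing A] (x : A) (hx : IsIntegral ℤ x)
    (f : ℤ[X]) : IsIntegral ℤ (aeval x f) := by
  rw [aeval_eq_sum_range]
  refine IsIntegral.sum _ fun i _ => ?_
  rw [Algebra.smul_def]
  exact IsIntegral.mul isIntegral_algebraMap (hx.pow i)

set_option backward.isDefEq.respectTransparency false in
theorem one_le_prod_norm_aeval_primitiveRoots (n : ℕ) (hn : 0 < n) (f : ℤ[X])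
    (hf : ∀ μ ∈ primitiveRoots n ℂ, aeval μ f ≠ 0) :
    1 ≤ ∏ μ ∈ primitiveRoots n ℂ, ‖aeval μ f‖ := by
  have : NeZero n := ⟨hn.ne'⟩
  have hζ := IsCyclotomicExtension.zeta_spec n ℚ (CyclotomicField n ℚ)
  set ζ := IsCyclotomicExtension.zeta n ℚ (CyclotomicField n ℚ) with hζdef
  set x : CyclotomicField n ℚ := aeval ζ f with hxdef
  have hx : IsIntegral ℤ x := isIntegral_aeval_int ζ (hζ.isIntegral hn) f
  have hN : IsIntegral ℤ (Algebra.norm ℚ x) := Algebra.isIntegral_norm ℚ hx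
  obtain ⟨z, hz⟩ := IsIntegrallyClosed.isIntegral_iff.mp hN
  have hprod := Algebra.norm_eq_prod_embeddings ℚ ℂ x
  have hre : ∏ σ : CyclotomicField n ℚ →ₐ[ℚ] ℂ, σ x = ∏ μ ∈ primitiveRoots n ℂ, aeval μ f := by
    rw [← Finset.prod_coe_sort (primitiveRoots n ℂ)]
    refine Fintype.prod_equiv
      (hζ.embeddingsEquivPrimitiveRoots ℂ (cyclotomic.irreducible_rat hn)) _ _ ?_
    intro σ
    rw [IsPrimitiveRoot.embeddingsEquivPrimitiveRoots_apply_coe, hxdef, aeval_def, aeval_def,
      ← AlgHom.coe_toRingHom, hom_eval₂]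
    congr 1
    exact RingHom.ext_int _ _
  rw [hre, ← hz] at hprod
  have hz0 : z ≠ 0 := by
    rintro rfl
    simp only [map_zero] at hprod
    obtain ⟨μ, hμ, hμ0⟩ := Finset.prod_eq_zero_iff.mp hprod.symm
    exact hf μ hμ hμ0
  rw [← norm_prod, ← hprod]
  have : ‖(algebraMap ℚ ℂ) ((algebraMap ℤ ℚ) z)‖ = |(z : ℝ)| := by
    simp
  rw [this]
  have h1 : (1 : ℤ) ≤ |z| := Int.one_le_abs hz0
  exact_mod_cast h1

/-- AM-GM in the form needed: nonnegative reals with product at least one have sum of squares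
at least their number. -/
theorem card_le_sum_sq_of_one_le_prod {ι : Type*} (s : Finset ι) (a : ι → ℝ)
    (ha : ∀ i ∈ s, 0 ≤ a i) (hprod : 1 ≤ ∏ i ∈ s, a i) : (s.card : ℝ) ≤ ∑ i ∈ s, a i ^ 2 := by
  have hpos : ∀ i ∈ s, 0 < a i := by
    intro i hi
    rcases (ha i hi).lt_or_eq with h | h
    · exact h
    · exfalso
      have : ∏ i ∈ s, a i = 0 := Finset.prod_eq_zero hi h.symm
      rw [this] at hprod
      linarith
  have h1 : ∀ i ∈ s, Real.log (a i ^ 2) + 1 ≤ a i ^ 2 := by
    intro i hi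
    have := Real.add_one_le_exp (Real.log (a i ^ 2))
    rwa [Real.exp_log (pow_pos (hpos i hi) 2)] at this
  have h2 : ∑ i ∈ s, (Real.log (a i ^ 2) + 1) ≤ ∑ i ∈ s, a i ^ 2 := Finset.sum_le_sum h1
  have h3 : ∑ i ∈ s, Real.log (a i ^ 2) = Real.log (∏ i ∈ s, a i ^ 2) := by
    rw [Real.log_prod]
    intro i hi
    exact (pow_pos (hpos i hi) 2).ne'
  have h4 : 0 ≤ Real.log (∏ i ∈ s, a i ^ 2) := by
    apply Real.log_nonneg
    rw [Finset.prod_pow]
    exact one_le_pow₀ hprod
  rw [Finset.sum_add_distrib, h3] at h2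
  simp only [Finset.sum_const, nsmul_eq_mul, mul_one] at h2
  linarith

/-- The sum over `i < n` coprime to `n` of a function of `ζ ^ i` is the sum over the primitive
`n`-th roots of unity. -/
theorem sum_coprime_pow_eq_sum_primitiveRoots {n : ℕ} (hn : 0 < n) {ζ : ℂ}
    (hζ : IsPrimitiveRoot ζ n) {M : Type*} [AddCommMonoid M] (F : ℂ → M) :
    ∑ i ∈ (Finset.range n).filter (fun i => i.Coprime n), F (ζ ^ i) =
      ∑ μ ∈ primitiveRoots n ℂ, F μ := by
  have : NeZero n := ⟨hn.ne'⟩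
  refine Finset.sum_bij (fun i _ => ζ ^ i) ?_ ?_ ?_ ?_
  · intro i hi
    rw [Finset.mem_filter] at hi
    rw [mem_primitiveRoots hn]
    exact hζ.pow_of_coprime i hi.2
  · intro i hi j hj hij
    rw [Finset.mem_filter, Finset.mem_range] at hi hj
    exact hζ.pow_inj hi.1 hj.1 hij
  · intro μ hμ
    rw [mem_primitiveRoots hn] at hμ
    obtain ⟨i, hin, hic, rfl⟩ := hζ.isPrimitiveRoot_iff.mp hμ
    exact ⟨i, by rw [Finset.mem_filter, Finset.mem_range]; exact ⟨hin, hic⟩, rfl⟩
  · intro i hi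
    rfl

theorem card_coprime_eq_card_primitiveRoots {n : ℕ} (hn : 0 < n) {ζ : ℂ}
    (hζ : IsPrimitiveRoot ζ n) :
    ((Finset.range n).filter (fun i => i.Coprime n)).card = (primitiveRoots n ℂ).card := by
  have := sum_coprime_pow_eq_sum_primitiveRoots hn hζ (fun _ => (1 : ℕ))
  simpa using this

/-- Burnside's inequality: if an integer polynomial does not vanish at a primitive `n`-th root
of unity `ζ`, then the squared absolute values of its values at the `ζ ^ i`, `i` coprime to `n`,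
sum to at least the number of such `i`. -/
theorem card_le_sum_sq_norm_aeval_pow {n : ℕ} (hn : 0 < n) {ζ : ℂ} (hζ : IsPrimitiveRoot ζ n)
    (f : ℤ[X]) (hf : aeval ζ f ≠ 0) :
    (((Finset.range n).filter (fun i => i.Coprime n)).card : ℝ) ≤
      ∑ i ∈ (Finset.range n).filter (fun i => i.Coprime n), ‖aeval (ζ ^ i) f‖ ^ 2 := by
  have : NeZero n := ⟨hn.ne'⟩
  rw [card_coprime_eq_card_primitiveRoots hn hζ,
    sum_coprime_pow_eq_sum_primitiveRoots hn hζ (fun μ => ‖aeval μ f‖ ^ 2)]
  apply card_le_sum_sq_of_one_le_prod _ _ (fun _ _ => norm_nonneg _)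
  apply one_le_prod_norm_aeval_primitiveRoots n hn f
  intro μ hμ h0
  rw [mem_primitiveRoots hn] at hμ
  -- ζ is a power of μ with coprime exponent
  obtain ⟨j, -, hjc, hj⟩ := hμ.isPrimitiveRoot_iff.mp hζ
  apply hf
  rw [← hj]
  exact aeval_pow_eq_zero_of_coprime hn hμ j hjc f h0

end Cfsg.Agent.H79
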