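import Mathlib
import Cfsg.Prelude.Def_Blocks
import Cfsg.Agent.H20.MinMax
import Cfsg.Agent.H20.BlockIdem
import Cfsg.Agent.H80.Block

/-!
# The support of a block idempotent on centralizers of `p`-subgroups (helper79)

* `map_conj_le_of_le_map_conj`: `Q ≤ x D x⁻¹` gives `x⁻¹ Q x ≤ D`.
* `exists_conj_le_defectGroup`: if the idempotent coefficient of the block `B` at `y` is not in the
  local ideal and the `p`-subgroup `Q` centralizes `y`, then a conjugate of `Q` lies in any given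
  defect group of `B`.
* `conj_mem_centralizer_of_map_le`: if `x P x⁻¹ ≤ D ≤ C_G(g)` then `x⁻¹ g x` centralizes `P`.
-/

set_option autoImplicit false
set_option linter.unusedSectionVars false

namespace Cfsg.Agent.H79

open Cfsg Cfsg.Agent.H20 Cfsg.Agent.H4

universe u

section

variable {G : Type u} [Group G]

/-- `Q ≤ x D x⁻¹` gives `x⁻¹ Q x ≤ D`. -/
theorem map_conj_le_of_le_map_conj (Q D : Subgroup G) (x : G)
    (h : Q ≤ D.map (MulAut.conj x).toMonoidHom) : Q.map (MulAut.conj x⁻¹).toMonoidHom ≤ D := by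
  rintro _ ⟨q, hq, rfl⟩
  obtain ⟨d, hd, hd'⟩ := h hq
  have h1 : x * d * x⁻¹ = q := hd'
  show x⁻¹ * q * x⁻¹⁻¹ ∈ D
  rw [← h1]
  have h2 : x⁻¹ * (x * d * x⁻¹) * x⁻¹⁻¹ = d := by group
  rw [h2]
  exact hd

/-- A Sylow `p`-subgroup of `C_G(g)`, viewed in `G`, centralizes `g`. -/
theorem sylow_map_le_centralizer {p : ℕ} (g : G)
    (S : Sylow p (Subgroup.centralizer ({g} : Set G))) :
    (S : Subgroup (Subgroup.centralizer ({g} : Set G))).map
      (Subgroup.centralizer ({g} : Set G)).subtype ≤ Subgroup.centralizer ({g} : Set G) := by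
  rintro _ ⟨s, -, rfl⟩
  exact s.2

/-- If `x P x⁻¹` centralizes `g` then `x⁻¹ g x` centralizes `P`. -/
theorem conj_mem_centralizer_of_map_le (P : Subgroup G) (x g : G)
    (h : P.map (MulAut.conj x).toMonoidHom ≤ Subgroup.centralizer ({g} : Set G)) :
    x⁻¹ * g * x ∈ Subgroup.centralizer (P : Set G) := by
  rw [Subgroup.mem_centralizer_iff]
  intro q hq
  have h1 : x * q * x⁻¹ ∈ Subgroup.centralizer ({g} : Set G) := h ⟨q, hq, rfl⟩
  have h2 : g * (x * q * x⁻¹) = x * q * x⁻¹ * g :=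
    Subgroup.mem_centralizer_iff.mp h1 g (Set.mem_singleton g)
  calc q * (x⁻¹ * g * x) = x⁻¹ * (x * q * x⁻¹ * g) * x := by group
    _ = x⁻¹ * (g * (x * q * x⁻¹)) * x := by rw [h2]
    _ = x⁻¹ * g * x * q := by group

/-- **Min–max, subgroup form.** If the idempotent coefficient of the block `B` at `y` is not in
the local ideal and the `p`-subgroup `Q` centralizes `y`, then a conjugate of `Q` lies in any
given defect group of `B`. -/
theorem exists_conj_le_defectGroup [Finite G] {M : Ideal AlgInt} {p : ℕ} (hM : IsPModular p M)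
    (χ₀ : IrrCharacter G) (D : Subgroup G)
    (hD : IsDefectGroup p M (blockOf M (χ₀ : G → ℂ)) D) (y : G)
    (hy : ¬ MemLocalIdeal M (blockCoeff (blockOf M (χ₀ : G → ℂ)) y))
    (Q : Subgroup G) (hQ : IsPGroup p Q) (hQy : Q ≤ Subgroup.centralizer ({y} : Set G)) :
    ∃ x : G, Q.map (MulAut.conj x).toMonoidHom ≤ D := by
  classical
  have hfG : Fintype G := Fintype.ofFinite G
  have hp : p.Prime := hM.1
  haveI hfact : Fact p.Prime := ⟨hp⟩
  have hMp := isPrime_of_isPModular hM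
  obtain ⟨g₀, hg₀, S, rfl⟩ := hD
  have hk := hg₀.2.2 χ₀ (Cfsg.Agent.H80.mem_blockOf_self hMp χ₀)
  obtain ⟨x₁, hconj, hQx⟩ := exists_conj_centralized_of_block hM χ₀ g₀ y hk hy Q hQ hQy
  obtain ⟨x, hx⟩ := exists_le_conj_sylow_centralizer Q hQ g₀ x₁ hconj hQx S
  exact ⟨x⁻¹, map_conj_le_of_le_map_conj Q _ x hx⟩

end

end Cfsg.Agent.H79
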