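import Mathlib
import Cfsg.Prelude.Def_Blocks
import Cfsg.Agent.H79.CentralOver
import Cfsg.Agent.H20.DefectOrder
import Cfsg.Agent.H81.WBO
import Cfsg.Agent.H82.Irr

/-!
# Characters of relative defect zero over a central subgroup (helper79)

Let `D` be a central subgroup of `G` and `χ` an irreducible character such that
`χ 1 * |D| / |G|` is a local integer (the `p`-part of `χ 1` is at least that of `|G : D|`).

* `irr_eq_zero_of_translates_singular`: `χ k = 0` whenever `k * z` is `p`-singular for every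
  `z ∈ D`.  (Rotation counting of helper81 applied to a non-central lift of the idempotent of `χ`.)
-/

set_option autoImplicit false
set_option linter.unusedSectionVars false

namespace Cfsg.Agent.H79

open Cfsg Cfsg.Agent.H20 Cfsg.Agent.H4 Cfsg.Agent.H81
open scoped ComplexConjugate

universe u

section

variable {G : Type u} [Group G] [Fintype G]

/-- Coefficients of an element of the group algebra given by a function. -/
theorem coeff_sum_single (F : G → ℂ) (g : G) :
    (∑ x : G, MonoidAlgebra.single x (F x)).coeff g = F g := by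
  classical
  rw [MonoidAlgebra.coeff_sum, Finsupp.finsetSum_apply]
  simp only [MonoidAlgebra.coeff_single, Finsupp.single_apply]
  rw [Finset.sum_ite_eq']
  simp

open scoped Classical in
/-- Summing a constant over a subgroup. -/
theorem sum_ite_mem_subgroup (D : Subgroup G) (c : ℂ) :
    ∑ x : G, (if x ∈ D then c else 0) = (Nat.card D : ℂ) * c := by
  rw [← Finset.sum_filter, Finset.sum_const, nsmul_eq_mul]
  congr 2
  exact (Nat.subtype_card (p := fun x => x ∈ D) (Finset.univ.filter (· ∈ D))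
    (fun x => by simp)).symm

/-- The block coefficient of a singleton. -/
theorem blockCoeff_singleton (χ : IrrCharacter G) (g : G) :
    blockCoeff ({χ} : Set (IrrCharacter G)) g
      = (Nat.card G : ℂ)⁻¹ * ((χ : G → ℂ) 1 * conj ((χ : G → ℂ) g)) := by
  unfold blockCoeff
  rw [finsum_mem_singleton]

end

/-- If `χ 1 * |D| / |G|` is a local integer for a central subgroup `D`, then `χ` vanishes at
every `k` all of whose `D`-translates are `p`-singular. -/
theorem irr_eq_zero_of_translates_singular {G : Type u} [Group G] [Finite G] {M : Ideal AlgInt}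
    {p : ℕ} (hM : IsPModular p M) (D : Subgroup G) (hDZ : D ≤ Subgroup.center G)
    (χ : IrrCharacter G)
    (hu : MemLocalRing M ((χ : G → ℂ) 1 * (Nat.card D : ℂ) / (Nat.card G : ℂ)))
    (k : G) (hsing : ∀ z ∈ D, p ∣ orderOf (k * z)) : (χ : G → ℂ) k = 0 := by
  classical
  have hfG : Fintype G := Fintype.ofFinite G
  have hp : p.Prime := hM.1
  have hMp := isPrime_of_isPModular hM
  obtain ⟨lam, hlam1, hlammul, hlamχ⟩ := irr_central_fun χ
  have hχ1 : (χ : G → ℂ) 1 ≠ 0 := Cfsg.Agent.H4.irr_one_ne_zero χ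
  have hGne : (Nat.card G : ℂ) ≠ 0 := by exact_mod_cast (Nat.card_pos (α := G)).ne'
  have hDne : (Nat.card D : ℂ) ≠ 0 := by exact_mod_cast (Nat.card_pos (α := D)).ne'
  have hlamR : ∀ z ∈ D, MemLocalRing M (lam z) := by
    intro z hz
    have h1 := hlamχ z (hDZ hz) 1
    rw [mul_one] at h1
    have h2 : lam z = centralChar (χ : G → ℂ) z := by
      rw [centralChar_of_mem_center _ (hDZ hz), h1]
      field_simp
    rw [h2]
    exact centralChar_memLocalRing hMp χ z
  -- coset representatives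
  obtain ⟨r, hr⟩ : ∃ r : G → G, r = fun g => Quotient.out (QuotientGroup.mk g : G ⧸ D) :=
    ⟨_, rfl⟩
  have hr1 : ∀ g, (r g)⁻¹ * g ∈ D := by
    intro g
    rw [hr]
    exact QuotientGroup.eq.mp (QuotientGroup.out_eq' _)
  have hr2 : ∀ x g, x⁻¹ * g ∈ D → r x = r g := by
    intro x g h
    rw [hr]
    show Quotient.out (QuotientGroup.mk x : G ⧸ D) = Quotient.out (QuotientGroup.mk g : G ⧸ D)
    rw [QuotientGroup.eq.mpr h]
  have hrr : ∀ g, r (r g) = r g := fun g => hr2 (r g) g (hr1 g)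
  -- the lift `f` of the idempotent and the element `eL`
  obtain ⟨u, hudef⟩ : ∃ u : ℂ,
      u = (χ : G → ℂ) 1 * (Nat.card D : ℂ) / (Nat.card G : ℂ) := ⟨_, rfl⟩
  rw [← hudef] at hu
  obtain ⟨F, hF⟩ : ∃ F : G → ℂ, F = fun g => if r g = g then u * (χ : G → ℂ) g⁻¹ else 0 :=
    ⟨_, rfl⟩
  obtain ⟨E, hE⟩ : ∃ E : G → ℂ,
      E = fun h => if h ∈ D then lam h⁻¹ / (Nat.card D : ℂ) else 0 := ⟨_, rfl⟩
  obtain ⟨f, hf⟩ : ∃ f : MonoidAlgebra ℂ G, f = ∑ g : G, MonoidAlgebra.single g (F g) :=
    ⟨_, rfl⟩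
  obtain ⟨eL, heL⟩ : ∃ e : MonoidAlgebra ℂ G, e = ∑ g : G, MonoidAlgebra.single g (E g) :=
    ⟨_, rfl⟩
  have hfcoeff : ∀ g, f.coeff g = F g := fun g => by rw [hf]; exact coeff_sum_single F g
  have heLcoeff : ∀ g, eL.coeff g = E g := fun g => by rw [heL]; exact coeff_sum_single E g
  obtain ⟨eχ, heχ⟩ : ∃ e : MonoidAlgebra ℂ G, e = blockElt ({χ} : Set (IrrCharacter G)) :=
    ⟨_, rfl⟩
  have heχcoeff : ∀ g, eχ.coeff g
      = (Nat.card G : ℂ)⁻¹ * ((χ : G → ℂ) 1 * (χ : G → ℂ) g⁻¹) := by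
    intro g
    rw [heχ, coeff_blockElt, blockCoeff_singleton, Cfsg.Agent.H20.irr_conj]
  -- (A) `f * eL = eχ`
  have hA : f * eL = eχ := by
    apply MonoidAlgebra.coeff_injective
    ext g
    rw [coeff_mul_fintype, heχcoeff]
    simp_rw [hfcoeff, heLcoeff]
    rw [Finset.sum_eq_single (r g)]
    · rw [hF, hE]
      simp only
      rw [if_pos (hrr g), if_pos (hr1 g)]
      have h1 : (χ : G → ℂ) g⁻¹ = lam ((r g)⁻¹ * g)⁻¹ * (χ : G → ℂ) (r g)⁻¹ := by
        rw [← hlamχ _ (hDZ (D.inv_mem (hr1 g)))]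
        group
      rw [h1, hudef]
      field_simp
    · intro x _ hx
      rw [hF, hE]
      simp only
      by_cases h1 : r x = x
      · have h2 : x⁻¹ * g ∉ D := fun h => hx (by rw [← h1, hr2 x g h])
        rw [if_neg h2, mul_zero]
      · rw [if_neg h1, zero_mul]
    · intro h; exact absurd (Finset.mem_univ _) h
  -- (B) `eL * eχ = eχ`
  have hB : eL * eχ = eχ := by
    apply MonoidAlgebra.coeff_injective
    ext g
    rw [coeff_mul_fintype, heχcoeff]
    simp_rw [heLcoeff, heχcoeff]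
    have h1 : ∀ x : G, E x * ((Nat.card G : ℂ)⁻¹ * ((χ : G → ℂ) 1 * (χ : G → ℂ) (x⁻¹ * g)⁻¹))
        = if x ∈ D then (Nat.card G : ℂ)⁻¹ * ((χ : G → ℂ) 1 * (χ : G → ℂ) g⁻¹) / (Nat.card D : ℂ)
          else 0 := by
      intro x
      rw [hE]
      simp only
      by_cases hx : x ∈ D
      · rw [if_pos hx, if_pos hx]
        have h2 : (x⁻¹ * g)⁻¹ = x * g⁻¹ := by
          have := Subgroup.mem_center_iff.mp (hDZ hx) g⁻¹
          rw [mul_inv_rev, inv_inv, this]
        have h3 : lam x⁻¹ * lam x = 1 := by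
          rw [← hlammul _ (hDZ (D.inv_mem hx)) _ (hDZ hx), inv_mul_cancel, hlam1]
        rw [h2, hlamχ x (hDZ hx)]
        have h4 : lam x⁻¹ / (Nat.card D : ℂ) * ((Nat.card G : ℂ)⁻¹ *
            ((χ : G → ℂ) 1 * (lam x * (χ : G → ℂ) g⁻¹)))
            = (lam x⁻¹ * lam x) * ((Nat.card G : ℂ)⁻¹ * ((χ : G → ℂ) 1 * (χ : G → ℂ) g⁻¹))
              / (Nat.card D : ℂ) := by ring
        rw [h4, h3, one_mul]
      · rw [if_neg hx, if_neg hx, zero_mul]
    rw [Finset.sum_congr rfl (fun x _ => h1 x), sum_ite_mem_subgroup]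
    field_simp
  -- (C) `f ^ (n + 1) * eL = eχ`
  have hEE : eχ * eχ = eχ := by rw [heχ]; exact blockElt_mul_self _
  have hC : f * eχ = eχ := by
    conv_lhs => rw [← hB]
    rw [← mul_assoc, hA, hEE]
  have hD : ∀ n : ℕ, f ^ n * eχ = eχ := by
    intro n
    induction n with
    | zero => rw [pow_zero, one_mul]
    | succ n ih => rw [pow_succ, mul_assoc, hC, ih]
  have hpow : ∀ n : ℕ, 0 < n → f ^ n * eL = eχ := by
    intro n hn
    obtain ⟨m, rfl⟩ := Nat.exists_eq_succ_of_ne_zero hn.ne'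
    rw [pow_succ, mul_assoc, hA, hD]
  -- coefficients of `f` are local integers
  have hfR : ∀ g, f.coeff g ∈ localRing M hMp := by
    intro g
    rw [hfcoeff, hF]
    simp only
    split_ifs
    · exact memLocalRing_mul hMp hu (memLocalRing_algInt hMp ⟨_, Cfsg.Agent.H82.irr_isIntegral χ _⟩)
    · exact memLocalRing_zero hMp
  -- the exponent of `p` in the group order
  obtain ⟨a, ha⟩ : ∃ a : ℕ, a = (Nat.card G).factorization p := ⟨_, rfl⟩
  have hGne' : Nat.card G ≠ 0 := (Nat.card_pos (α := G)).ne'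
  have hareg : ∀ g : G, ¬ p ∣ orderOf (g ^ p ^ a) := by
    intro g hdvd
    have h1 : (g ^ p ^ a) ^ (Nat.card G / p ^ a) = 1 := by
      rw [← pow_mul, ha, Nat.ordProj_mul_ordCompl_eq_self, pow_card_eq_one']
    have h2 := orderOf_dvd_of_pow_eq_one h1
    exact Nat.not_dvd_ordCompl hp hGne' (ha ▸ hdvd.trans h2)
  -- the integer `X`
  obtain ⟨X, hX⟩ : ∃ X : ℂ, X = ((conjFinset k).card : ℂ) * ((χ : G → ℂ) 1 *
      (χ : G → ℂ) k⁻¹) := ⟨_, rfl⟩
  have hXint : IsIntegral ℤ X := by
    rw [hX]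
    exact (isIntegral_natCast _).mul
      ((Cfsg.Agent.H82.irr_isIntegral χ 1).mul (Cfsg.Agent.H82.irr_isIntegral χ k⁻¹))
  have hXzero : X = 0 := by
    apply eq_zero_of_forall_pow_dvd hM X hXint
    intro b
    have hqpos : 0 < p ^ a * p ^ b := Nat.mul_pos (pow_pos hp.pos a) (pow_pos hp.pos b)
    obtain ⟨v, hv⟩ : ∃ v : MonoidAlgebra ℂ G, v = f ^ (p ^ a * p ^ b) := ⟨_, rfl⟩
    have hveL : v * eL = eχ := by rw [hv]; exact hpow _ hqpos
    -- class traces of `v` over translated classes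
    have htr : ∀ z : G, ∃ ρ : ℂ, MemLocalRing M ρ ∧
        E z * ∑ g ∈ conjFinset k, v.coeff (g * z⁻¹)
          = ((p ^ (b + 1) : ℕ) : ℂ) / (Nat.card D : ℂ) * ρ := by
      intro z
      by_cases hz : z ∈ D
      · have hzc := hDZ hz
        obtain ⟨ρ, hρ, hρ'⟩ := classTrace_pow_mem (localRing M hMp) f hfR p hp a hareg
          {h : G | h * z ∈ conjFinset k}
          (by
            intro g h hg
            have hg' : g * z ∈ conjFinset k := hg
            have h1 : h * g * h⁻¹ * z = h * (g * z) * h⁻¹ := by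
              have := Subgroup.mem_center_iff.mp hzc h⁻¹
              rw [mul_assoc, mul_assoc, mul_assoc, mul_assoc, this]
            show h * g * h⁻¹ * z ∈ conjFinset k
            rw [h1]
            exact conj_mem_conjFinset hg' h)
          (by
            intro g hg
            have hg' : g * z ∈ conjFinset k := hg
            obtain ⟨y, hy⟩ := mem_conjFinset.mp hg'
            have h1 : g = y * (k * z⁻¹) * y⁻¹ := by
              have h2 : g = y * k * y⁻¹ * z⁻¹ := by rw [hy]; group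
              have := Subgroup.mem_center_iff.mp (Subgroup.inv_mem _ hzc) y⁻¹
              rw [h2, mul_assoc y k, mul_assoc y, mul_assoc k, this]
              group
            have h3 : orderOf g = orderOf (k * z⁻¹) := by
              rw [h1]
              have := orderOf_injective (MulAut.conj y).toMonoidHom (MulAut.conj y).injective
                (k * z⁻¹)
              simpa using this
            rw [h3]
            exact hsing z⁻¹ (D.inv_mem hz)) b
        rw [← hv] at hρ'
        refine ⟨lam z⁻¹ * ρ, memLocalRing_mul hMp (hlamR _ (D.inv_mem hz)) hρ, ?_⟩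
        have h1 : ∑ g ∈ conjFinset k, v.coeff (g * z⁻¹)
            = ∑ h ∈ Finset.univ.filter (· ∈ {h : G | h * z ∈ conjFinset k}), v.coeff h := by
          apply Finset.sum_nbij' (fun g => g * z⁻¹) (fun h => h * z)
          · intro g hg
            simp only [Finset.mem_filter, Finset.mem_univ, true_and, Set.mem_ofPred_eq]
            rw [inv_mul_cancel_right]
            exact hg
          · intro h hh
            simp only [Finset.mem_filter, Finset.mem_univ, true_and, Set.mem_ofPred_eq] at hh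
            exact hh
          · intro g _
            simp
          · intro h _
            simp
          · intro g _
            rfl
        rw [h1, hρ', hE]
        simp only
        rw [if_pos hz]
        ring
      · refine ⟨0, memLocalRing_zero hMp, ?_⟩
        rw [hE]
        simp only
        rw [if_neg hz, zero_mul, mul_zero]
    choose ρ hρR hρ using htr
    -- the class trace of `eχ`
    have h1 : ∑ g ∈ conjFinset k, eχ.coeff g
        = ((conjFinset k).card : ℂ) * ((Nat.card G : ℂ)⁻¹ * ((χ : G → ℂ) 1 * (χ : G → ℂ) k⁻¹)) := by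
      rw [← nsmul_eq_mul, ← Finset.sum_const]
      apply Finset.sum_congr rfl
      intro g hg
      obtain ⟨y, rfl⟩ := mem_conjFinset.mp hg
      rw [heχ, coeff_blockElt, blockCoeff_conj_invariant, blockCoeff_singleton, Cfsg.Agent.H20.irr_conj]
    have h2 : ∑ g ∈ conjFinset k, eχ.coeff g
        = ((p ^ (b + 1) : ℕ) : ℂ) / (Nat.card D : ℂ) * ∑ z : G, ρ z := by
      rw [← hveL]
      simp_rw [coeff_mul_fintype, heLcoeff]
      have h3 : ∀ g : G, ∑ x : G, v.coeff x * E (x⁻¹ * g) = ∑ z : G, E z * v.coeff (g * z⁻¹) := by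
        intro g
        rw [← Equiv.sum_comp ((Equiv.inv G).trans (Equiv.mulRight g))
          (fun z => E z * v.coeff (g * z⁻¹))]
        apply Finset.sum_congr rfl
        intro x _
        simp only [Equiv.trans_apply, Equiv.inv_apply, Equiv.coe_mulRight, mul_inv_rev, inv_inv,
          mul_inv_cancel_left]
        ring
      rw [Finset.sum_congr rfl (fun g _ => h3 g), Finset.sum_comm, Finset.mul_sum]
      apply Finset.sum_congr rfl
      intro z _
      rw [← Finset.mul_sum, hρ z]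
    refine ⟨(p : ℂ) * ((D.index : ℂ) * ∑ z : G, ρ z),
      memLocalRing_mul hMp (memLocalRing_natCast hMp p)
        (memLocalRing_mul hMp (memLocalRing_natCast hMp _)
          (memLocalRing_sum hMp _ _ (fun z _ => hρR z))), ?_⟩
    have h4 := h1.symm.trans h2
    have h5 : (Nat.card G : ℂ) = (Nat.card D : ℂ) * (D.index : ℂ) := by
      rw [← Subgroup.card_mul_index D]
      push_cast
      ring
    have h6 : X = (Nat.card G : ℂ) * (((conjFinset k).card : ℂ) *
        ((Nat.card G : ℂ)⁻¹ * ((χ : G → ℂ) 1 * (χ : G → ℂ) k⁻¹))) := by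
      rw [hX]
      field_simp
    rw [h6, h4, h5]
    push_cast
    field_simp
    ring
  -- conclude
  have hcard : ((conjFinset k).card : ℂ) ≠ 0 := by
    have : (conjFinset k).card ≠ 0 := Finset.card_ne_zero.mpr ⟨k, self_mem_conjFinset k⟩
    exact_mod_cast this
  rw [hX] at hXzero
  have h7 : (χ : G → ℂ) k⁻¹ = 0 := by
    rcases mul_eq_zero.mp hXzero with h | h
    · exact absurd h hcard
    · rcases mul_eq_zero.mp h with h | h
      · exact absurd h hχ1
      · exact h
  have h8 := Cfsg.Agent.H20.irr_conj χ k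
  rw [h7] at h8
  have h9 : (χ : G → ℂ) k = conj (conj ((χ : G → ℂ) k)) := (Complex.conj_conj _).symm
  rw [h9, h8, map_zero]

/-- A product of a nontrivial `p`-element and a commuting `p`-regular element is `p`-singular. -/
theorem dvd_orderOf_mul_of_pow {G : Type u} [Group G] {p : ℕ} (hp : p.Prime) {u y : G}
    (hu1 : u ≠ 1) (m : ℕ) (hu : u ^ (p ^ m) = 1) (hcomm : Commute u y) (hy : ¬ p ∣ orderOf y) :
    p ∣ orderOf (u * y) := by
  obtain ⟨j, -, hj⟩ := (Nat.dvd_prime_pow hp).mp (orderOf_dvd_of_pow_eq_one hu)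
  have hj0 : j ≠ 0 := by
    rintro rfl
    rw [pow_zero, orderOf_eq_one_iff] at hj
    exact hu1 hj
  have hcop : (orderOf u).Coprime (orderOf y) := by
    rw [hj]
    exact Nat.Coprime.pow_left j ((Nat.Prime.coprime_iff_not_dvd hp).mpr hy)
  rw [hcomm.orderOf_mul_eq_mul_orderOf_of_coprime hcop, hj]
  exact Dvd.dvd.mul_right (dvd_pow_self p hj0) _

/-- The centralizer of an inverse. -/
theorem centralizer_inv {G : Type u} [Group G] (g : G) :
    Subgroup.centralizer ({g⁻¹} : Set G) = Subgroup.centralizer ({g} : Set G) := by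
  ext w
  simp only [Subgroup.mem_centralizer_iff, Set.mem_singleton_iff, forall_eq]
  constructor
  · intro h
    calc g * w = g * (w * g⁻¹) * g := by group
      _ = g * (g⁻¹ * w) * g := by rw [h]
      _ = w * g := by group
  · intro h
    calc g⁻¹ * w = g⁻¹ * (w * g) * g⁻¹ := by group
      _ = g⁻¹ * (g * w) * g⁻¹ := by rw [h]
      _ = w * g⁻¹ := by group

/-- If the `p`-parts of `χ 1` and `|G : D|` agree, then `χ 1 * |D| / |G|` is a local integer and
`|G : D| / χ 1` is a local unit. -/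
theorem degree_units {G : Type u} [Group G] [Finite G] {M : Ideal AlgInt} {p : ℕ}
    (hM : IsPModular p M) (D : Subgroup G) (χ : IrrCharacter G)
    (hdeg : (charDegree (χ : G → ℂ)).factorization p = D.index.factorization p) :
    MemLocalRing M ((χ : G → ℂ) 1 * (Nat.card D : ℂ) / (Nat.card G : ℂ)) ∧
      ¬ MemLocalIdeal M ((D.index : ℂ) / (χ : G → ℂ) 1) := by
  have hMp := isPrime_of_isPModular hM
  have hp : p.Prime := hM.1
  have hIne : D.index ≠ 0 := Subgroup.index_ne_zero_of_finite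
  have hdpos : 0 < charDegree (χ : G → ℂ) := Cfsg.Agent.H82.charDegree_pos χ
  obtain ⟨c, hcdef⟩ : ∃ c : ℕ, c = D.index.factorization p := ⟨_, rfl⟩
  rw [← hcdef] at hdeg
  obtain ⟨m', hm'⟩ : ∃ m' : ℕ, m' = charDegree (χ : G → ℂ) / p ^ c := ⟨_, rfl⟩
  obtain ⟨k', hk'⟩ : ∃ k' : ℕ, k' = D.index / p ^ c := ⟨_, rfl⟩
  have hm'p : ¬ p ∣ m' := by rw [hm', ← hdeg]; exact Nat.not_dvd_ordCompl hp hdpos.ne'
  have hk'p : ¬ p ∣ k' := by rw [hk', hcdef]; exact Nat.not_dvd_ordCompl hp hIne
  have hdeg' : charDegree (χ : G → ℂ) = p ^ c * m' := by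
    rw [hm', ← hdeg, Nat.ordProj_mul_ordCompl_eq_self]
  have hidx : D.index = p ^ c * k' := by
    rw [hk', hcdef, Nat.ordProj_mul_ordCompl_eq_self]
  have hm0 : (m' : ℂ) ≠ 0 := by
    have : m' ≠ 0 := fun h0 => hm'p (by rw [h0]; exact dvd_zero p)
    exact_mod_cast this
  have hk0 : (k' : ℂ) ≠ 0 := by
    have : k' ≠ 0 := fun h0 => hk'p (by rw [h0]; exact dvd_zero p)
    exact_mod_cast this
  have hp0 : (p : ℂ) ≠ 0 := by exact_mod_cast hp.ne_zero
  have hDne : (Nat.card D : ℂ) ≠ 0 := by exact_mod_cast (Nat.card_pos (α := D)).ne'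
  constructor
  · have h1 : (χ : G → ℂ) 1 * (Nat.card D : ℂ) / (Nat.card G : ℂ) = (m' : ℂ) * (k' : ℂ)⁻¹ := by
      rw [Cfsg.Agent.H82.irr_one_eq_charDegree χ, ← Subgroup.card_mul_index D, hdeg', hidx]
      push_cast
      field_simp
    rw [h1]
    exact memLocalRing_mul hMp (memLocalRing_natCast hMp _) (memLocalRing_inv_natCast hM hk'p)
  · have h1 : (D.index : ℂ) / (χ : G → ℂ) 1 = (k' : ℂ) * (m' : ℂ)⁻¹ := by
      rw [Cfsg.Agent.H82.irr_one_eq_charDegree χ, hdeg', hidx]
      push_cast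
      field_simp
    rw [h1]
    apply not_memLocalIdeal_mul hMp (memLocalRing_natCast hMp _) (memLocalRing_inv_natCast hM hm'p)
    · rw [memLocalIdeal_natCast_iff hM]; exact hk'p
    · apply not_memLocalIdeal_inv hMp (memLocalRing_natCast hMp _)
      rw [memLocalIdeal_natCast_iff hM]; exact hm'p

open scoped Classical in
/-- For `χ` of relative defect zero over the central `p`-subgroup `D`, the sum of
`χ g * χ g⁻¹` over the `p`-regular elements is `|G : D|`. -/
theorem sum_regular_mul_inv {G : Type u} [Group G] [Fintype G] {M : Ideal AlgInt} {p : ℕ}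
    (hM : IsPModular p M) (D : Subgroup G) (hD : IsPGroup p D) (hDZ : D ≤ Subgroup.center G)
    (χ : IrrCharacter G)
    (hu : MemLocalRing M ((χ : G → ℂ) 1 * (Nat.card D : ℂ) / (Nat.card G : ℂ))) :
    ∑ g : G, (if p ∣ orderOf g then 0 else (χ : G → ℂ) g * (χ : G → ℂ) g⁻¹) = (D.index : ℂ) := by
  obtain ⟨lam, hlam1, hlammul, hlamχ⟩ := irr_central_fun χ
  have hGne : (Nat.card G : ℂ) ≠ 0 := by exact_mod_cast (Nat.card_pos (α := G)).ne'
  have hDne : (Nat.card D : ℂ) ≠ 0 := by exact_mod_cast (Nat.card_pos (α := D)).ne'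
  have hinv : ∀ z ∈ D, ∀ g : G,
      (χ : G → ℂ) (g * z) * (χ : G → ℂ) (g * z)⁻¹ = (χ : G → ℂ) g * (χ : G → ℂ) g⁻¹ := by
    intro z hz g
    have hzc := hDZ hz
    have h1 : g * z = z * g := Subgroup.mem_center_iff.mp hzc g
    have h2 : (g * z)⁻¹ = z⁻¹ * g⁻¹ := mul_inv_rev g z
    rw [h2, h1, hlamχ z hzc, hlamχ z⁻¹ (inv_mem hzc)]
    have h3 : lam z * lam z⁻¹ = 1 := by
      rw [← hlammul z hzc z⁻¹ (inv_mem hzc), mul_inv_cancel, hlam1]
    calc lam z * (χ : G → ℂ) g * (lam z⁻¹ * (χ : G → ℂ) g⁻¹)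
        = (lam z * lam z⁻¹) * ((χ : G → ℂ) g * (χ : G → ℂ) g⁻¹) := by ring
      _ = (χ : G → ℂ) g * (χ : G → ℂ) g⁻¹ := by rw [h3, one_mul]
  have hS1 : ∑ h : G, (χ : G → ℂ) h * (χ : G → ℂ) h⁻¹ = (Nat.card G : ℂ) := by
    have h1 := irr_inner_self χ
    unfold classInner at h1
    rw [inv_mul_eq_iff_eq_mul₀ hGne, mul_one] at h1
    rw [← h1]
    apply Finset.sum_congr rfl
    intro h _
    rw [Cfsg.Agent.H20.irr_conj]
  obtain ⟨S₀, hS₀⟩ : ∃ S₀ : ℂ, S₀ = ∑ g : G,
      (if p ∣ orderOf g then 0 else (χ : G → ℂ) g * (χ : G → ℂ) g⁻¹) := ⟨_, rfl⟩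
  rw [← hS₀]
  have hT1 : ∑ z : G, ∑ g : G, (if z ∈ D ∧ ¬ p ∣ orderOf g
      then (χ : G → ℂ) (g * z) * (χ : G → ℂ) (g * z)⁻¹ else 0) = (Nat.card D : ℂ) * S₀ := by
    rw [← sum_ite_mem_subgroup D S₀]
    apply Finset.sum_congr rfl
    intro z _
    by_cases hz : z ∈ D
    · rw [if_pos hz, hS₀]
      apply Finset.sum_congr rfl
      intro g _
      by_cases hg : p ∣ orderOf g
      · rw [if_pos hg, if_neg (fun h => h.2 hg)]
      · rw [if_neg hg, if_pos ⟨hz, hg⟩, hinv z hz g]
    · rw [if_neg hz]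
      apply Finset.sum_eq_zero
      intro g _
      rw [if_neg (fun h => hz h.1)]
  have hT2 : ∑ z : G, ∑ g : G, (if z ∈ D ∧ ¬ p ∣ orderOf g
      then (χ : G → ℂ) (g * z) * (χ : G → ℂ) (g * z)⁻¹ else 0)
      = ∑ h : G, (χ : G → ℂ) h * (χ : G → ℂ) h⁻¹ := by
    have h1 : ∀ z : G, ∑ g : G, (if z ∈ D ∧ ¬ p ∣ orderOf g
        then (χ : G → ℂ) (g * z) * (χ : G → ℂ) (g * z)⁻¹ else 0)
        = ∑ h : G, (if z ∈ D ∧ ¬ p ∣ orderOf (h * z⁻¹)
          then (χ : G → ℂ) h * (χ : G → ℂ) h⁻¹ else 0) := by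
      intro z
      rw [← Equiv.sum_comp (Equiv.mulRight z) (fun h => if z ∈ D ∧ ¬ p ∣ orderOf (h * z⁻¹)
          then (χ : G → ℂ) h * (χ : G → ℂ) h⁻¹ else 0)]
      apply Finset.sum_congr rfl
      intro g _
      simp only [Equiv.coe_mulRight, mul_inv_cancel_right]
    rw [Finset.sum_congr rfl (fun z _ => h1 z), Finset.sum_comm]
    apply Finset.sum_congr rfl
    intro h _
    by_cases hχh : (χ : G → ℂ) h = 0
    · rw [hχh]
      simp
    · have hex : ∃ z ∈ D, ¬ p ∣ orderOf (h * z) := by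
        by_contra hall
        push Not at hall
        exact hχh (irr_eq_zero_of_translates_singular hM D hDZ χ hu h hall)
      obtain ⟨z₀, hz₀, hreg⟩ := hex
      rw [Finset.sum_eq_single z₀⁻¹]
      · rw [if_pos ⟨D.inv_mem hz₀, by rwa [inv_inv]⟩]
      · intro z _ hz
        rw [if_neg]
        rintro ⟨hzD, hzreg⟩
        have hu1 : z₀⁻¹ * z⁻¹ ≠ 1 := by
          intro h1
          apply hz
          have h2 : z⁻¹ = z₀ := by
            have := congrArg (fun t => z₀ * t) h1
            simpa using this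
          rw [← h2, inv_inv]
        have hmem : z₀⁻¹ * z⁻¹ ∈ D := D.mul_mem (D.inv_mem hz₀) (D.inv_mem hzD)
        obtain ⟨m, hm⟩ := hD ⟨_, hmem⟩
        have hm' : (z₀⁻¹ * z⁻¹) ^ (p ^ m) = 1 := by
          have := congrArg Subtype.val hm
          simpa using this
        have hcomm : Commute (z₀⁻¹ * z⁻¹) (h * z₀) :=
          (Subgroup.mem_center_iff.mp (hDZ hmem) (h * z₀)).symm
        have h3 := dvd_orderOf_mul_of_pow hM.1 hu1 m hm' hcomm hreg
        have h2 : z₀⁻¹ * z⁻¹ * (h * z₀) = h * z⁻¹ := by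
          rw [hcomm.eq]
          group
        rw [h2] at h3
        exact hzreg h3
      · intro h; exact absurd (Finset.mem_univ _) h
  have h5 : (Nat.card G : ℂ) = (Nat.card D : ℂ) * (D.index : ℂ) := by
    rw [← Subgroup.card_mul_index D]
    push_cast
    ring
  have h6 : (Nat.card D : ℂ) * S₀ = (Nat.card D : ℂ) * (D.index : ℂ) := by
    rw [← hT1, hT2, hS1, h5]
  exact mul_left_cancel₀ hDne h6

/-- For `χ` of relative defect zero over the central `p`-subgroup `D` there is a `p`-regular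
element `g` such that the central character of `χ` at `g` and the value `χ g⁻¹` are local
units. -/
theorem exists_regular_unit {G : Type u} [Group G] [Finite G] {M : Ideal AlgInt} {p : ℕ}
    (hM : IsPModular p M) (D : Subgroup G) (hD : IsPGroup p D) (hDZ : D ≤ Subgroup.center G)
    (χ : IrrCharacter G)
    (hdeg : (charDegree (χ : G → ℂ)).factorization p = D.index.factorization p) :
    ∃ g : G, ¬ p ∣ orderOf g ∧ ¬ MemLocalIdeal M (centralChar (χ : G → ℂ) g) ∧
      ¬ MemLocalIdeal M ((χ : G → ℂ) g⁻¹) := by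
  classical
  have hfG : Fintype G := Fintype.ofFinite G
  have hMp := isPrime_of_isPModular hM
  obtain ⟨hu, hunit⟩ := degree_units hM D χ hdeg
  have hχ1 : (χ : G → ℂ) 1 ≠ 0 := Cfsg.Agent.H4.irr_one_ne_zero χ
  by_contra hall
  push Not at hall
  apply hunit
  have key := sum_mem_of_conj_closed (localIdeal M hMp)
    (fun g => if p ∣ orderOf g then 0 else (χ : G → ℂ) g * (χ : G → ℂ) g⁻¹ / (χ : G → ℂ) 1)
    (by
      intro h x
      have h1 : orderOf (x * h * x⁻¹) = orderOf h := by
        have := orderOf_injective (MulAut.conj x).toMonoidHom (MulAut.conj x).injective h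
        simpa using this
      have h2 : (x * h * x⁻¹)⁻¹ = x * h⁻¹ * x⁻¹ := by group
      simp only [h1, h2, Cfsg.Agent.H81.irr_conj])
    (by
      intro h
      by_cases hreg : p ∣ orderOf h
      · simp only [if_pos hreg, mul_zero]
        exact (localIdeal M hMp).zero_mem
      · simp only [if_neg hreg]
        have h1 : ((Subgroup.centralizer ({h} : Set G)).index : ℂ) *
            ((χ : G → ℂ) h * (χ : G → ℂ) h⁻¹ / (χ : G → ℂ) 1)
            = centralChar (χ : G → ℂ) h * (χ : G → ℂ) h⁻¹ := by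
          unfold centralChar
          ring
        rw [h1]
        by_cases hω : MemLocalIdeal M (centralChar (χ : G → ℂ) h)
        · exact memLocalIdeal_mul_right hMp hω
            (memLocalRing_algInt hMp ⟨_, Cfsg.Agent.H82.irr_isIntegral χ _⟩)
        · exact memLocalIdeal_mul_left hMp (centralChar_memLocalRing hMp χ h) (hall h hreg hω))
    Finset.univ (fun _ _ _ => Finset.mem_univ _)
  have h2 : ∑ g : G, (if p ∣ orderOf g then 0
      else (χ : G → ℂ) g * (χ : G → ℂ) g⁻¹ / (χ : G → ℂ) 1) = (D.index : ℂ) / (χ : G → ℂ) 1 := by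
    rw [← sum_regular_mul_inv hM D hD hDZ χ hu, Finset.sum_div]
    apply Finset.sum_congr rfl
    intro g _
    split_ifs
    · rw [zero_div]
    · rfl
  rw [h2] at key
  exact key

end Cfsg.Agent.H79
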