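import Mathlib
import Cfsg.Prelude.Def_Blocks
import Cfsg.Agent.H79.PElementCongr
import Cfsg.Agent.H79.RelDefectZero
import Cfsg.Agent.H81.DefZero
import Cfsg.Agent.H81.Counting
import Cfsg.Agent.H80.Orbit

/-!
# Green's theorem for characters of defect zero (helper79)

* `sum_eq_card_mul_sum_out`: a sum over a group of a function constant on the left cosets of `R`
  is `|R|` times the sum over coset representatives.
* `irr_memLocalIdeal_of_centralizes`: a character vanishing on `p`-singular elements takes values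
  in the local ideal at elements centralizing a nontrivial `p`-element.
* `exists_conj_sylow_inf_eq_bot`: if `θ` has defect zero and `θ y₀` is not in the local ideal,
  then for every Sylow `p`-subgroup `R` some conjugate `y` of `y₀` has `R ∩ y R y⁻¹ = 1`.
-/

set_option autoImplicit false
set_option linter.unusedSectionVars false
set_option linter.style.haveILetI false

namespace Cfsg.Agent.H79

open Cfsg Cfsg.Agent.H20 Cfsg.Agent.H4

universe u

section

variable {X : Type u} [Group X]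

/-- A sum over a group of a function constant on the left cosets of `R` is `|R|` times the sum
over coset representatives. -/
theorem sum_eq_card_mul_sum_out [Fintype X] (R : Subgroup X) [Fintype R] [Fintype (X ⧸ R)]
    (F : X → ℂ) (hF : ∀ g : X, ∀ u ∈ R, F (g * u) = F g) :
    ∑ g : X, F g = (Nat.card R : ℂ) * ∑ q : X ⧸ R, F q.out := by
  classical
  have hbij : Function.Bijective (fun v : (X ⧸ R) × R => v.1.out * (v.2 : X)) := by
    constructor
    · rintro ⟨q, u⟩ ⟨q', u'⟩ h
      have h' : q.out * (u : X) = q'.out * (u' : X) := h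
      have hq : q = q' := by
        have h1 : ((q.out * (u : X) : X) : X ⧸ R) = ((q'.out * (u' : X) : X) : X ⧸ R) := by
          rw [h']
        rw [QuotientGroup.mk_mul_of_mem _ u.2, QuotientGroup.mk_mul_of_mem _ u'.2,
          QuotientGroup.out_eq', QuotientGroup.out_eq'] at h1
        exact h1
      subst hq
      have hu : (u : X) = (u' : X) := mul_left_cancel h'
      rw [Subtype.ext hu]
    · intro g
      refine ⟨((g : X ⧸ R), ⟨(g : X ⧸ R).out⁻¹ * g, ?_⟩), ?_⟩
      · exact QuotientGroup.eq.mp (QuotientGroup.out_eq' _)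
      · simp
  rw [← Fintype.sum_bijective _ hbij (fun v => F (v.1.out)) F (fun v => (hF _ _ v.2.2).symm)]
  rw [Fintype.sum_prod_type]
  simp only [Finset.sum_const, Finset.card_univ, nsmul_eq_mul]
  rw [← Finset.mul_sum, Nat.card_eq_fintype_card]

/-- A character vanishing on `p`-singular elements takes a value in the local ideal at every
element commuting with a nontrivial `p`-element. -/
theorem irr_memLocalIdeal_of_centralizes [Finite X] {M : Ideal AlgInt} {p : ℕ}
    (hM : IsPModular p M) (θ : IrrCharacter X)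
    (hvan : ∀ y : X, p ∣ orderOf y → (θ : X → ℂ) y = 0)
    (x u : X) (hu1 : u ≠ 1) (k : ℕ) (hu : u ^ (p ^ k) = 1) (hcomm : Commute u x) :
    MemLocalIdeal M ((θ : X → ℂ) x) := by
  have hMp := isPrime_of_isPModular hM
  have hp : p.Prime := hM.1
  by_cases hx : p ∣ orderOf x
  · rw [hvan x hx]
    exact memLocalIdeal_zero hMp
  · have h1 := char_mul_sub_memLocalIdeal hM (isCharacter_of_isIrrCharacter θ.2) u x hcomm k hu
    rw [hvan (u * x) (dvd_orderOf_mul_of_pow hp hu1 k hu hcomm hx), zero_sub] at h1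
    have := memLocalIdeal_neg h1
    rwa [neg_neg] at this

/-- **Green's theorem for defect zero.** If `θ` has defect zero and `θ y₀` is not in the local
ideal, then for every Sylow `p`-subgroup `R` some conjugate `y` of `y₀` has `R ∩ y R y⁻¹ = 1`. -/
theorem exists_conj_sylow_inf_eq_bot [Finite X] {M : Ideal AlgInt} {p : ℕ}
    (hM : IsPModular p M) (θ : IrrCharacter X)
    (hdef : ¬ p ∣ Nat.card X / charDegree (θ : X → ℂ)) (y₀ : X)
    (hθ : ¬ MemLocalIdeal M ((θ : X → ℂ) y₀)) (R : Sylow p X) :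
    ∃ g : X, ∀ u ∈ (R : Subgroup X), ∀ v ∈ (R : Subgroup X),
      u = (g⁻¹ * y₀ * g) * v * (g⁻¹ * y₀ * g)⁻¹ → u = 1 := by
  classical
  have hfX : Fintype X := Fintype.ofFinite X
  have hfR : Fintype (R : Subgroup X) := Fintype.ofFinite _
  have hfQ : Fintype (X ⧸ (R : Subgroup X)) := Fintype.ofFinite _
  have hp : p.Prime := hM.1
  haveI hfact : Fact p.Prime := ⟨hp⟩
  have hMp := isPrime_of_isPModular hM
  have hB := Cfsg.Agent.H81.blockOf_eq_singleton_of_defect_zero hM θ hdef
  have hvan : ∀ y : X, p ∣ orderOf y → (θ : X → ℂ) y = 0 :=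
    fun y hy => Cfsg.Agent.H81.vanish_of_blockOf_eq_singleton hM θ hB y hy
  have hθ1 : (θ : X → ℂ) 1 ≠ 0 := Cfsg.Agent.H4.irr_one_ne_zero θ
  obtain ⟨T, hT⟩ : ∃ T : X → ℂ,
      T = fun y => ∑ w : (R : Subgroup X), (θ : X → ℂ) (y * (w : X)) := ⟨_, rfl⟩
  -- invariance under right translation by `R`
  have hF : ∀ g : X, ∀ u ∈ (R : Subgroup X),
      T ((g * u)⁻¹ * y₀ * (g * u)) = T (g⁻¹ * y₀ * g) := by
    intro g u hu
    rw [hT]
    show ∑ w : (R : Subgroup X), (θ : X → ℂ) ((g * u)⁻¹ * y₀ * (g * u) * (w : X))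
      = ∑ w : (R : Subgroup X), (θ : X → ℂ) (g⁻¹ * y₀ * g * (w : X))
    rw [← Equiv.sum_comp (MulAut.conj (⟨u, hu⟩ : (R : Subgroup X))).toEquiv
      (fun w : (R : Subgroup X) => (θ : X → ℂ) (g⁻¹ * y₀ * g * (w : X)))]
    apply Finset.sum_congr rfl
    intro w _
    have e : g⁻¹ * y₀ * g * (u * (w : X) * u⁻¹)
        = u * ((g * u)⁻¹ * y₀ * (g * u) * (w : X)) * u⁻¹ := by group
    show _ = (θ : X → ℂ) (g⁻¹ * y₀ * g * (u * (w : X) * u⁻¹))
    rw [e, Cfsg.Agent.H81.irr_conj]
  -- the total sum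
  have hsum : ∑ g : X, T (g⁻¹ * y₀ * g) = (Nat.card X : ℂ) * (θ : X → ℂ) y₀ := by
    rw [hT]
    show ∑ g : X, ∑ w : (R : Subgroup X), (θ : X → ℂ) (g⁻¹ * y₀ * g * (w : X)) = _
    rw [Finset.sum_comm]
    have h1 : ∀ w : (R : Subgroup X), ∑ g : X, (θ : X → ℂ) (g⁻¹ * y₀ * g * (w : X))
        = (Nat.card X : ℂ) * (θ : X → ℂ) y₀ * (θ : X → ℂ) (w : X) / (θ : X → ℂ) 1 := by
      intro w
      rw [← Cfsg.Agent.H81.irr_sum_conj_mul θ y₀ (w : X)]
      rw [← Equiv.sum_comp (Equiv.inv X)
        (fun x : X => (θ : X → ℂ) (x * y₀ * x⁻¹ * (w : X)))]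
      apply Finset.sum_congr rfl
      intro g _
      simp only [Equiv.inv_apply, inv_inv]
    rw [Finset.sum_congr rfl (fun w _ => h1 w)]
    rw [Finset.sum_eq_single (1 : (R : Subgroup X))]
    · rw [Subgroup.coe_one]
      field_simp
    · intro w _ hw
      have hsing : p ∣ orderOf (w : X) := by
        obtain ⟨k, hk⟩ := (IsPGroup.iff_orderOf.mp R.2) w
        have hk0 : k ≠ 0 := by
          rintro rfl
          rw [pow_zero, orderOf_eq_one_iff] at hk
          exact hw hk
        rw [Subgroup.orderOf_coe, hk]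
        exact dvd_pow_self p hk0
      rw [hvan _ hsing, mul_zero, zero_div]
    · intro h
      exact absurd (Finset.mem_univ _) h
  -- coset decomposition
  have hcos := sum_eq_card_mul_sum_out (R : Subgroup X) (fun g => T (g⁻¹ * y₀ * g)) hF
  rw [hsum] at hcos
  have hex : ∃ g : X, ¬ MemLocalIdeal M (T (g⁻¹ * y₀ * g)) := by
    by_contra hall
    push Not at hall
    apply hθ
    have h1 : MemLocalIdeal M (∑ q : X ⧸ (R : Subgroup X), T (q.out⁻¹ * y₀ * q.out)) :=
      memLocalIdeal_sum hMp _ _ (fun q _ => hall q.out)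
    have hidx : (Nat.card X : ℂ)
        = (Nat.card (R : Subgroup X) : ℂ) * ((R : Subgroup X).index : ℂ) := by
      rw [← Nat.cast_mul, Subgroup.card_mul_index]
    have hRne : (Nat.card (R : Subgroup X) : ℂ) ≠ 0 := by
      exact_mod_cast (Nat.card_pos (α := (R : Subgroup X))).ne'
    have h2 : ((R : Subgroup X).index : ℂ) * (θ : X → ℂ) y₀
        = ∑ q : X ⧸ (R : Subgroup X), T (q.out⁻¹ * y₀ * q.out) := by
      rw [hidx, mul_assoc] at hcos
      exact mul_left_cancel₀ hRne hcos
    have hnd : ¬ p ∣ (R : Subgroup X).index := R.not_dvd_index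
    have h3 := memLocalIdeal_mul_left hMp (memLocalRing_inv_natCast hM hnd) (h2 ▸ h1)
    have hine : ((R : Subgroup X).index : ℂ) ≠ 0 := by
      exact_mod_cast (Subgroup.index_ne_zero_of_finite (H := (R : Subgroup X)))
    rwa [← mul_assoc, inv_mul_cancel₀ hine, one_mul] at h3
  obtain ⟨g, hg⟩ := hex
  refine ⟨g, ?_⟩
  obtain ⟨y, hy⟩ : ∃ y : X, y = g⁻¹ * y₀ * g := ⟨_, rfl⟩
  rw [← hy] at hg ⊢
  by_contra hcon
  push Not at hcon
  obtain ⟨u₀, hu₀R, v₀, hv₀R, hu₀v₀, hu₀1⟩ := hcon
  obtain ⟨Q, hQdef⟩ : ∃ Q : Subgroup X,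
      Q = (R : Subgroup X) ⊓ (R : Subgroup X).map (MulAut.conj y).toMonoidHom := ⟨_, rfl⟩
  have hQR : Q ≤ (R : Subgroup X) := hQdef ▸ inf_le_left
  have hQp : IsPGroup p Q := R.2.to_le hQR
  have hu₀Q : u₀ ∈ Q := by
    rw [hQdef]
    exact ⟨hu₀R, ⟨v₀, hv₀R, hu₀v₀.symm⟩⟩
  apply hg
  rw [hT]
  show MemLocalIdeal M (∑ w : (R : Subgroup X), (θ : X → ℂ) (y * (w : X)))
  obtain ⟨Ts, hTs⟩ : ∃ Ts : Finset X,
      Ts = (Finset.univ : Finset (R : Subgroup X)).image
        (fun w : (R : Subgroup X) => y * (w : X)) := ⟨_, rfl⟩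
  have hsumT : ∑ w : (R : Subgroup X), (θ : X → ℂ) (y * (w : X))
      = ∑ x ∈ Ts, (θ : X → ℂ) x := by
    rw [hTs, Finset.sum_image]
    intro a _ b _ hab
    exact Subtype.ext (mul_left_cancel hab)
  rw [hsumT, ← Finset.sum_filter_add_sum_filter_not Ts
    (fun x => x ∈ Subgroup.centralizer (Q : Set X))]
  apply memLocalIdeal_add hMp
  · apply memLocalIdeal_sum hMp
    intro x hx
    rw [Finset.mem_filter] at hx
    obtain ⟨k, hk⟩ := hQp ⟨u₀, hu₀Q⟩
    have hk' : u₀ ^ (p ^ k) = 1 := by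
      have := congrArg Subtype.val hk
      simpa using this
    have hcomm : Commute u₀ x := Subgroup.mem_centralizer_iff.mp hx.2 u₀ hu₀Q
    exact irr_memLocalIdeal_of_centralizes hM θ hvan x u₀ hu₀1 k hk' hcomm
  · apply Cfsg.Agent.H80.sum_mem_of_conj p Q hQp (localIdeal M hMp) (fun x => (θ : X → ℂ) x)
    · intro x hx u hu
      rw [Finset.mem_filter] at hx ⊢
      constructor
      · rw [hTs, Finset.mem_image] at hx ⊢
        obtain ⟨w, -, rfl⟩ := hx.1
        have huR : u ∈ (R : Subgroup X) := hQR hu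
        have hu2 : u ∈ (R : Subgroup X).map (MulAut.conj y).toMonoidHom := by
          have := hu
          rw [hQdef] at this
          exact this.2
        obtain ⟨v, hvR, hv⟩ := hu2
        have hv' : y * v * y⁻¹ = u := hv
        refine ⟨⟨v * (w : X) * u⁻¹, Subgroup.mul_mem _ (Subgroup.mul_mem _ hvR w.2)
          (Subgroup.inv_mem _ huR)⟩, Finset.mem_univ _, ?_⟩
        show y * (v * (w : X) * u⁻¹) = u * (y * (w : X)) * u⁻¹
        rw [← hv']
        group
      · intro hc
        apply hx.2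
        rw [Subgroup.mem_centralizer_iff] at hc ⊢
        intro q hq
        have h1 := hc (u * q * u⁻¹) (Q.mul_mem (Q.mul_mem hu hq) (Q.inv_mem hu))
        have h2 : u * (q * x) * u⁻¹ = u * (x * q) * u⁻¹ := by
          calc u * (q * x) * u⁻¹ = (u * q * u⁻¹) * (u * x * u⁻¹) := by group
            _ = (u * x * u⁻¹) * (u * q * u⁻¹) := h1
            _ = u * (x * q) * u⁻¹ := by group
        exact mul_left_cancel (mul_right_cancel h2)
    · intro x _ u _
      exact Cfsg.Agent.H81.irr_conj θ x u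
    · intro x hx
      exact (Finset.mem_filter.mp hx).2
    · intro x _
      rw [nsmul_eq_mul]
      exact memLocalIdeal_mul_right hMp (memLocalIdeal_natCast_self hM)
        (memLocalRing_algInt hMp ⟨_, Cfsg.Agent.H81.irr_isIntegral θ x⟩)

end

end Cfsg.Agent.H79
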