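import Mathlib
import Cfsg.Prelude.Def_Blocks
import Cfsg.Agent.H79.NormalBlocks
import Cfsg.Agent.S0963
import Cfsg.Agent.S0932

/-!
# Block covering (helper79)

Let `N` be a normal subgroup of `G`.

* `sameBlock_conjIrr`: conjugation by `G` permutes the blocks of `N`.
* `blockCoeff_memLocalRing_of_closed`: the idempotent of a union of blocks has local-integral
  coefficients.
* `orbitSet`: the union of the `G`-conjugates of a set of irreducible characters of `N`.
* `sum_mul_indFun`, `sum_mul_div_eq_of_over`, `sum_mul_div_sub_mem_of_congr`: pairing a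
  `G`-invariant function supported on `N` with a character of `G` and with a character of `N`
  below it.
* `exists_over_of_congr`: if the central character of `χ` agrees with the induced central character
  of `θ ∈ A` on `N`, `A` a stable union of blocks, then `χ` lies over a member of `A`.
* `sameBlock_of_over_sameBlock_of_index_pow`: for `G/N` a `p`-group, characters of `G` lying over
  characters in the same block of `N` lie in the same block.
-/

set_option autoImplicit false

namespace Cfsg.Agent.H79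

open Cfsg Cfsg.Agent.H20 Cfsg.Agent.H4 Cfsg.Agent.Clifford
open scoped ComplexConjugate

section General

variable {H : Type*} [Group H] {M : Ideal AlgInt}

theorem centralChar_comp_mulEquiv (α : H ≃* H) (μ : H → ℂ) (h : H) :
    centralChar (fun h => μ (α h)) h = centralChar μ (α h) := by
  simp only [centralChar]
  rw [index_centralizer_mulEquiv α h, map_one]

/-- Automorphisms preserve the block relation. -/
theorem sameBlock_comp_mulEquiv (α : H ≃* H) (μ ν : H → ℂ) :
    SameBlock M (fun h => μ (α h)) (fun h => ν (α h)) ↔ SameBlock M μ ν := by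
  constructor
  · intro hB h
    have := hB (α.symm h)
    rw [centralChar_comp_mulEquiv, centralChar_comp_mulEquiv, MulEquiv.apply_symm_apply] at this
    exact this
  · intro hB h
    rw [centralChar_comp_mulEquiv, centralChar_comp_mulEquiv]
    exact hB (α h)

/-- The idempotent coefficients of a union of blocks are local integers. -/
theorem blockCoeff_memLocalRing_of_closed [Fintype H] (hM : M.IsPrime) (A : Set (IrrCharacter H))
    (hA : ∀ μ ∈ A, ∀ ν : IrrCharacter H, SameBlock M μ.1 ν.1 → ν ∈ A) (h : H) :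
    MemLocalRing M (blockCoeff A h) := by
  classical
  let _ : Fintype (IrrCharacter H) := fintypeIrr H
  obtain ⟨T, hT⟩ : ∃ T : Finset (Set (IrrCharacter H)),
      T = (Finset.univ.filter (fun μ : IrrCharacter H => μ ∈ A)).image (fun μ => blockOf M μ.1) :=
    ⟨_, rfl⟩
  have hsum : blockCoeff A h = ∑ c ∈ T, blockCoeff c h := by
    simp only [blockCoeff_eq]
    rw [← Finset.mul_sum, Finset.sum_comm]
    congr 1
    apply Finset.sum_congr rfl
    intro μ _
    by_cases hμ : μ ∈ A
    · rw [if_pos hμ, Finset.sum_eq_single (blockOf M μ.1)]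
      · rw [if_pos (Cfsg.Agent.H80.mem_blockOf_self hM μ)]
      · intro c hc hne
        rw [if_neg]
        intro hμc
        apply hne
        rw [hT] at hc
        obtain ⟨ν, hν, rfl⟩ := Finset.mem_image.mp hc
        have hμc' : SameBlock M ν.1 μ.1 := hμc
        exact Cfsg.Agent.H80.blockOf_eq_of_sameBlock hM (Cfsg.Agent.H80.sameBlock_symm hμc')
      · intro hnot
        exfalso; apply hnot
        rw [hT]
        exact Finset.mem_image.mpr ⟨μ, by simp [hμ], rfl⟩
    · rw [if_neg hμ]
      symm
      apply Finset.sum_eq_zero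
      intro c hc
      rw [hT] at hc
      obtain ⟨ν, hν, rfl⟩ := Finset.mem_image.mp hc
      rw [if_neg]
      intro hμc
      exact hμ (hA ν (Finset.mem_filter.mp hν).2 μ hμc)
  rw [hsum]
  apply memLocalRing_sum hM
  intro c hc
  rw [hT] at hc
  obtain ⟨ν, hν, rfl⟩ := Finset.mem_image.mp hc
  exact blockCoeff_memLocalRing hM ν h

end General

section Normal

variable {G : Type*} [Group G] {M : Ideal AlgInt} (N : Subgroup G) [hN : N.Normal]

/-- Conjugation by `G` preserves the block relation on a normal subgroup. -/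
theorem sameBlock_conjIrr (g : G) (μ ν : IrrCharacter N) :
    SameBlock M (conjIrr N g μ).1 (conjIrr N g ν).1 ↔ SameBlock M μ.1 ν.1 := by
  change SameBlock M (conjChar N μ.1 g) (conjChar N ν.1 g) ↔ _
  rw [conjChar_eq_comp, conjChar_eq_comp]
  exact sameBlock_comp_mulEquiv (MulAut.conjNormal g) μ.1 ν.1

theorem conjIrr_conjIrr (g h : G) (μ : IrrCharacter N) :
    conjIrr N h (conjIrr N g μ) = conjIrr N (g * h) μ :=
  Subtype.ext (conjChar_conjChar N μ.1 g h)

theorem conjIrr_one (μ : IrrCharacter N) : conjIrr N 1 μ = μ :=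
  Subtype.ext (conjChar_one N μ.1)

/-- The union of the `G`-conjugates of a set of irreducible characters of `N`. -/
def orbitSet (b : Set (IrrCharacter N)) : Set (IrrCharacter N) :=
  {μ | ∃ g : G, conjIrr N g μ ∈ b}

theorem subset_orbitSet (b : Set (IrrCharacter N)) : b ⊆ orbitSet N b := fun μ hμ =>
  ⟨1, by rwa [conjIrr_one]⟩

theorem orbitSet_stable (b : Set (IrrCharacter N)) (g : G) (μ : IrrCharacter N) :
    conjIrr N g μ ∈ orbitSet N b ↔ μ ∈ orbitSet N b := by
  constructor
  · rintro ⟨x, hx⟩
    rw [conjIrr_conjIrr] at hx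
    exact ⟨g * x, hx⟩
  · rintro ⟨x, hx⟩
    refine ⟨g⁻¹ * x, ?_⟩
    rw [conjIrr_conjIrr, mul_inv_cancel_left]
    exact hx

theorem orbitSet_closed (hM : M.IsPrime) (θ : IrrCharacter N) :
    ∀ μ ∈ orbitSet N (blockOf M θ.1), ∀ ν : IrrCharacter N, SameBlock M μ.1 ν.1 →
      ν ∈ orbitSet N (blockOf M θ.1) := by
  rintro μ ⟨g, hg⟩ ν hμν
  exact ⟨g, Cfsg.Agent.H80.sameBlock_trans hM hg ((sameBlock_conjIrr N g μ ν).mpr hμν)⟩

omit hN in
/-- Pairing a class function of `G` with an induced function. -/
theorem sum_mul_indFun [Fintype G] [Fintype N] (c : G → ℂ)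
    (hc : ∀ g x : G, c (x * g * x⁻¹) = c g) (θ : N → ℂ) :
    ∑ g : G, c g * indFun N θ g
      = (Nat.card N : ℂ)⁻¹ * ((Nat.card G : ℂ) * ∑ n : N, c n * θ n) := by
  classical
  unfold indFun
  have h1 : ∀ x : G, ∑ g : G, c g * extendByZero N θ (x⁻¹ * g * x) = ∑ n : N, c n * θ n := by
    intro x
    rw [← Equiv.sum_comp (MulAut.conj x).toEquiv]
    have h2 : ∀ g : G, c ((MulAut.conj x).toEquiv g)
        * extendByZero N θ (x⁻¹ * (MulAut.conj x).toEquiv g * x)
        = extendByZero N θ g * c g := by
      intro g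
      have h3 : (MulAut.conj x).toEquiv g = x * g * x⁻¹ := rfl
      rw [h3, hc]
      have h4 : x⁻¹ * (x * g * x⁻¹) * x = g := by group
      rw [h4, mul_comm]
    rw [Finset.sum_congr rfl (fun g _ => h2 g), sum_extendByZero_mul]
    apply Finset.sum_congr rfl
    intro n _
    rw [mul_comm]
  calc ∑ g : G, c g * ((Nat.card N : ℂ)⁻¹ * ∑ x : G, extendByZero N θ (x⁻¹ * g * x))
      = (Nat.card N : ℂ)⁻¹ * ∑ x : G, ∑ g : G, c g * extendByZero N θ (x⁻¹ * g * x) := by
        rw [Finset.sum_comm, Finset.mul_sum]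
        apply Finset.sum_congr rfl
        intro g _
        rw [Finset.mul_sum, Finset.mul_sum, Finset.mul_sum]
        apply Finset.sum_congr rfl
        intro x _
        ring
    _ = (Nat.card N : ℂ)⁻¹ * ((Nat.card G : ℂ) * ∑ n : N, c n * θ n) := by
        rw [Finset.sum_congr rfl (fun x _ => h1 x), Finset.sum_const, Finset.card_univ,
          nsmul_eq_mul, ← Nat.card_eq_fintype_card]

omit hN in
/-- Normalised pairing with an induced function. -/
theorem sum_mul_indFun_div [Fintype G] [Fintype N] (c : G → ℂ)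
    (hc : ∀ g x : G, c (x * g * x⁻¹) = c g) (θ : N → ℂ) (hθ1 : θ 1 ≠ 0) :
    (∑ g : G, c g * indFun N θ g) / indFun N θ 1 = (∑ n : N, c n * θ n) / θ 1 := by
  have hNc : (Nat.card N : ℂ) ≠ 0 := by
    have : 0 < Nat.card N := Nat.card_pos
    exact_mod_cast this.ne'
  have hGc : (Nat.card G : ℂ) ≠ 0 := by
    have : 0 < Nat.card G := Nat.card_pos
    exact_mod_cast this.ne'
  rw [sum_mul_indFun N c hc θ, indFun_one]
  field_simp

omit hN in
/-- If the central character of `χ` agrees on `N` with the induced central character of `θ`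
modulo the local ideal, then `χ` and `θ` take congruent values on every `G`-invariant function
supported on `N` with local-integral values. -/
theorem sum_mul_div_sub_mem_of_congr [Fintype G] [Fintype N] (hM : M.IsPrime) (χ : G → ℂ)
    (hχc : IsClassFunction G χ) (θ : N → ℂ) (hθ1 : θ 1 ≠ 0)
    (hcong : ∀ n : N, MemLocalIdeal M (centralChar χ (n : G) - inducedCentralChar N θ (n : G)))
    (c : G → ℂ) (hc : ∀ g x : G, c (x * g * x⁻¹) = c g) (hc0 : ∀ g : G, g ∉ N → c g = 0)
    (hcR : ∀ g, MemLocalRing M (c g)) :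
    MemLocalIdeal M ((∑ n : N, c n * χ n) / χ 1 - (∑ n : N, c n * θ n) / θ 1) := by
  classical
  have hΘc : IsClassFunction G (indFun N θ) := indFun_isClassFunction N θ
  have hkey : MemLocalIdeal M ((∑ g : G, c g * χ g) / χ 1
      - (∑ g : G, c g * indFun N θ g) / indFun N θ 1) := by
    rw [Finset.sum_div, Finset.sum_div, ← Finset.sum_sub_distrib]
    apply sum_mem_of_conj_closed (localIdeal M hM)
      (fun g => c g * χ g / χ 1 - c g * indFun N θ g / indFun N θ 1)
    · intro g x
      show c (x * g * x⁻¹) * χ (x * g * x⁻¹) / χ 1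
        - c (x * g * x⁻¹) * indFun N θ (x * g * x⁻¹) / indFun N θ 1 = _
      rw [hc, hχc, hΘc]
    · intro g
      rw [mem_localIdeal]
      by_cases hg : g ∈ N
      · have h1 := hcong ⟨g, hg⟩
        rw [Cfsg.Agent.S0932.inducedCentralChar_eq] at h1
        have h2 := memLocalIdeal_mul_left hM (hcR g) h1
        unfold centralChar at h2
        convert h2 using 1
        simp only
        ring
      · rw [hc0 g hg]
        simp only [zero_mul, zero_div, sub_zero, mul_zero]
        exact memLocalIdeal_zero hM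
    · intro g _ x; exact Finset.mem_univ _
  rw [sum_mul_indFun_div N c hc θ hθ1] at hkey
  have h3 : ∑ g : G, c g * χ g = ∑ n : N, c n * χ n := by
    have h4 : ∀ g : G, c g * χ g = extendByZero N (fun n : N => c n) g * χ g := by
      intro g
      by_cases hg : g ∈ N
      · rw [extendByZero_of_mem N _ hg]
      · rw [extendByZero_of_not_mem N _ hg, hc0 g hg]
    rw [Finset.sum_congr rfl (fun g _ => h4 g), sum_extendByZero_mul]
  rw [h3] at hkey
  exact hkey

/-- If `χ` lies over `θ`, then `χ` and `θ` take the same normalised value on every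
`G`-invariant function supported on `N`. -/
theorem sum_mul_div_eq_of_over [Fintype G] [Fintype N] (χ : IrrCharacter G) (θ : IrrCharacter N)
    (hover : classInner (fun n : N => χ.1 n) θ.1 ≠ 0)
    (c : G → ℂ) (hc : ∀ g x : G, c (x * g * x⁻¹) = c g) (hc0 : ∀ g : G, g ∉ N → c g = 0) :
    (∑ n : N, c n * χ.1 n) / χ.1 1 = (∑ n : N, c n * θ.1 n) / θ.1 1 := by
  classical
  have hχ1 : χ.1 1 ≠ 0 := Cfsg.Agent.H4.irr_one_ne_zero χ
  have hθ1 : θ.1 1 ≠ 0 := Cfsg.Agent.H4.irr_one_ne_zero θ
  have hNc : (Nat.card N : ℂ) ≠ 0 := by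
    have : 0 < Nat.card N := Nat.card_pos
    exact_mod_cast this.ne'
  have hGc : (Nat.card G : ℂ) ≠ 0 := by
    have : 0 < Nat.card G := Nat.card_pos
    exact_mod_cast this.ne'
  have hΘ1 : indFun N θ.1 1 ≠ 0 := by
    rw [indFun_one]
    exact mul_ne_zero (inv_ne_zero hNc) (mul_ne_zero hGc hθ1)
  have h0 := (Cfsg.Agent.S0963.result N χ θ).mp hover
  have h1 : ∀ n : N, χ.1 n / χ.1 1 = indFun N θ.1 n / indFun N θ.1 1 := by
    intro n
    have h2 := (Cfsg.Agent.S0963.key N χ.1 θ.1 hχ1 hθ1 (n : G)).mp (h0 n)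
    field_simp
    rw [h2]
  rw [← sum_mul_indFun_div N c hc θ.1 hθ1]
  have h3 : ∑ g : G, c g * indFun N θ.1 g = ∑ n : N, c n * indFun N θ.1 n := by
    have h4 : ∀ g : G, c g * indFun N θ.1 g
        = extendByZero N (fun n : N => c n) g * indFun N θ.1 g := by
      intro g
      by_cases hg : g ∈ N
      · rw [extendByZero_of_mem N _ hg]
      · rw [extendByZero_of_not_mem N _ hg, hc0 g hg]
    rw [Finset.sum_congr rfl (fun g _ => h4 g), sum_extendByZero_mul]
  rw [h3, Finset.sum_div, Finset.sum_div]
  apply Finset.sum_congr rfl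
  intro n _
  rw [mul_div_assoc, h1 n, mul_div_assoc]

/-- The extension by zero of the idempotent coefficients of a stable set of characters of `N` is
`G`-invariant. -/
theorem extendByZero_blockCoeff_conj [Fintype N] (A : Set (IrrCharacter N))
    (hA : ∀ (g : G) (μ : IrrCharacter N), conjIrr N g μ ∈ A ↔ μ ∈ A) (g x : G) :
    extendByZero N (blockCoeff A) (x * g * x⁻¹) = extendByZero N (blockCoeff A) g := by
  by_cases hg : g ∈ N
  · have hg' : x * g * x⁻¹ ∈ N := hN.conj_mem g hg x
    rw [extendByZero_of_mem N _ hg', extendByZero_of_mem N _ hg]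
    exact blockCoeff_conj_of_stable N A hA x ⟨g, hg⟩
  · have hg' : x * g * x⁻¹ ∉ N := by
      intro h
      apply hg
      have := hN.conj_mem _ h x⁻¹
      simpa [mul_assoc] using this
    rw [extendByZero_of_not_mem N _ hg', extendByZero_of_not_mem N _ hg]

/-- **Covering criterion.**  Let `A` be a `G`-stable union of blocks of the normal subgroup `N`
and `θ ∈ A`.  If the central character of `χ ∈ Irr(G)` agrees on `N` with the induced central
character of `θ` modulo the local ideal, then `χ` lies over a member of `A`. -/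
theorem exists_over_of_congr [Fintype G] [Fintype N] (hM : M.IsPrime)
    (A : Set (IrrCharacter N))
    (hA : ∀ (g : G) (μ : IrrCharacter N), conjIrr N g μ ∈ A ↔ μ ∈ A)
    (hAc : ∀ μ ∈ A, ∀ ν : IrrCharacter N, SameBlock M μ.1 ν.1 → ν ∈ A)
    (χ : IrrCharacter G) (θ : IrrCharacter N) (hθ : θ ∈ A)
    (hcong : ∀ n : N, MemLocalIdeal M
      (centralChar χ.1 (n : G) - inducedCentralChar N θ.1 (n : G))) :
    ∃ μ ∈ A, classInner (fun n : N => χ.1 n) μ.1 ≠ 0 := by
  classical
  by_contra hcon
  push Not at hcon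
  have hχc : IsClassFunction G χ.1 := irr_isClassFunction χ
  have hθ1 : θ.1 1 ≠ 0 := Cfsg.Agent.H4.irr_one_ne_zero θ
  have hzR : ∀ g : G, MemLocalRing M (extendByZero N (blockCoeff A) g) := by
    intro g
    by_cases hg : g ∈ N
    · rw [extendByZero_of_mem N _ hg]
      exact blockCoeff_memLocalRing_of_closed hM A hAc _
    · rw [extendByZero_of_not_mem N _ hg]; exact memLocalRing_zero hM
  have key := sum_mul_div_sub_mem_of_congr N hM χ.1 hχc θ.1 hθ1 hcong
    (extendByZero N (blockCoeff A)) (extendByZero_blockCoeff_conj N A hA)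
    (fun g hg => extendByZero_of_not_mem N _ hg) hzR
  have hext : ∀ n : N, extendByZero N (blockCoeff A) (n : G) = blockCoeff A n := by
    intro n
    rw [extendByZero_of_mem N _ n.2]
  simp only [hext] at key
  have hχres : IsClassFunction N (fun n : N => χ.1 n) :=
    isClassFunction_of_isCharacter (isCharacter_restrict N (isCharacter_of_isIrrCharacter χ.2))
  have h1 : ∑ n : N, blockCoeff A n * χ.1 n = 0 := by
    rw [sum_blockCoeff_mul_classFunction A hχres]
    apply finsum_mem_eq_zero_of_forall_eq_zero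
    intro μ hμ
    rw [hcon μ hμ, zero_mul]
  have h2 : ∑ n : N, blockCoeff A n * θ.1 n = θ.1 1 := by
    rw [sum_blockCoeff_mul_irr A θ, if_pos hθ]
  rw [h1, h2, zero_div, zero_sub, div_self hθ1] at key
  exact not_memLocalIdeal_one hM (by simpa using memLocalIdeal_neg key)

/-- **Blocks covering a block, `p`-power index.**  If `G/N` is a `p`-group, `χ` lies over `θ`,
`χ'` lies over `θ'`, and `θ`, `θ'` lie in the same block of `N`, then `χ` and `χ'` lie in the
same block of `G`. -/
theorem sameBlock_of_over_sameBlock_of_index_pow [Fintype G] [Fintype N] {p : ℕ}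
    (hM : IsPModular p M) (hidx : ∃ k : ℕ, N.index = p ^ k) (χ χ' : IrrCharacter G)
    (θ θ' : IrrCharacter N) (hχ : classInner (fun n : N => χ.1 n) θ.1 ≠ 0)
    (hχ' : classInner (fun n : N => χ'.1 n) θ'.1 ≠ 0) (hθ : SameBlock M θ.1 θ'.1) :
    SameBlock M χ.1 χ'.1 := by
  classical
  have hMp := isPrime_of_isPModular hM
  have hp : p.Prime := hM.1
  have hsing : ∀ g : G, g ∉ N → p ∣ orderOf g := by
    intro g hg
    obtain ⟨k, hk⟩ := hidx
    have hq : (QuotientGroup.mk g : G ⧸ N) ≠ 1 := fun h => hg ((QuotientGroup.eq_one_iff g).mp h)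
    have h1 : orderOf (QuotientGroup.mk g : G ⧸ N) ∣ p ^ k := by
      rw [← hk, Subgroup.index_eq_card]
      exact orderOf_dvd_natCard _
    obtain ⟨j, -, hj'⟩ := (Nat.dvd_prime_pow hp).mp h1
    have hj0 : j ≠ 0 := by
      rintro rfl
      rw [pow_zero, orderOf_eq_one_iff] at hj'
      exact hq hj'
    have h2 : p ∣ orderOf (QuotientGroup.mk g : G ⧸ N) := by
      rw [hj']; exact dvd_pow_self p hj0
    exact h2.trans (orderOf_map_dvd (QuotientGroup.mk' N) g)
  obtain ⟨c, hcdef⟩ : ∃ c : G → ℂ, c = blockCoeff (blockOf M χ.1) := ⟨_, rfl⟩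
  have hc0 : ∀ g : G, g ∉ N → c g = 0 := fun g hg => by
    rw [hcdef]
    exact Cfsg.Agent.H84.blockCoeff_eq_zero_of_singular hM χ g (hsing g hg)
  have hc : ∀ g x : G, c (x * g * x⁻¹) = c g := by
    intro g x
    rw [hcdef]
    exact blockCoeff_conj_invariant _ g x
  have hcR : ∀ g, MemLocalRing M (c g) := by
    intro g
    rw [hcdef]
    exact blockCoeff_memLocalRing hMp χ g
  have hsumN : ∀ φ : G → ℂ, ∑ g : G, c g * φ g = ∑ n : N, c n * φ n := by
    intro φ
    have h1 : ∀ g : G, c g * φ g = extendByZero N (fun n : N => c n) g * φ g := by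
      intro g
      by_cases hg : g ∈ N
      · rw [extendByZero_of_mem N _ hg]
      · rw [extendByZero_of_not_mem N _ hg, hc0 g hg]
    rw [Finset.sum_congr rfl (fun g _ => h1 g), sum_extendByZero_mul]
  have e1 := sum_mul_div_eq_of_over N χ θ hχ c hc hc0
  have e2 := sum_mul_div_eq_of_over N χ' θ' hχ' c hc hc0
  have e3 := sum_mul_div_sub_memLocalIdeal hMp θ.1 θ'.1 (irr_isClassFunction θ)
    (irr_isClassFunction θ') hθ (fun n : N => c n)
    (fun n x => hc (n : G) (x : G)) (fun n => hcR n)
  rw [← e1, ← e2, ← hsumN, ← hsumN, hcdef, sum_blockCoeff_mul_irr, sum_blockCoeff_mul_irr,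
    if_pos (Cfsg.Agent.H80.mem_blockOf_self hMp χ),
    div_self (Cfsg.Agent.H4.irr_one_ne_zero χ)] at e3
  by_contra hnot
  have hnot' : χ' ∉ blockOf M χ.1 := hnot
  rw [if_neg hnot', zero_div, sub_zero] at e3
  exact not_memLocalIdeal_one hMp e3

end Normal

section Induced

variable {G : Type*} [Group G] {M : Ideal AlgInt}

/-- Functions on a subgroup in the same block have congruent induced central characters. -/
theorem inducedCentralChar_sub_mem_of_sameBlock_gen [Fintype G] (hM : M.IsPrime) (K : Subgroup G)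
    [Fintype K] (ξ θ : K → ℂ) (hξc : IsClassFunction K ξ) (hθc : IsClassFunction K θ)
    (hsame : SameBlock M ξ θ) (g : G) :
    MemLocalIdeal M (inducedCentralChar K ξ g - inducedCentralChar K θ g) := by
  classical
  have hfin : (Set.toFinite {h : K | IsConj g (h : G)}).toFinset
      = Finset.univ.filter (fun h : K => IsConj g (h : G)) := by
    ext h; simp
  unfold inducedCentralChar
  rw [finsum_mem_eq_finite_toFinset_sum _ (Set.toFinite _),
    finsum_mem_eq_finite_toFinset_sum _ (Set.toFinite _), hfin, ← Finset.sum_sub_distrib]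
  apply sum_mem_of_conj_closed (localIdeal M hM) (fun h : K => ξ h / ξ 1 - θ h / θ 1)
  · intro h x
    show ξ (x * h * x⁻¹) / ξ 1 - θ (x * h * x⁻¹) / θ 1 = _
    rw [hξc, hθc]
  · intro h
    rw [mem_localIdeal]
    have h1 := hsame h
    unfold centralChar at h1
    convert h1 using 1
    ring
  · intro h hh x
    rw [Finset.mem_filter] at hh ⊢
    refine ⟨Finset.mem_univ _, ?_⟩
    have h2 : IsConj (h : G) ((x * h * x⁻¹ : K) : G) := by
      rw [isConj_iff]
      exact ⟨(x : G), by push_cast; rfl⟩
    exact hh.2.trans h2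

end Induced

end Cfsg.Agent.H79
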