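import Mathlib
import Cfsg.Prelude.Def_Blocks
import Cfsg.Agent.H79.Covering
import Cfsg.Agent.H79.RelDefectZero

/-!
# Support of block idempotents and normal `p`-subgroups (helper79)

* `sameBlock_of_common_over`: if `Q` is a normal `p`-subgroup of `G` and `N` a normal subgroup
  containing `C_G(Q)`, irreducible characters of `G` lying over a common irreducible character of
  `N` lie in the same block.
* `blockCoeff_eq_zero_of_not_mem_normal`: in that situation the block idempotents of `G` are
  supported on `N`.
* `blockCoeff_eq_zero_of_not_mem_centralizer`: the block idempotents of `G` are supported on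
  `C_G(Q)` for every normal `p`-subgroup `Q`.
-/

set_option autoImplicit false

namespace Cfsg.Agent.H79

open Cfsg Cfsg.Agent.H20 Cfsg.Agent.H4 Cfsg.Agent.Clifford
open scoped ComplexConjugate

section

variable {G : Type*} [Group G] [Fintype G] {M : Ideal AlgInt} {p : ℕ}

/-- Characters of `G` over a common character of a normal subgroup containing the centralizer of
a normal `p`-subgroup lie in the same block. -/
theorem sameBlock_of_common_over (hM : IsPModular p M) (Q : Subgroup G) [Q.Normal]
    (hQ : IsPGroup p Q) (N : Subgroup G) [N.Normal] [Fintype N]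
    (hCN : Subgroup.centralizer (Q : Set G) ≤ N) (χ χ' : IrrCharacter G) (μ : IrrCharacter N)
    (h : classInner (fun n : N => χ.1 n) μ.1 ≠ 0)
    (h' : classInner (fun n : N => χ'.1 n) μ.1 ≠ 0) : SameBlock M χ.1 χ'.1 := by
  have hMp := isPrime_of_isPModular hM
  intro g
  by_cases hg : g ∈ N
  · have h1 := (Cfsg.Agent.S0963.result N χ μ).mp h ⟨g, hg⟩
    have h2 := (Cfsg.Agent.S0963.result N χ' μ).mp h' ⟨g, hg⟩
    have h3 : centralChar χ.1 g = centralChar χ'.1 g := h1.trans h2.symm
    rw [h3, sub_self]
    exact memLocalIdeal_zero hMp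
  · have hgC : g ∉ Subgroup.centralizer (Q : Set G) := fun hc => hg (hCN hc)
    exact memLocalIdeal_sub hMp
      (Cfsg.Agent.H84.centralChar_memLocalIdeal_of_not_mem_centralizer hM Q hQ g hgC χ)
      (Cfsg.Agent.H84.centralChar_memLocalIdeal_of_not_mem_centralizer hM Q hQ g hgC χ')

/-- If `Q` is a normal `p`-subgroup of `G` and `N` a normal subgroup containing `C_G(Q)`, the
block idempotents of `G` are supported on `N`. -/
theorem blockCoeff_eq_zero_of_not_mem_normal (hM : IsPModular p M) (Q : Subgroup G) [Q.Normal]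
    (hQ : IsPGroup p Q) (N : Subgroup G) [hN : N.Normal] [Fintype N]
    (hCN : Subgroup.centralizer (Q : Set G) ≤ N) (χ₀ : IrrCharacter G) (g : G) (hg : g ∉ N) :
    blockCoeff (blockOf M χ₀.1) g = 0 := by
  classical
  have hMp := isPrime_of_isPModular hM
  obtain ⟨A, hAdef⟩ : ∃ A : Set (IrrCharacter N), A = {μ : IrrCharacter N |
      ∃ χ ∈ blockOf M χ₀.1, classInner (fun n : N => (χ : G → ℂ) n) μ.1 ≠ 0} := ⟨_, rfl⟩
  have hA : ∀ (x : G) (μ : IrrCharacter N), conjIrr N x μ ∈ A ↔ μ ∈ A := by
    intro x μ
    rw [hAdef]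
    constructor
    · rintro ⟨χ, hχ, hc⟩
      exact ⟨χ, hχ, (constituents_stable N (irr_isClassFunction χ) x μ).mp hc⟩
    · rintro ⟨χ, hχ, hc⟩
      exact ⟨χ, hχ, (constituents_stable N (irr_isClassFunction χ) x μ).mpr hc⟩
  obtain ⟨z, hzdef⟩ : ∃ z : MonoidAlgebra ℂ G,
      z = ∑ x : G, MonoidAlgebra.single x (extendByZero N (blockCoeff A) x) := ⟨_, rfl⟩
  have hzc : ∀ x : G, z.coeff x = extendByZero N (blockCoeff A) x := by
    intro x
    rw [hzdef, coeff_sum_single]
  have hzCF : IsCF z := by
    intro x y
    rw [hzc, hzc]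
    exact extendByZero_blockCoeff_conj N A hA x y
  have hω : ∀ χ : IrrCharacter G, omega (χ : G → ℂ) z
      = if χ ∈ blockOf M χ₀.1 then 1 else 0 := by
    intro χ
    have hχres : IsClassFunction N (fun n : N => χ.1 n) :=
      isClassFunction_of_isCharacter (isCharacter_restrict N (isCharacter_of_isIrrCharacter χ.2))
    have hχ1 : χ.1 1 ≠ 0 := Cfsg.Agent.H4.irr_one_ne_zero χ
    unfold omega
    simp only [hzc]
    rw [sum_extendByZero_mul, sum_blockCoeff_mul_classFunction A hχres]
    let _ : Fintype (IrrCharacter N) := fintypeIrr N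
    rw [finsum_mem_irr]
    split_ifs with hχB
    · have hexp := congrFun (classFunction_eq_finsum hχres) 1
      rw [finsum_irr_apply, finsum_irr_eq_sum] at hexp
      have h3 : χ.1 ((1 : N) : G) = χ.1 1 := rfl
      have h4 : ∑ μ : IrrCharacter N,
          (if μ ∈ A then classInner (fun n : N => χ.1 n) μ.1 * μ.1 1 else 0) = χ.1 1 := by
        rw [← h3, hexp]
        apply Finset.sum_congr rfl
        intro μ _
        split_ifs with hμ
        · rfl
        · have hμ0 : classInner (fun n : N => χ.1 n) μ.1 = 0 := by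
            by_contra hne
            apply hμ
            rw [hAdef]
            exact ⟨χ, hχB, hne⟩
          rw [hμ0, zero_mul]
      rw [h4, div_self hχ1]
    · have h4 : ∑ μ : IrrCharacter N,
          (if μ ∈ A then classInner (fun n : N => χ.1 n) μ.1 * μ.1 1 else 0) = 0 := by
        apply Finset.sum_eq_zero
        intro μ _
        split_ifs with hμ
        · have hμ0 : classInner (fun n : N => χ.1 n) μ.1 = 0 := by
            by_contra hne
            apply hχB
            rw [hAdef] at hμ
            obtain ⟨χ', hχ', hc'⟩ := hμ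
            have hs := sameBlock_of_common_over hM Q hQ N hCN χ' χ μ hc' hne
            exact Cfsg.Agent.H80.sameBlock_trans hMp hχ' hs
          rw [hμ0, zero_mul]
        · rfl
      rw [h4, zero_div]
  have hcoeff := coeff_eq_blockCoeff hzCF (blockOf M χ₀.1) hω g
  rw [← hcoeff, hzc, extendByZero_of_not_mem N _ hg]

/-- **Block idempotents are supported on the centralizer of a normal `p`-subgroup.** -/
theorem blockCoeff_eq_zero_of_not_mem_centralizer (hM : IsPModular p M) (Q : Subgroup G)
    [Q.Normal] (hQ : IsPGroup p Q) (χ₀ : IrrCharacter G) (g : G)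
    (hg : g ∉ Subgroup.centralizer (Q : Set G)) : blockCoeff (blockOf M χ₀.1) g = 0 := by
  classical
  exact blockCoeff_eq_zero_of_not_mem_normal hM Q hQ (Subgroup.centralizer (Q : Set G)) le_rfl
    χ₀ g hg

end

end Cfsg.Agent.H79
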