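import Mathlib
import Cfsg.Prelude.Def_Blocks
import Cfsg.Agent.H79.NormalSupport
import Cfsg.Agent.H79.BrauerSupport
import Cfsg.Agent.H79.GreenZero
import Cfsg.Agent.H80.Orbit
import Cfsg.Agent.H81.DefectCount

/-!
# Blocks covering a stable block of a normal subgroup (helper79)

* `isDefectGroup_of_card`: a `p`-subgroup of the centralizer of a defect class with the order of
  a Sylow `p`-subgroup of that centralizer is a defect group.
* `blockCoeff_over_eq`: for a `G`-stable set `A` of irreducible characters of `N ⊴ G`, the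
  idempotent of the characters of `G` over `A` is the idempotent of `A`.
* `blockCoeff_eq_sum_mul_of_subset`: `e_B e_C = e_B` for `B ⊆ C`, coefficientwise.
* `exists_coeff_centralizing`: if the block `B` covers the stable block `b`, `a_B(g) ∉ J` and the
  `p`-subgroup `Q` centralizes `g`, there is `n ∈ C_N(Q)` with `a_b(n) ∉ J`.
* `inducedCentralChar_sub_index_mul_mem`: for `θ` in a stable block,
  `ω_θ^G(n) ≡ |G : N C_G(n)| ω_θ(n)`.
* `exists_defectClass_index`: a stable block has a defect class `n` with `p ∤ |G : N C_G(n)|`.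
-/

set_option autoImplicit false
set_option linter.unusedSectionVars false
set_option linter.style.haveILetI false

namespace Cfsg.Agent.H79

open Cfsg Cfsg.Agent.H20 Cfsg.Agent.H4 Cfsg.Agent.Clifford
open scoped ComplexConjugate

section General

variable {G : Type*} [Group G] [Fintype G] {M : Ideal AlgInt} {p : ℕ}

/-- A subgroup of the centralizer of a defect class with the order of a Sylow `p`-subgroup of that
centralizer is a defect group. -/
theorem isDefectGroup_of_card [Fact p.Prime] (B : Set (IrrCharacter G)) (g : G)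
    (hg : IsDefectClass M B g) (D : Subgroup G)
    (hDg : D ≤ Subgroup.centralizer ({g} : Set G))
    (hcard : Nat.card D = p ^ (Nat.card (Subgroup.centralizer ({g} : Set G))).factorization p) :
    IsDefectGroup p M B D := by
  have hc : Nat.card (D.subgroupOf (Subgroup.centralizer ({g} : Set G)))
      = p ^ (Nat.card (Subgroup.centralizer ({g} : Set G))).factorization p := by
    rw [Nat.card_congr (Subgroup.subgroupOfEquivOfLe hDg).toEquiv]
    exact hcard
  refine ⟨g, hg, Sylow.ofCard _ hc, ?_⟩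
  rw [Sylow.coe_ofCard]
  exact (Subgroup.map_subgroupOf_eq_of_le hDg).symm

/-- `e_B e_C = e_B` for `B ⊆ C`, read off at the coefficient of `g`. -/
theorem blockCoeff_eq_sum_mul_of_subset (B C : Set (IrrCharacter G)) (hBC : B ⊆ C) (g : G) :
    blockCoeff B g = ∑ x : G, blockCoeff B x * blockCoeff C (x⁻¹ * g) := by
  classical
  have hω : ∀ χ : IrrCharacter G,
      omega (χ : G → ℂ) (blockElt B * blockElt C) = if χ ∈ B then 1 else 0 := by
    intro χ
    rw [omega_mul χ (isCF_blockElt B), omega_blockElt, omega_blockElt]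
    by_cases h : χ ∈ B
    · rw [if_pos h, if_pos (hBC h), one_mul]
    · rw [if_neg h, zero_mul]
  have h1 := coeff_eq_blockCoeff (isCF_mul (isCF_blockElt B) (isCF_blockElt C)) B hω g
  rw [← h1, coeff_mul_fintype]
  simp only [coeff_blockElt]

/-- If the idempotent of a union of blocks has a coefficient outside the local ideal, so does
the idempotent of one of the blocks. -/
theorem exists_blockOf_coeff_not_mem (hM : M.IsPrime) (A : Set (IrrCharacter G))
    (hA : ∀ μ ∈ A, ∀ ν : IrrCharacter G, SameBlock M μ.1 ν.1 → ν ∈ A) (h : G)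
    (hne : ¬ MemLocalIdeal M (blockCoeff A h)) :
    ∃ μ ∈ A, ¬ MemLocalIdeal M (blockCoeff (blockOf M μ.1) h) := by
  classical
  let _ : Fintype (IrrCharacter G) := fintypeIrr G
  obtain ⟨T, hT⟩ : ∃ T : Finset (Set (IrrCharacter G)),
      T = (Finset.univ.filter (fun μ : IrrCharacter G => μ ∈ A)).image (fun μ => blockOf M μ.1) :=
    ⟨_, rfl⟩
  have hsum : blockCoeff A h = ∑ c ∈ T, blockCoeff c h := by
    simp only [blockCoeff_eq]
    rw [← Finset.mul_sum, Finset.sum_comm]
    congr 1
    apply Finset.sum_congr rfl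
    intro μ _
    by_cases hμ : μ ∈ A
    · rw [if_pos hμ, Finset.sum_eq_single (blockOf M μ.1)]
      · rw [if_pos (Cfsg.Agent.H80.mem_blockOf_self hM μ)]
      · intro c hc hne
        rw [if_neg]
        intro hμc
        apply hne
        rw [hT] at hc
        obtain ⟨ν, hν, rfl⟩ := Finset.mem_image.mp hc
        have hμc' : SameBlock M ν.1 μ.1 := hμc
        exact Cfsg.Agent.H80.blockOf_eq_of_sameBlock hM (Cfsg.Agent.H80.sameBlock_symm hμc')
      · intro hnot
        exfalso; apply hnot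
        rw [hT]
        exact Finset.mem_image.mpr ⟨μ, by simp [hμ], rfl⟩
    · rw [if_neg hμ]
      symm
      apply Finset.sum_eq_zero
      intro c hc
      rw [hT] at hc
      obtain ⟨ν, hν, rfl⟩ := Finset.mem_image.mp hc
      rw [if_neg]
      intro hμc
      exact hμ (hA ν (Finset.mem_filter.mp hν).2 μ hμc)
  by_contra hcon
  push Not at hcon
  apply hne
  rw [hsum]
  apply memLocalIdeal_sum hM
  intro c hc
  rw [hT] at hc
  obtain ⟨ν, hν, rfl⟩ := Finset.mem_image.mp hc
  exact hcon ν (Finset.mem_filter.mp hν).2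

end General

section Normal

variable {G : Type*} [Group G] [Fintype G] {M : Ideal AlgInt} {p : ℕ}
  (N : Subgroup G) [hN : N.Normal] [Fintype N]

/-- For a `G`-stable set `A` of irreducible characters of the normal subgroup `N`, the idempotent
of the set of irreducible characters of `G` lying over `A` is the idempotent of `A`. -/
theorem blockCoeff_over_eq (A : Set (IrrCharacter N))
    (hA : ∀ (g : G) (μ : IrrCharacter N), conjIrr N g μ ∈ A ↔ μ ∈ A) (g : G) :
    blockCoeff {χ : IrrCharacter G | ∃ μ ∈ A, classInner (fun n : N => χ.1 n) μ.1 ≠ 0} g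
      = extendByZero N (blockCoeff A) g := by
  classical
  obtain ⟨z, hzdef⟩ : ∃ z : MonoidAlgebra ℂ G,
      z = ∑ x : G, MonoidAlgebra.single x (extendByZero N (blockCoeff A) x) := ⟨_, rfl⟩
  have hzc : ∀ x : G, z.coeff x = extendByZero N (blockCoeff A) x := by
    intro x
    rw [hzdef, coeff_sum_single]
  have hzCF : IsCF z := by
    intro x y
    rw [hzc, hzc]
    exact extendByZero_blockCoeff_conj N A hA x y
  have hω : ∀ χ : IrrCharacter G, omega (χ : G → ℂ) z
      = if χ ∈ {χ : IrrCharacter G | ∃ μ ∈ A, classInner (fun n : N => χ.1 n) μ.1 ≠ 0}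
        then 1 else 0 := by
    intro χ
    have hχres : IsClassFunction N (fun n : N => χ.1 n) :=
      isClassFunction_of_isCharacter (isCharacter_restrict N (isCharacter_of_isIrrCharacter χ.2))
    have hχ1 : χ.1 1 ≠ 0 := Cfsg.Agent.H4.irr_one_ne_zero χ
    unfold omega
    simp only [hzc]
    rw [sum_extendByZero_mul, sum_blockCoeff_mul_classFunction A hχres]
    let _ : Fintype (IrrCharacter N) := fintypeIrr N
    rw [finsum_mem_irr]
    split_ifs with hχC
    · obtain ⟨μ₀, hμ₀A, hμ₀⟩ := hχC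
      have hexp := congrFun (classFunction_eq_finsum hχres) 1
      rw [finsum_irr_apply, finsum_irr_eq_sum] at hexp
      have h3 : χ.1 ((1 : N) : G) = χ.1 1 := rfl
      have h4 : ∑ μ : IrrCharacter N,
          (if μ ∈ A then classInner (fun n : N => χ.1 n) μ.1 * μ.1 1 else 0) = χ.1 1 := by
        rw [← h3, hexp]
        apply Finset.sum_congr rfl
        intro μ _
        split_ifs with hμ
        · rfl
        · have hμ0 : classInner (fun n : N => χ.1 n) μ.1 = 0 := by
            by_contra hne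
            apply hμ
            obtain ⟨x, hx⟩ := clifford_conj N χ.2 μ₀.2 μ.2 hμ₀ hne
            have hμeq : μ = conjIrr N x μ₀ := Subtype.ext hx
            rw [hμeq]
            exact (hA x μ₀).mpr hμ₀A
          rw [hμ0, zero_mul]
      rw [h4, div_self hχ1]
    · have h4 : ∑ μ : IrrCharacter N,
          (if μ ∈ A then classInner (fun n : N => χ.1 n) μ.1 * μ.1 1 else 0) = 0 := by
        apply Finset.sum_eq_zero
        intro μ _
        split_ifs with hμ
        · have hμ0 : classInner (fun n : N => χ.1 n) μ.1 = 0 := by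
            by_contra hne
            exact hχC ⟨μ, hμ, hne⟩
          rw [hμ0, zero_mul]
        · rfl
      rw [h4, zero_div]
  exact (coeff_eq_blockCoeff hzCF _ hω g).symm.trans (hzc g)

/-- **Coefficients on centralizers.**  Let the block `B` of `G` cover the `G`-stable set `b` of
irreducible characters of `N` (every member of `B` lies over a member of `b`), whose idempotent
has local-integral coefficients.  If `a_B(g) ∉ J` and the `p`-subgroup `Q` centralizes `g`, then
some `n ∈ C_N(Q)` has `a_b(n) ∉ J`. -/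
theorem exists_coeff_centralizing [Fact p.Prime] (hM : IsPModular p M)
    (b : Set (IrrCharacter N))
    (hbst : ∀ (g : G) (μ : IrrCharacter N), conjIrr N g μ ∈ b ↔ μ ∈ b)
    (hbR : ∀ n : N, MemLocalRing M (blockCoeff b n))
    (χ₀ : IrrCharacter G)
    (hcov : ∀ χ ∈ blockOf M χ₀.1, ∃ μ ∈ b, classInner (fun n : N => χ.1 n) μ.1 ≠ 0)
    (g : G) (hg : ¬ MemLocalIdeal M (blockCoeff (blockOf M χ₀.1) g))
    (Q : Subgroup G) (hQ : IsPGroup p Q) (hQg : Q ≤ Subgroup.centralizer ({g} : Set G)) :
    ∃ n : N, ¬ MemLocalIdeal M (blockCoeff b n)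
      ∧ (n : G) ∈ Subgroup.centralizer (Q : Set G) := by
  classical
  have hMp := isPrime_of_isPModular hM
  by_contra hcon
  push Not at hcon
  apply hg
  have hgQ : g ∈ Subgroup.centralizer (Q : Set G) := by
    rw [Subgroup.mem_centralizer_iff]
    intro u hu
    have h1 := Subgroup.mem_centralizer_iff.mp (hQg hu) g rfl
    exact h1.symm
  obtain ⟨C, hCdef⟩ : ∃ C : Set (IrrCharacter G),
      C = {χ : IrrCharacter G | ∃ μ ∈ b, classInner (fun n : N => χ.1 n) μ.1 ≠ 0} := ⟨_, rfl⟩
  have hBC : blockOf M χ₀.1 ⊆ C := by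
    intro χ hχ; rw [hCdef]; exact hcov χ hχ
  have hCcoeff : ∀ y, blockCoeff C y = extendByZero N (blockCoeff b) y := by
    intro y; rw [hCdef]; exact blockCoeff_over_eq N b hbst y
  rw [blockCoeff_eq_sum_mul_of_subset _ C hBC g]
  simp only [hCcoeff]
  obtain ⟨F, hFdef⟩ : ∃ F : G → ℂ, F = fun x => blockCoeff (blockOf M χ₀.1) x
      * extendByZero N (blockCoeff b) (x⁻¹ * g) := ⟨_, rfl⟩
  have hFx : ∀ x, blockCoeff (blockOf M χ₀.1) x * extendByZero N (blockCoeff b) (x⁻¹ * g)
      = F x := by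
    intro x; rw [hFdef]
  simp only [hFx]
  -- the terms from the centralizer of `Q`
  have hcent : ∀ x : G, x ∈ Subgroup.centralizer (Q : Set G) → MemLocalIdeal M (F x) := by
    intro x hx
    rw [hFdef]
    apply memLocalIdeal_mul_left hMp (blockCoeff_memLocalRing hMp χ₀ x)
    by_cases hxg : x⁻¹ * g ∈ N
    · rw [extendByZero_of_mem N _ hxg]
      by_contra hnot
      exact hcon ⟨x⁻¹ * g, hxg⟩ hnot (Subgroup.mul_mem _ (Subgroup.inv_mem _ hx) hgQ)
    · rw [extendByZero_of_not_mem N _ hxg]; exact memLocalIdeal_zero hMp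
  have hextR : ∀ y : G, MemLocalRing M (extendByZero N (blockCoeff b) y) := by
    intro y
    by_cases hy : y ∈ N
    · rw [extendByZero_of_mem N _ hy]; exact hbR _
    · rw [extendByZero_of_not_mem N _ hy]; exact memLocalRing_zero hMp
  have hFR : ∀ x : G, MemLocalRing M (F x) := by
    intro x
    rw [hFdef]
    exact memLocalRing_mul hMp (blockCoeff_memLocalRing hMp χ₀ x) (hextR _)
  have hsplit := (Finset.sum_filter_add_sum_filter_not (Finset.univ : Finset G)
    (fun x => x ∈ Subgroup.centralizer (Q : Set G)) F).symm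
  rw [hsplit]
  apply memLocalIdeal_add hMp
  · apply memLocalIdeal_sum hMp
    intro x hx
    exact hcent x (Finset.mem_filter.mp hx).2
  · have h2 : ∑ x ∈ Finset.univ.filter (fun x => x ∉ Subgroup.centralizer (Q : Set G)), F x
        ∈ localIdeal M hMp := by
      apply Cfsg.Agent.H80.sum_mem_of_conj p Q hQ (localIdeal M hMp) F
      · intro x hx u hu
        rw [Finset.mem_filter] at hx ⊢
        refine ⟨Finset.mem_univ _, fun h => hx.2 ?_⟩
        rw [Subgroup.mem_centralizer_iff] at h ⊢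
        intro v hv
        have hv' : u * v * u⁻¹ ∈ (Q : Set G) :=
          Q.mul_mem (Q.mul_mem hu hv) (Q.inv_mem hu)
        have h1 := h (u * v * u⁻¹) hv'
        have h2 : u * v * x * u⁻¹ = u * x * v * u⁻¹ := by
          have e1 : u * v * u⁻¹ * (u * x * u⁻¹) = u * v * x * u⁻¹ := by group
          have e2 : u * x * u⁻¹ * (u * v * u⁻¹) = u * x * v * u⁻¹ := by group
          rw [← e1, ← e2]; exact h1
        have h3 : u * (v * x) * u⁻¹ = u * (x * v) * u⁻¹ := by
          simpa [mul_assoc] using h2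
        exact mul_left_cancel (mul_right_cancel h3)
      · intro x hx u hu
        rw [hFdef]
        show blockCoeff (blockOf M χ₀.1) (u * x * u⁻¹)
          * extendByZero N (blockCoeff b) ((u * x * u⁻¹)⁻¹ * g)
          = blockCoeff (blockOf M χ₀.1) x * extendByZero N (blockCoeff b) (x⁻¹ * g)
        rw [blockCoeff_conj_invariant]
        have hug : u * g = g * u := Subgroup.mem_centralizer_iff.mp hgQ u hu
        have hug' : u⁻¹ * g = g * u⁻¹ := by
          have : g = u * g * u⁻¹ := by rw [hug]; group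
          calc u⁻¹ * g = u⁻¹ * (u * g * u⁻¹) := by rw [← this]
            _ = g * u⁻¹ := by group
        have e : (u * x * u⁻¹)⁻¹ * g = u * (x⁻¹ * g) * u⁻¹ := by
          calc (u * x * u⁻¹)⁻¹ * g = u * x⁻¹ * (u⁻¹ * g) := by group
            _ = u * x⁻¹ * (g * u⁻¹) := by rw [hug']
            _ = u * (x⁻¹ * g) * u⁻¹ := by group
        rw [e, extendByZero_blockCoeff_conj N b hbst]
      · intro x hx
        exact (Finset.mem_filter.mp hx).2
      · intro x _
        rw [mem_localIdeal, nsmul_eq_mul]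
        exact memLocalIdeal_mul_right hMp (memLocalIdeal_natCast_self hM) (hFR x)
    exact h2

end Normal

section Index

variable {G : Type*} [Group G] [Fintype G] {M : Ideal AlgInt} {p : ℕ}
  (N : Subgroup G) [hN : N.Normal] [Fintype N]

/-- The centralizer in `N` of `n ∈ N` is the trace on `N` of its centralizer in `G`. -/
theorem centralizer_subtype_eq (n : N) :
    Subgroup.centralizer ({n} : Set N)
      = (Subgroup.centralizer ({(n : G)} : Set G)).subgroupOf N := by
  ext m
  rw [Subgroup.mem_subgroupOf, Subgroup.mem_centralizer_singleton_iff,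
    Subgroup.mem_centralizer_singleton_iff]
  constructor
  · intro h
    have := congrArg Subtype.val h
    simpa using this
  · intro h
    apply Subtype.ext
    simpa using h

/-- `|N C_G(n)| = |C_G(n)| |N : C_N(n)|`. -/
theorem card_sup_centralizer (n : N) :
    Nat.card (N ⊔ Subgroup.centralizer ({(n : G)} : Set G) : Subgroup G)
      = Nat.card (Subgroup.centralizer ({(n : G)} : Set G))
        * (Subgroup.centralizer ({n} : Set N)).index := by
  obtain ⟨C, hCdef⟩ : ∃ C : Subgroup G, C = Subgroup.centralizer ({(n : G)} : Set G) := ⟨_, rfl⟩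
  rw [centralizer_subtype_eq, ← hCdef]
  have h1 : N.relIndex (N ⊔ C) = N.relIndex C := Subgroup.relIndex_sup_left C N
  have h2 : Nat.card (N.subgroupOf (N ⊔ C)) * (N.subgroupOf (N ⊔ C)).index
      = Nat.card (N ⊔ C : Subgroup G) := Subgroup.card_mul_index _
  have h3 : Nat.card (N.subgroupOf (N ⊔ C)) = Nat.card N :=
    Nat.card_congr (Subgroup.subgroupOfEquivOfLe le_sup_left).toEquiv
  have h4 : Nat.card (N.subgroupOf C) * (N.subgroupOf C).index = Nat.card C :=
    Subgroup.card_mul_index _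
  have h5 : Nat.card (C.subgroupOf N) * (C.subgroupOf N).index = Nat.card N :=
    Subgroup.card_mul_index _
  have h6 : Nat.card (N.subgroupOf C) = Nat.card (C.subgroupOf N) := by
    rw [← Subgroup.inf_subgroupOf_right N C, ← Subgroup.inf_subgroupOf_left C N,
      Nat.card_congr (Subgroup.subgroupOfEquivOfLe (inf_le_right : N ⊓ C ≤ C)).toEquiv,
      Nat.card_congr (Subgroup.subgroupOfEquivOfLe (inf_le_left : N ⊓ C ≤ N)).toEquiv]
  have h1' : (N.subgroupOf (N ⊔ C)).index = (N.subgroupOf C).index := h1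
  rw [← h2, h3, h1', ← h5, ← h4, h6]
  ring

/-- **Induced central characters for a stable block.**  If all `G`-conjugates of `θ ∈ Irr(N)` lie
in the block of `θ`, then `ω_θ^G(n) ≡ |G : N C_G(n)| ω_θ(n)` modulo the local ideal. -/
theorem inducedCentralChar_sub_index_mul_mem (hM : M.IsPrime) (θ : IrrCharacter N)
    (hst : ∀ x : G, SameBlock M θ.1 (conjIrr N x θ).1) (n : N) :
    MemLocalIdeal M (inducedCentralChar N θ.1 (n : G)
      - ((N ⊔ Subgroup.centralizer ({(n : G)} : Set G)).index : ℂ) * centralChar θ.1 n) := by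
  classical
  obtain ⟨C, hCdef⟩ : ∃ C : Subgroup G, C = Subgroup.centralizer ({(n : G)} : Set G) := ⟨_, rfl⟩
  obtain ⟨S, hSdef⟩ : ∃ S : Subgroup G, S = N ⊔ C := ⟨_, rfl⟩
  rw [← hCdef, ← hSdef]
  have hθ1 : θ.1 1 ≠ 0 := Cfsg.Agent.H4.irr_one_ne_zero θ
  obtain ⟨F, hFdef⟩ : ∃ F : G → ℂ, F = fun x => (conjIrr N x θ).1 n := ⟨_, rfl⟩
  have hFS : ∀ x : G, ∀ u ∈ S, F (x * u) = F x := by
    intro x u hu
    rw [hSdef] at hu
    obtain ⟨m, hm, c, hc, rfl⟩ := Subgroup.mem_sup_of_normal_left.mp hu
    rw [hFdef]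
    simp only [conjIrr_apply]
    have hcn : c * (n : G) = (n : G) * c := by
      rw [hCdef, Subgroup.mem_centralizer_singleton_iff] at hc
      exact hc
    have hxm : x * m * x⁻¹ ∈ N := hN.conj_mem m hm x
    have e : (⟨x * (m * c) * (n : G) * (x * (m * c))⁻¹, hN.conj_mem (n : G) n.2 (x * (m * c))⟩ : N)
        = ⟨x * m * x⁻¹, hxm⟩ * ⟨x * (n : G) * x⁻¹, hN.conj_mem (n : G) n.2 x⟩
          * (⟨x * m * x⁻¹, hxm⟩ : N)⁻¹ := by
      apply Subtype.ext
      show x * (m * c) * (n : G) * (x * (m * c))⁻¹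
        = x * m * x⁻¹ * (x * (n : G) * x⁻¹) * (x * m * x⁻¹)⁻¹
      have h1 : x * (m * c) * (n : G) * (x * (m * c))⁻¹
          = x * m * (c * (n : G)) * c⁻¹ * m⁻¹ * x⁻¹ := by group
      rw [h1, hcn]
      group
    rw [e]
    exact irr_isClassFunction θ _ _
  have hind : indFun N θ.1 (n : G) = (Nat.card N : ℂ)⁻¹ * ∑ x : G, F x := by
    unfold indFun
    congr 1
    rw [← Equiv.sum_comp (Equiv.inv G)]
    apply Finset.sum_congr rfl
    intro x _
    show extendByZero N θ.1 ((x⁻¹)⁻¹ * (n : G) * x⁻¹) = F x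
    rw [inv_inv, extendByZero_of_mem N _ (hN.conj_mem (n : G) n.2 x), hFdef]
    rfl
  have hsum := sum_eq_card_mul_sum_out S F hFS
  obtain ⟨k, hkdef⟩ : ∃ k : ℕ, k = (Subgroup.centralizer ({n} : Set N)).index := ⟨_, rfl⟩
  have hk0 : (k : ℂ) ≠ 0 := by
    rw [hkdef]
    exact_mod_cast (Subgroup.index_ne_zero_of_finite (H := Subgroup.centralizer ({n} : Set N)))
  have hFc : ∀ x : G, F x = centralChar (conjIrr N x θ).1 n * θ.1 1 / k := by
    intro x
    unfold centralChar
    rw [conjIrr_one_apply, ← hkdef, hFdef]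
    field_simp
  have hcardS : (Nat.card S : ℂ) = (Nat.card C : ℂ) * k := by
    rw [hSdef, hCdef, card_sup_centralizer N n, hkdef]
    push_cast
    rfl
  have hCidx : (C.index : ℂ) * (Nat.card C : ℂ) = Nat.card G := by
    have := Subgroup.card_mul_index C
    rw [mul_comm] at this
    exact_mod_cast this
  have hNc : (Nat.card N : ℂ) ≠ 0 := by
    have : 0 < Nat.card N := Nat.card_pos
    exact_mod_cast this.ne'
  have hGc : (Nat.card G : ℂ) ≠ 0 := by
    have : 0 < Nat.card G := Nat.card_pos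
    exact_mod_cast this.ne'
  have hCc : (Nat.card C : ℂ) ≠ 0 := by
    have : 0 < Nat.card C := Nat.card_pos
    exact_mod_cast this.ne'
  have hmain : inducedCentralChar N θ.1 (n : G)
      = ∑ q : G ⧸ S, centralChar (conjIrr N q.out θ).1 n := by
    rw [Cfsg.Agent.S0932.inducedCentralChar_eq]
    unfold centralChar
    rw [hind, indFun_one, hsum, ← hCdef]
    have h7 : ∑ q : G ⧸ S, F q.out
        = (∑ q : G ⧸ S, centralChar (conjIrr N q.out θ).1 n) * θ.1 1 / k := by
      rw [Finset.sum_mul, Finset.sum_div]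
      exact Finset.sum_congr rfl (fun q _ => hFc q.out)
    unfold centralChar at h7
    have hCi : (C.index : ℂ) ≠ 0 := by
      exact_mod_cast (Subgroup.index_ne_zero_of_finite (H := C))
    rw [h7, hcardS, ← hCidx]
    field_simp
  rw [hmain]
  have hidx : (S.index : ℂ) = (Fintype.card (G ⧸ S) : ℂ) := by
    rw [Subgroup.index_eq_card, Nat.card_eq_fintype_card]
  have hrew : ∑ q : G ⧸ S, centralChar (conjIrr N q.out θ).1 n
      - (S.index : ℂ) * centralChar θ.1 n
      = ∑ q : G ⧸ S, (centralChar (conjIrr N q.out θ).1 n - centralChar θ.1 n) := by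
    rw [Finset.sum_sub_distrib, Finset.sum_const, Finset.card_univ, nsmul_eq_mul, hidx]
  rw [hrew]
  apply memLocalIdeal_sum hM
  intro q _
  exact (Cfsg.Agent.H80.sameBlock_symm (hst q.out)) n

/-- **A good defect class.**  A `G`-stable block `b` of the normal subgroup `N` has a defect
class `n` with `p ∤ |G : N C_G(n)|`. -/
theorem exists_defectClass_index (hM : IsPModular p M) (θ₀ : IrrCharacter N)
    (hbst : ∀ (g : G) (μ : IrrCharacter N),
      conjIrr N g μ ∈ blockOf M θ₀.1 ↔ μ ∈ blockOf M θ₀.1) :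
    ∃ n : N, IsDefectClass M (blockOf M θ₀.1) n ∧
      ¬ p ∣ (N ⊔ Subgroup.centralizer ({(n : G)} : Set G)).index := by
  classical
  have hMp := isPrime_of_isPModular hM
  by_contra hcon
  push Not at hcon
  have hθ1 : θ₀.1 1 ≠ 0 := Cfsg.Agent.H4.irr_one_ne_zero θ₀
  obtain ⟨c, hcdef⟩ : ∃ c : G → ℂ, c = extendByZero N (blockCoeff (blockOf M θ₀.1)) := ⟨_, rfl⟩
  have hc : ∀ g x : G, c (x * g * x⁻¹) = c g := by
    rw [hcdef]; exact extendByZero_blockCoeff_conj N _ hbst
  have hst : ∀ x : G, SameBlock M θ₀.1 (conjIrr N x θ₀).1 := fun x =>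
    (hbst x θ₀).mpr (Cfsg.Agent.H80.mem_blockOf_self hMp θ₀)
  have hcN : ∀ n : N, c n = blockCoeff (blockOf M θ₀.1) n := by
    intro n; rw [hcdef, extendByZero_of_mem N _ n.2]
  have h1 : (∑ g : G, c g * indFun N θ₀.1 g) / indFun N θ₀.1 1 = 1 := by
    rw [sum_mul_indFun_div N c hc θ₀.1 hθ1]
    simp only [hcN]
    rw [sum_blockCoeff_mul_irr, if_pos (Cfsg.Agent.H80.mem_blockOf_self hMp θ₀), div_self hθ1]
  have h2 : MemLocalIdeal M ((∑ g : G, c g * indFun N θ₀.1 g) / indFun N θ₀.1 1) := by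
    rw [Finset.sum_div]
    apply sum_mem_of_conj_closed (localIdeal M hMp)
      (fun g => c g * indFun N θ₀.1 g / indFun N θ₀.1 1)
    · intro g x
      show c (x * g * x⁻¹) * indFun N θ₀.1 (x * g * x⁻¹) / indFun N θ₀.1 1 = _
      rw [hc, indFun_isClassFunction N θ₀.1 g x]
    · intro g
      rw [mem_localIdeal]
      have e : ((Subgroup.centralizer ({g} : Set G)).index : ℂ)
          * (c g * indFun N θ₀.1 g / indFun N θ₀.1 1) = c g * inducedCentralChar N θ₀.1 g := by
        rw [Cfsg.Agent.S0932.inducedCentralChar_eq]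
        unfold centralChar
        ring
      rw [e]
      by_cases hg : g ∈ N
      · obtain ⟨n, rfl⟩ : ∃ n : N, (n : G) = g := ⟨⟨g, hg⟩, rfl⟩
        rw [hcN]
        have hIC := inducedCentralChar_sub_index_mul_mem N hMp θ₀ hst n
        have haR : MemLocalRing M (blockCoeff (blockOf M θ₀.1) n) :=
          blockCoeff_memLocalRing hMp θ₀ n
        have hωR : MemLocalRing M (centralChar θ₀.1 n) := centralChar_memLocalRing hMp θ₀ n
        obtain ⟨t, htdef⟩ : ∃ t : ℕ,
            t = (N ⊔ Subgroup.centralizer ({(n : G)} : Set G)).index := ⟨_, rfl⟩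
        rw [← htdef] at hIC
        have hICR : MemLocalRing M (inducedCentralChar N θ₀.1 (n : G)) := by
          have := memLocalRing_add hMp (MemLocalIdeal.memLocalRing hIC)
            (memLocalRing_mul hMp (memLocalRing_natCast hMp t) hωR)
          convert this using 1
          ring
        by_cases ha : MemLocalIdeal M (blockCoeff (blockOf M θ₀.1) n)
        · exact memLocalIdeal_mul_right hMp ha hICR
        · apply memLocalIdeal_mul_left hMp haR
          have htω : MemLocalIdeal M ((t : ℂ) * centralChar θ₀.1 n) := by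
            by_cases hω : MemLocalIdeal M (centralChar θ₀.1 n)
            · exact memLocalIdeal_mul_left hMp (memLocalRing_natCast hMp t) hω
            · have hdc : IsDefectClass M (blockOf M θ₀.1) n := by
                refine ⟨haR, ha, fun θ hθ hθJ => hω ?_⟩
                have h3 : MemLocalIdeal M (centralChar θ₀.1 n - centralChar θ.1 n) := hθ n
                have h4 := memLocalIdeal_add hMp h3 hθJ
                simpa using h4
              have hp := hcon n hdc
              rw [← htdef] at hp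
              exact memLocalIdeal_mul_right hMp ((memLocalIdeal_natCast_iff hM t).mpr hp) hωR
          have h5 := memLocalIdeal_add hMp hIC htω
          convert h5 using 1
          ring
      · rw [hcdef, extendByZero_of_not_mem N _ hg, zero_mul]
        exact memLocalIdeal_zero hMp
    · intro g _ x; exact Finset.mem_univ _
  rw [h1] at h2
  exact not_memLocalIdeal_one hMp h2

end Index

section Main

variable {G : Type*} [Group G] [Fintype G] {M : Ideal AlgInt} {p : ℕ} [Fact p.Prime]
  (N : Subgroup G) [hN : N.Normal] [Fintype N]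

/-- The irreducible characters of `G` lying over a `G`-stable block of `N` form a union of
blocks. -/
theorem over_closed (hM : M.IsPrime) (θ₀ : IrrCharacter N)
    (hbst : ∀ (g : G) (μ : IrrCharacter N),
      conjIrr N g μ ∈ blockOf M θ₀.1 ↔ μ ∈ blockOf M θ₀.1)
    (χ : IrrCharacter G)
    (hχ : ∃ μ ∈ blockOf M θ₀.1, classInner (fun n : N => χ.1 n) μ.1 ≠ 0)
    (χ' : IrrCharacter G) (hsame : SameBlock M χ.1 χ'.1) :
    ∃ μ ∈ blockOf M θ₀.1, classInner (fun n : N => χ'.1 n) μ.1 ≠ 0 := by
  obtain ⟨θ, hθ, hcon⟩ := hχ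
  have h0 := (Cfsg.Agent.S0963.result N χ θ).mp hcon
  have hcong : ∀ n : N, MemLocalIdeal M
      (centralChar χ'.1 (n : G) - inducedCentralChar N θ.1 (n : G)) := by
    intro n
    rw [← h0 n]
    exact (Cfsg.Agent.H80.sameBlock_symm hsame) (n : G)
  exact exists_over_of_congr N hM (blockOf M θ₀.1) hbst
    (fun μ hμ ν hμν => Cfsg.Agent.H80.sameBlock_trans hM hμ hμν) χ' θ hθ hcong

/-- **Fong, lower bound.**  Some block of `G` covering the `G`-stable block `b` of `N` has defect
at least `d(b) + ν_p(|G : N|)`. -/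
theorem exists_covering_defect_ge (hM : IsPModular p M) (θ₀ : IrrCharacter N)
    (hbst : ∀ (g : G) (μ : IrrCharacter N),
      conjIrr N g μ ∈ blockOf M θ₀.1 ↔ μ ∈ blockOf M θ₀.1) :
    ∃ χ₁ : IrrCharacter G,
      (∃ μ ∈ blockOf M θ₀.1, classInner (fun n : N => χ₁.1 n) μ.1 ≠ 0) ∧
      blockDefect p (blockOf M θ₀.1) + N.index.factorization p
        ≤ blockDefect p (blockOf M χ₁.1) := by
  classical
  have hMp := isPrime_of_isPModular hM
  have hp : p.Prime := hM.1
  obtain ⟨n₀, hdc, hpt⟩ := exists_defectClass_index N hM θ₀ hbst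
  obtain ⟨C, hCdef⟩ : ∃ C : Set (IrrCharacter G), C = {χ : IrrCharacter G |
      ∃ μ ∈ blockOf M θ₀.1, classInner (fun n : N => χ.1 n) μ.1 ≠ 0} := ⟨_, rfl⟩
  have hCcl : ∀ χ ∈ C, ∀ χ' : IrrCharacter G, SameBlock M χ.1 χ'.1 → χ' ∈ C := by
    intro χ hχ χ' hsame
    rw [hCdef] at hχ ⊢
    exact over_closed N hMp θ₀ hbst χ hχ χ' hsame
  have hCn : ¬ MemLocalIdeal M (blockCoeff C (n₀ : G)) := by
    rw [hCdef, blockCoeff_over_eq N _ hbst, extendByZero_of_mem N _ n₀.2]
    exact hdc.2.1
  obtain ⟨χ₁, hχ₁C, hne⟩ := exists_blockOf_coeff_not_mem hMp C hCcl (n₀ : G) hCn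
  rw [hCdef] at hχ₁C
  refine ⟨χ₁, hχ₁C, ?_⟩
  have h1 := Cfsg.Agent.H81.defect_le_of_blockCoeff hM (blockOf M χ₁.1) ⟨χ₁, rfl⟩ (n₀ : G)
    (blockCoeff_memLocalRing hMp χ₁ (n₀ : G)) hne
  refine le_trans ?_ h1
  -- the defect of `b`
  obtain ⟨S_b⟩ : Nonempty (Sylow p (Subgroup.centralizer ({n₀} : Set N))) := inferInstance
  have hD_b : IsDefectGroup p M (blockOf M θ₀.1)
      ((S_b : Subgroup (Subgroup.centralizer ({n₀} : Set N))).map
        (Subgroup.centralizer ({n₀} : Set N)).subtype) := ⟨n₀, hdc, S_b, rfl⟩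
  have hc1 := card_defectGroup hM θ₀ _ hD_b
  rw [Cfsg.Agent.H81.card_sylow_centralizer_map n₀ S_b] at hc1
  have hdb : (Nat.card (Subgroup.centralizer ({n₀} : Set N))).factorization p
      = blockDefect p (blockOf M θ₀.1) := Nat.pow_right_injective hp.two_le hc1
  rw [← hdb]
  -- cardinalities
  obtain ⟨CG, hCG⟩ : ∃ CG : Subgroup G, CG = Subgroup.centralizer ({(n₀ : G)} : Set G) :=
    ⟨_, rfl⟩
  obtain ⟨k, hk⟩ : ∃ k : ℕ, k = (Subgroup.centralizer ({n₀} : Set N)).index := ⟨_, rfl⟩
  obtain ⟨t, ht⟩ : ∃ t : ℕ, t = (N ⊔ CG).index := ⟨_, rfl⟩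
  rw [← hCG, ← ht] at hpt
  rw [← hCG]
  have e1 : Nat.card (N ⊔ CG : Subgroup G) = Nat.card CG * k := by
    rw [hCG, hk]; exact card_sup_centralizer N n₀
  have e2 : Nat.card (N ⊔ CG : Subgroup G) * t = Nat.card G := by
    rw [ht]; exact Subgroup.card_mul_index _
  have e3 : Nat.card N * N.index = Nat.card G := Subgroup.card_mul_index _
  have e4 : Nat.card (Subgroup.centralizer ({n₀} : Set N)) * k = Nat.card N := by
    rw [hk]; exact Subgroup.card_mul_index _
  have hk0 : k ≠ 0 := by
    rw [hk]; exact Subgroup.index_ne_zero_of_finite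
  have e5 : Nat.card CG * t = Nat.card (Subgroup.centralizer ({n₀} : Set N)) * N.index := by
    have h6 : k * (Nat.card CG * t) = k * (Nat.card (Subgroup.centralizer ({n₀} : Set N))
        * N.index) := by
      calc k * (Nat.card CG * t) = Nat.card CG * k * t := by ring
        _ = Nat.card G := by rw [← e1, e2]
        _ = Nat.card N * N.index := e3.symm
        _ = k * (Nat.card (Subgroup.centralizer ({n₀} : Set N)) * N.index) := by
            rw [← e4]; ring
    exact Nat.eq_of_mul_eq_mul_left (Nat.pos_of_ne_zero hk0) h6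
  have ht0 : t ≠ 0 := by
    rw [ht]; exact Subgroup.index_ne_zero_of_finite
  have hf : (Nat.card CG * t).factorization p
      = (Nat.card (Subgroup.centralizer ({n₀} : Set N)) * N.index).factorization p := by
    rw [e5]
  rw [Nat.factorization_mul Nat.card_pos.ne' ht0,
    Nat.factorization_mul Nat.card_pos.ne' Subgroup.index_ne_zero_of_finite] at hf
  simp only [Finsupp.coe_add, Pi.add_apply] at hf
  rw [Nat.factorization_eq_zero_of_not_dvd hpt, add_zero] at hf
  rw [hf]

/-- **Fong's theorem.**  Let `b` be a `G`-stable block of the normal subgroup `N` and `B` a block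
of `G` covering `b` of largest defect among such blocks, with defect group `P`.  Then
`p ∤ |G : PN|`, `P ∩ N` is a defect group of `b` and `d(B) = d(b) + ν_p(|G : N|)`. -/
theorem fong (hM : IsPModular p M) (θ₀ : IrrCharacter N)
    (hbst : ∀ (g : G) (μ : IrrCharacter N),
      conjIrr N g μ ∈ blockOf M θ₀.1 ↔ μ ∈ blockOf M θ₀.1)
    (χ₀ : IrrCharacter G)
    (hcov : ∃ μ ∈ blockOf M θ₀.1, classInner (fun n : N => χ₀.1 n) μ.1 ≠ 0)
    (hmax : ∀ χ₁ : IrrCharacter G,
      (∃ μ ∈ blockOf M θ₀.1, classInner (fun n : N => χ₁.1 n) μ.1 ≠ 0) →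
      blockDefect p (blockOf M χ₁.1) ≤ blockDefect p (blockOf M χ₀.1))
    (P : Subgroup G) (hP : IsDefectGroup p M (blockOf M χ₀.1) P) :
    ¬ p ∣ (P ⊔ N).index ∧ IsDefectGroup p M (blockOf M θ₀.1) ((P ⊓ N).subgroupOf N) ∧
      blockDefect p (blockOf M χ₀.1)
        = blockDefect p (blockOf M θ₀.1) + N.index.factorization p := by
  classical
  have hMp := isPrime_of_isPModular hM
  have hp : p.Prime := hM.1
  have hcovall : ∀ χ ∈ blockOf M χ₀.1,
      ∃ μ ∈ blockOf M θ₀.1, classInner (fun n : N => χ.1 n) μ.1 ≠ 0 :=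
    fun χ hχ => over_closed N hMp θ₀ hbst χ₀ hcov χ hχ
  obtain ⟨χ₁, hχ₁, hlow⟩ := exists_covering_defect_ge N hM θ₀ hbst
  have hlow' := hlow.trans (hmax χ₁ hχ₁)
  have cP := card_defectGroup hM χ₀ P hP
  obtain ⟨g, hg, S, hPdef⟩ := hP
  have hPp : IsPGroup p P := by
    rw [hPdef]; exact S.isPGroup'.map _
  have hPg : P ≤ Subgroup.centralizer ({g} : Set G) := by
    rw [hPdef]; exact Subgroup.map_subtype_le _
  obtain ⟨n, hn, hnP⟩ := exists_coeff_centralizing N hM (blockOf M θ₀.1) hbst
    (fun n => blockCoeff_memLocalRing hMp θ₀ n) χ₀ hcovall g hg.2.1 P hPp hPg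
  obtain ⟨Q, hQdef⟩ : ∃ Q : Subgroup N, Q = (P ⊓ N).subgroupOf N := ⟨_, rfl⟩
  rw [← hQdef]
  have hQp : IsPGroup p Q := by
    rw [hQdef]
    exact (hPp.to_le inf_le_left).comap_of_injective N.subtype N.subtype_injective
  have hQn : Q ≤ Subgroup.centralizer ({n} : Set N) := by
    intro q hq
    rw [hQdef, Subgroup.mem_subgroupOf] at hq
    rw [Subgroup.mem_centralizer_singleton_iff]
    apply Subtype.ext
    have h1 := Subgroup.mem_centralizer_iff.mp hnP (q : G) hq.1
    simpa using h1
  obtain ⟨g_b, hg_b⟩ := Cfsg.Agent.S0906.result p M hM (blockOf M θ₀.1) ⟨θ₀, rfl⟩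
  obtain ⟨S_b⟩ : Nonempty (Sylow p (Subgroup.centralizer ({g_b} : Set N))) := inferInstance
  obtain ⟨D_b, hD_bdef⟩ : ∃ D_b : Subgroup N,
      D_b = (S_b : Subgroup (Subgroup.centralizer ({g_b} : Set N))).map
        (Subgroup.centralizer ({g_b} : Set N)).subtype := ⟨_, rfl⟩
  have hD_b : IsDefectGroup p M (blockOf M θ₀.1) D_b := ⟨g_b, hg_b, S_b, hD_bdef⟩
  have cD := card_defectGroup hM θ₀ D_b hD_b
  have cD' : Nat.card D_b
      = p ^ (Nat.card (Subgroup.centralizer ({g_b} : Set N))).factorization p := by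
    rw [hD_bdef]; exact Cfsg.Agent.H81.card_sylow_centralizer_map g_b S_b
  obtain ⟨x, hx⟩ := exists_conj_le_defectGroup hM θ₀ D_b hD_b n hn Q hQp hQn
  have cQle : Nat.card Q ≤ p ^ blockDefect p (blockOf M θ₀.1) := by
    have h1 := Subgroup.card_le_of_le hx
    rw [Subgroup.card_map_of_injective (f := (MulAut.conj x).toMonoidHom)
      (MulEquiv.injective _), cD] at h1
    exact h1
  -- `|P| = |P ∩ N| * |P : P ∩ N|`
  obtain ⟨r, hrdef⟩ : ∃ r : ℕ, r = N.relIndex P := ⟨_, rfl⟩
  have cPQ : Nat.card Q * r = Nat.card P := by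
    have h1 : Nat.card (N.subgroupOf P) * (N.subgroupOf P).index = Nat.card P :=
      Subgroup.card_mul_index _
    have h2 : Nat.card (N.subgroupOf P) = Nat.card Q := by
      rw [hQdef, ← Subgroup.inf_subgroupOf_left N P,
        Nat.card_congr (Subgroup.subgroupOfEquivOfLe (inf_le_left : P ⊓ N ≤ P)).toEquiv,
        Nat.card_congr (Subgroup.subgroupOfEquivOfLe (inf_le_right : P ⊓ N ≤ N)).toEquiv]
    rw [h2] at h1
    rw [hrdef]
    exact h1
  have hrN : r ∣ N.index := by
    rw [hrdef]; exact Subgroup.relIndex_dvd_index_of_normal N P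
  have hrP : r ∣ p ^ blockDefect p (blockOf M χ₀.1) := by
    rw [← cP, ← cPQ]; exact dvd_mul_left _ _
  obtain ⟨j, -, hj⟩ := (Nat.dvd_prime_pow hp).mp hrP
  have hN0 : N.index ≠ 0 := Subgroup.index_ne_zero_of_finite
  have hjle : j ≤ N.index.factorization p := by
    rw [hj] at hrN
    exact (hp.pow_dvd_iff_le_factorization hN0).mp hrN
  obtain ⟨dB, hdB⟩ : ∃ dB : ℕ, dB = blockDefect p (blockOf M χ₀.1) := ⟨_, rfl⟩
  obtain ⟨db, hdb⟩ : ∃ db : ℕ, db = blockDefect p (blockOf M θ₀.1) := ⟨_, rfl⟩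
  obtain ⟨ν, hν⟩ : ∃ ν : ℕ, ν = N.index.factorization p := ⟨_, rfl⟩
  rw [← hdB] at cP hlow' ⊢
  rw [← hdb] at cQle cD hlow' ⊢
  rw [← hν] at hjle hlow' ⊢
  have hppos : 0 < p := hp.pos
  have key : p ^ dB = Nat.card Q * p ^ j := by
    rw [← cP, ← cPQ, hj]
  have hle2 : p ^ dB ≤ p ^ (db + ν) := by
    rw [key, pow_add]
    exact Nat.mul_le_mul cQle (Nat.pow_le_pow_right hppos hjle)
  have hdle : dB ≤ db + ν := (Nat.pow_le_pow_iff_right hp.one_lt).mp hle2
  have hdeq : dB = db + ν := le_antisymm hdle hlow'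
  have hQcard : Nat.card Q = p ^ db := by
    by_contra hne
    have hlt : Nat.card Q < p ^ db := lt_of_le_of_ne cQle hne
    have h1 : Nat.card Q * p ^ j < p ^ db * p ^ ν :=
      Nat.mul_lt_mul_of_lt_of_le hlt (Nat.pow_le_pow_right hppos hjle) (Nat.pow_pos hppos)
    rw [← key, ← pow_add, hdeq] at h1
    exact lt_irrefl _ h1
  have hjeq : j = ν := by
    have h1 : p ^ (db + ν) = p ^ (db + j) := by
      rw [← hdeq, key, hQcard, pow_add]
    have h2 := Nat.pow_right_injective hp.two_le h1
    omega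
  refine ⟨?_, ?_, hdeq⟩
  · -- `p ∤ |G : PN|`
    intro hdvd
    have h1 : N.relIndex (P ⊔ N) * (P ⊔ N).index = N.index :=
      Subgroup.relIndex_mul_index le_sup_right
    have h2 : N.relIndex (P ⊔ N) = N.relIndex P := Subgroup.relIndex_sup_right P N
    rw [h2, ← hrdef, hj, hjeq] at h1
    obtain ⟨m, hm⟩ := hdvd
    have h3 : p ^ (ν + 1) ∣ N.index := by
      rw [← h1, hm, pow_succ]
      exact ⟨m, by ring⟩
    rw [hν] at h3
    exact Nat.pow_succ_factorization_not_dvd hN0 hp h3
  · -- `P ∩ N` is a defect group of `b`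
    have heq : Q.map (MulAut.conj x).toMonoidHom = D_b := by
      apply Subgroup.eq_of_le_of_card_ge hx
      rw [Subgroup.card_map_of_injective (f := (MulAut.conj x).toMonoidHom)
        (MulEquiv.injective _), cD, hQcard]
    apply isDefectGroup_of_card (blockOf M θ₀.1) (x⁻¹ * g_b * x⁻¹⁻¹)
      (Cfsg.Agent.H80.isDefectClass_conj hg_b x⁻¹) Q
    · intro q hq
      have h1 : x * q * x⁻¹ ∈ D_b := by
        rw [← heq]
        exact ⟨q, hq, rfl⟩
      have h2 : x * q * x⁻¹ ∈ Subgroup.centralizer ({g_b} : Set N) := by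
        rw [hD_bdef] at h1
        exact Subgroup.map_subtype_le _ h1
      rw [Subgroup.mem_centralizer_singleton_iff] at h2 ⊢
      calc q * (x⁻¹ * g_b * x⁻¹⁻¹) = x⁻¹ * ((x * q * x⁻¹) * g_b) * x := by group
        _ = x⁻¹ * (g_b * (x * q * x⁻¹)) * x := by rw [h2]
        _ = x⁻¹ * g_b * x⁻¹⁻¹ * q := by group
    · rw [hQcard, Cfsg.Agent.H81.card_centralizer_conj g_b x⁻¹]
      rw [← cD', cD]

end Main

end Cfsg.Agent.H79
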