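import Mathlib
import Cfsg.Agent.H64.TtDefs

/-!
# S3385 piece TT-FIX: exactly two of the three out-neighbours of `b` are moved by `G_ab`.
-/

set_option autoImplicit false

namespace Cfsg.Agent.H79.Tt

open MulAction Cfsg.Agent.H64.Tt

universe u v

section Aux
variable {G : Type u} [Group G] [Finite G] {Ω : Type v} [MulAction G Ω]

/-- out-neighbours of `b` in the orbital digraph of `(a, b)` -/
def OutN (G : Type u) [Group G] {Ω : Type v} [MulAction G Ω] (a b : Ω) : Set Ω :=
  {z | ∃ h : G, h • a = b ∧ h • b = z}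

omit [Finite G] in
theorem a_ne_b (a b : Ω) (h3 : Nat.card (orbit (stabilizer G a) b) = 3) : a ≠ b := by
  rintro rfl
  have : orbit (stabilizer G a) a = {a} := by
    ext x
    constructor
    · rintro ⟨s, rfl⟩
      exact s.2
    · rintro rfl
      exact mem_orbit_self _
  rw [this] at h3
  simp at h3

omit [Finite G] in
theorem ncard_outN [IsPretransitive G Ω] (a b : Ω)
    (h3 : Nat.card (orbit (stabilizer G a) b) = 3) : (OutN G a b).ncard = 3 := by
  obtain ⟨g, hg⟩ := exists_smul_eq G a b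
  have hga : g⁻¹ • b = a := by rw [← hg, inv_smul_smul]
  have : OutN G a b = (fun x => g • x) '' (orbit (stabilizer G a) b) := by
    ext z
    constructor
    · rintro ⟨h, h1, h2⟩
      refine ⟨(g⁻¹ * h) • b, ⟨⟨g⁻¹ * h, ?_⟩, rfl⟩, ?_⟩
      · rw [mem_stabilizer_iff, mul_smul, h1, hga]
      · show g • (g⁻¹ * h) • b = z
        rw [mul_smul, smul_inv_smul, h2]
    · rintro ⟨_, ⟨s, rfl⟩, rfl⟩
      refine ⟨g * (s : G), ?_, ?_⟩
      · rw [mul_smul, mem_stabilizer_iff.mp s.2, hg]
      · rw [mul_smul]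
        rfl
  rw [this, Set.ncard_image_of_injective _ (MulAction.injective g), ← Nat.card_coe_set_eq]
  exact h3

theorem exists_moved [FaithfulSMul G Ω] (hprim : IsPreprimitive G Ω) (a b : Ω)
    (h3 : Nat.card (orbit (stabilizer G a) b) = 3)
    (hB : (stabilizer G a ⊓ stabilizer G b : Subgroup G) ≠ ⊥) :
    ∃ z ∈ OutN G a b, ¬ (stabilizer G a ⊓ stabilizer G b ≤ stabilizer G z) := by
  by_contra hcon
  push Not at hcon
  have hab := a_ne_b a b h3
  have : Nontrivial Ω := ⟨⟨a, b, hab⟩⟩
  have := hprim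
  have : IsPretransitive G Ω := hprim.toIsPretransitive
  have hco : IsCoatom (stabilizer G a) := IsPreprimitive.isCoatom_stabilizer_of_isPreprimitive G a
  -- every `h` with `h a = b` normalises `B`
  have hnorm : ∀ h : G, h • a = b →
      h ∈ Subgroup.normalizer ((stabilizer G a ⊓ stabilizer G b : Subgroup G) : Set G) := by
    intro h hh
    rw [Subgroup.mem_normalizer_iff_map_conj_eq]
    have hz : h • b ∈ OutN G a b := ⟨h, hh, rfl⟩
    have h1 : (stabilizer G a ⊓ stabilizer G b : Subgroup G).map (MulAut.conj h).toMonoidHom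
        = stabilizer G b ⊓ stabilizer G (h • b) := by
      rw [Subgroup.map_inf_eq _ _ _ (MulAut.conj h).injective,
        ← stabilizer_smul_eq_stabilizer_map_conj, ← stabilizer_smul_eq_stabilizer_map_conj, hh]
    have h2 : (stabilizer G a ⊓ stabilizer G b : Subgroup G)
        ≤ stabilizer G b ⊓ stabilizer G (h • b) := le_inf inf_le_right (hcon _ hz)
    have h3' : Nat.card (stabilizer G b ⊓ stabilizer G (h • b) : Subgroup G)
        ≤ Nat.card (stabilizer G a ⊓ stabilizer G b : Subgroup G) := by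
      rw [← h1, Subgroup.card_map_of_injective (MulAut.conj h).injective]
    exact h1.trans (Subgroup.eq_of_le_of_card_ge h2 h3').symm
  obtain ⟨g, hg⟩ := exists_smul_eq G a b
  have hlt : stabilizer G a
      < Subgroup.normalizer ((stabilizer G a ⊓ stabilizer G b : Subgroup G) : Set G) := by
    refine lt_of_le_of_ne ?_ ?_
    · intro t ht
      have : t = g⁻¹ * (g * t) := by group
      rw [this]
      exact mul_mem (inv_mem (hnorm g hg))
        (hnorm (g * t) (by rw [mul_smul, mem_stabilizer_iff.mp ht, hg]))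
    · intro heq
      have : g ∈ stabilizer G a := heq ▸ hnorm g hg
      exact hab ((mem_stabilizer_iff.mp this).symm.trans hg)
  have htop := hco.2 _ hlt
  have hN : (stabilizer G a ⊓ stabilizer G b : Subgroup G).Normal :=
    Subgroup.normalizer_eq_top_iff.mp htop
  apply hB
  rw [eq_bot_iff]
  intro t ht
  rw [Subgroup.mem_bot]
  apply FaithfulSMul.eq_of_smul_eq_smul (α := Ω)
  intro x
  obtain ⟨k, rfl⟩ := exists_smul_eq G a x
  rw [one_smul]
  have h4 : k⁻¹ * t * k ∈ (stabilizer G a ⊓ stabilizer G b : Subgroup G) := by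
    have := hN.conj_mem t ht k⁻¹
    simpa using this
  have h5 : (k⁻¹ * t * k) • a = a := (Subgroup.mem_inf.mp h4).1
  calc t • k • a = k • (k⁻¹ * t * k) • a := by simp [mul_smul]
    _ = k • a := by rw [h5]

end Aux

theorem fix (hTwo : TwoStmt.{u, v}) : FixStmt.{u, v} := by
  intro G _ _ Ω _ _ hprim a b h3 hB
  obtain ⟨k, hk, -⟩ := hTwo hprim a b h3
  have : IsPretransitive G Ω := hprim.toIsPretransitive
  have : Finite Ω := Finite.of_surjective (fun g : G => g • a) (fun x => exists_smul_eq G a x)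
  have hout := ncard_outN (G := G) a b h3
  obtain ⟨z₀, hz₀, hz₀m⟩ := exists_moved hprim a b h3 hB
  -- the sub-action
  let S : SubMulAction (stabilizer G a ⊓ stabilizer G b : Subgroup G) Ω :=
    { carrier := OutN G a b
      smul_mem' := by
        rintro ⟨t, ht⟩ z ⟨h, h1, h2⟩
        refine ⟨t * h, ?_, ?_⟩
        · rw [mul_smul, h1]; exact (Subgroup.mem_inf.mp ht).2
        · rw [mul_smul, h2]; rfl }
  have hp : IsPGroup 2 (stabilizer G a ⊓ stabilizer G b : Subgroup G) := IsPGroup.of_card hk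
  have : Fact (Nat.Prime 2) := ⟨Nat.prime_two⟩
  have hmod := hp.card_modEq_card_fixedPoints S
  have hS : Nat.card S = 3 := by
    rw [← hout]; exact Nat.card_coe_set_eq (OutN G a b)
  have hfix : Nat.card (fixedPoints (stabilizer G a ⊓ stabilizer G b : Subgroup G) S)
      = {z : Ω | z ∈ OutN G a b ∧
          (stabilizer G a ⊓ stabilizer G b : Subgroup G) ≤ stabilizer G z}.ncard := by
    rw [Nat.card_coe_set_eq, ← Set.ncard_image_of_injective _ Subtype.val_injective]
    congr 1
    ext z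
    constructor
    · rintro ⟨⟨z, hz⟩, hfz, rfl⟩
      refine ⟨hz, fun t ht => ?_⟩
      have := hfz ⟨t, ht⟩
      exact congrArg Subtype.val this
    · rintro ⟨hz, hfz⟩
      refine ⟨⟨z, hz⟩, ?_, rfl⟩
      intro t
      exact Subtype.ext (hfz t.2)
  have hunion : {z : Ω | z ∈ OutN G a b ∧
        (stabilizer G a ⊓ stabilizer G b : Subgroup G) ≤ stabilizer G z} ∪
      {z : Ω | (∃ h : G, h • a = b ∧ h • b = z) ∧
        ¬ (stabilizer G a ⊓ stabilizer G b ≤ stabilizer G z)} = OutN G a b := by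
    ext z
    constructor
    · rintro (⟨h, -⟩ | ⟨h, -⟩)
      · exact h
      · exact h
    · intro hz
      by_cases hf : (stabilizer G a ⊓ stabilizer G b : Subgroup G) ≤ stabilizer G z
      · exact Or.inl ⟨hz, hf⟩
      · exact Or.inr ⟨hz, hf⟩
  have hdisj : Disjoint {z : Ω | z ∈ OutN G a b ∧
        (stabilizer G a ⊓ stabilizer G b : Subgroup G) ≤ stabilizer G z}
      {z : Ω | (∃ h : G, h • a = b ∧ h • b = z) ∧
        ¬ (stabilizer G a ⊓ stabilizer G b ≤ stabilizer G z)} := by
    rw [Set.disjoint_left]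
    rintro z ⟨-, h1⟩ ⟨-, h2⟩
    exact h2 h1
  have hsum := Set.ncard_union_eq hdisj (Set.toFinite _) (Set.toFinite _)
  rw [hunion, hout] at hsum
  have hpos : 0 < {z : Ω | (∃ h : G, h • a = b ∧ h • b = z) ∧
        ¬ (stabilizer G a ⊓ stabilizer G b ≤ stabilizer G z)}.ncard := by
    rw [Set.ncard_pos (Set.toFinite _)]
    exact ⟨z₀, hz₀, hz₀m⟩
  rw [hS, hfix] at hmod
  unfold Nat.ModEq at hmod
  omega

example : TwoStmt.{u, v} → FixStmt.{u, v} := fix

end Cfsg.Agent.H79.Tt
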