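import Mathlib
import Cfsg.Agent.H64.TtDefs
import Cfsg.Agent.H79.TtFix

/-!
# S3385 piece TT-LOC: the fixed out-neighbour is a moved successor of another in-arc.
-/

set_option autoImplicit false

namespace Cfsg.Agent.H79.Tt

open MulAction Cfsg.Agent.H64.Tt

universe u v

theorem conj_moved {G : Type u} [Group G] {Ω : Type v} [MulAction G Ω] (a b m : Ω) (s : G)
    (hs : s • b = b)
    (hm : ¬ (stabilizer G a ⊓ stabilizer G b ≤ stabilizer G m)) :
    ¬ (stabilizer G (s • a) ⊓ stabilizer G b ≤ stabilizer G (s • m)) := by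
  intro hc
  apply hm
  intro t ht
  have hsi : s⁻¹ • b = b := by rw [inv_smul_eq_iff, hs]
  have ht' : s * t * s⁻¹ ∈ stabilizer G (s • a) ⊓ stabilizer G b := by
    have hta : t • a = a := mem_stabilizer_iff.mp (Subgroup.mem_inf.mp ht).1
    have htb : t • b = b := mem_stabilizer_iff.mp (Subgroup.mem_inf.mp ht).2
    rw [Subgroup.mem_inf]
    refine ⟨?_, ?_⟩
    · rw [mem_stabilizer_iff, mul_smul, inv_smul_smul, mul_smul, hta]
    · rw [mem_stabilizer_iff, mul_smul, mul_smul, hsi, htb, hs]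
  have h1 := hc ht'
  rw [mem_stabilizer_iff, mul_smul, inv_smul_smul, mul_smul] at h1
  exact mem_stabilizer_iff.mpr (MulAction.injective s h1)

theorem loc (hTwo : TwoStmt.{u, v}) (hFix : FixStmt.{u, v}) : LocStmt.{u, v} := by
  intro G _ _ Ω _ _ hprim a b h3 hB z hz hzfix
  have hM := hFix hprim a b h3 hB
  have : IsPretransitive G Ω := hprim.toIsPretransitive
  have : Finite Ω := Finite.of_surjective (fun g : G => g • a) (fun x => exists_smul_eq G a x)
  have hout := ncard_outN (G := G) a b h3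
  obtain ⟨m1, m2, hne, hMeq⟩ := Set.ncard_eq_two.mp hM
  have hm1 : m1 ∈ {z : Ω | (∃ h : G, h • a = b ∧ h • b = z) ∧
      ¬ (stabilizer G a ⊓ stabilizer G b ≤ stabilizer G z)} := by
    rw [hMeq]; exact Set.mem_insert _ _
  have hm2 : m2 ∈ {z : Ω | (∃ h : G, h • a = b ∧ h • b = z) ∧
      ¬ (stabilizer G a ⊓ stabilizer G b ≤ stabilizer G z)} := by
    rw [hMeq]; exact Set.mem_insert_of_mem _ rfl
  obtain ⟨⟨h1, h1a, h1b⟩, hm1mv⟩ := hm1
  obtain ⟨⟨h2, h2a, h2b⟩, hm2mv⟩ := hm2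
  obtain ⟨h, ha, hb⟩ := hz
  obtain ⟨s, hs_b, hs_m1⟩ : ∃ s : G, s • b = b ∧ s • m1 = z := by
    refine ⟨h * h1⁻¹, ?_, ?_⟩
    · have : h1⁻¹ • b = a := by rw [← h1a, inv_smul_smul]
      rw [mul_smul, this, ha]
    · have : h1⁻¹ • m1 = b := by rw [← h1b, inv_smul_smul]
      rw [mul_smul, this, hb]
  have hz'out : ∃ h' : G, h' • a = b ∧ h' • b = s • m2 := by
    refine ⟨s * h2, ?_, ?_⟩
    · rw [mul_smul, h2a, hs_b]
    · rw [mul_smul, h2b]
  refine ⟨s, hs_b, s • m2, hz'out, ?_, conj_moved a b m2 s hs_b hm2mv, ?_⟩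
  · intro hfix'
    have hsub : {z : Ω | (∃ h : G, h • a = b ∧ h • b = z) ∧
        ¬ (stabilizer G a ⊓ stabilizer G b ≤ stabilizer G z)} ⊆ OutN G a b := fun w hw => hw.1
    have hdiff : (OutN G a b \ {z : Ω | (∃ h : G, h • a = b ∧ h • b = z) ∧
        ¬ (stabilizer G a ⊓ stabilizer G b ≤ stabilizer G z)}).ncard = 1 := by
      rw [Set.ncard_diff hsub (Set.toFinite _), hout, hM]
    obtain ⟨w, hw⟩ := Set.ncard_eq_one.mp hdiff
    have e1 : z ∈ OutN G a b \ {z : Ω | (∃ h : G, h • a = b ∧ h • b = z) ∧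
        ¬ (stabilizer G a ⊓ stabilizer G b ≤ stabilizer G z)} :=
      ⟨⟨h, ha, hb⟩, fun hc => hc.2 hzfix⟩
    have e2 : s • m2 ∈ OutN G a b \ {z : Ω | (∃ h : G, h • a = b ∧ h • b = z) ∧
        ¬ (stabilizer G a ⊓ stabilizer G b ≤ stabilizer G z)} :=
      ⟨hz'out, fun hc => hc.2 hfix'⟩
    rw [hw, Set.mem_singleton_iff] at e1 e2
    have e3 : s • m2 = s • m1 := by rw [hs_m1, e1, e2]
    exact hne (MulAction.injective s e3).symm
  · rw [← hs_m1]
    exact conj_moved a b m1 s hs_b hm1mv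

example : TwoStmt.{u, v} → FixStmt.{u, v} → LocStmt.{u, v} := loc

end Cfsg.Agent.H79.Tt
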