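import Mathlib
import Cfsg.Agent.H79.CharValues
import Cfsg.Agent.H79.Cyclo

/-!
# Basic facts on complex characters of finite groups

* `char_inv_eq_conj`: `χ g⁻¹ = conj (χ g)`.
* `sum_norm_sq_char_eq_card`: for an irreducible representation, `∑ ‖χ g‖² = |G|`.
* `char_pow_eq_zero_of_coprime`: `χ g = 0 → χ (g ^ i) = 0` for `i` coprime to `|G|`.
* `norm_sq_char_pow_of_coprime`: `‖χ g‖² = N → ‖χ (g ^ i)‖² = N` for an integer `N`.
* `card_le_sum_norm_sq_char_pow`: Burnside's inequality.
-/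

set_option autoImplicit false

namespace Cfsg.Agent.H79

open Polynomial Module
open scoped ComplexConjugate

theorem conj_aeval_int (z : ℂ) (f : ℤ[X]) : conj (aeval z f) = aeval (conj z) f := by
  rw [aeval_def, aeval_def, hom_eval₂]
  congr 1
  exact RingHom.ext_int _ _

theorem pow_pred_eq_conj {n : ℕ} (hn : 0 < n) {w : ℂ} (hw : w ^ n = 1) : w ^ (n - 1) = conj w := by
  have hnorm : ‖w‖ = 1 := Complex.norm_eq_one_of_pow_eq_one hw hn.ne'
  rw [← Complex.inv_eq_conj hnorm]
  have hw0 : w ≠ 0 := by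
    intro h; rw [h, norm_zero] at hnorm; exact zero_ne_one hnorm
  apply mul_right_cancel₀ hw0
  rw [← pow_succ, Nat.sub_add_cancel hn, hw, inv_mul_cancel₀ hw0]

/-- The standard primitive `n`-th root of unity. -/
noncomputable def stdRoot (n : ℕ) : ℂ := Complex.exp (2 * Real.pi * Complex.I / n)

theorem stdRoot_spec {n : ℕ} (hn : 0 < n) : IsPrimitiveRoot (stdRoot n) n :=
  Complex.isPrimitiveRoot_exp n hn.ne'

variable {G : Type*} [Group G] [Fintype G] {V : Type*} [AddCommGroup V] [Module ℂ V]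
  [FiniteDimensional ℂ V] (ρ : Representation ℂ G V)

/-- The polynomial describing the character on the powers of `g`, with respect to the standard
primitive `|G|`-th root of unity. -/
theorem exists_poly_char (g : G) :
    ∃ f : ℤ[X], (∀ i, 0 ≤ f.coeff i) ∧ f.eval 1 = (finrank ℂ V : ℤ) ∧
      ∀ k : ℕ, ρ.character (g ^ k) = aeval (stdRoot (Fintype.card G) ^ k) f :=
  char_pow_eq_eval ρ g (Fintype.card G) Fintype.card_pos (pow_card_eq_one)
    _ (stdRoot_spec Fintype.card_pos)

theorem char_inv_eq_conj (g : G) : ρ.character g⁻¹ = conj (ρ.character g) := by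
  obtain ⟨f, -, -, hf⟩ := exists_poly_char ρ g
  have hn : 0 < Fintype.card G := Fintype.card_pos
  have hζ := stdRoot_spec hn
  have h1 : g⁻¹ = g ^ (Fintype.card G - 1) := by
    rw [eq_comm, ← mul_left_cancel_iff (a := g), ← pow_succ', Nat.sub_add_cancel hn,
      pow_card_eq_one, mul_inv_cancel]
  have h2 := hf 1
  rw [pow_one, pow_one] at h2
  rw [h1, hf, h2, conj_aeval_int, pow_pred_eq_conj hn hζ.pow_eq_one]

theorem sum_norm_sq_char_eq_card [ρ.IsIrreducible] :
    ∑ g : G, ‖ρ.character g‖ ^ 2 = (Fintype.card G : ℝ) := by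
  have : Invertible (Nat.card G : ℂ) := invertibleOfPos (Nat.card G)
  have h := Representation.char_orthonormal ρ ρ
  rw [if_pos ⟨Representation.Equiv.refl ρ⟩] at h
  have h2 : ∑ g : G, ρ.character g * ρ.character g⁻¹ = ((∑ g : G, ‖ρ.character g‖ ^ 2 : ℝ) : ℂ) := by
    push_cast
    refine Finset.sum_congr rfl fun g _ => ?_
    rw [char_inv_eq_conj, Complex.mul_conj']
  rw [h2] at h
  have hc : (Nat.card G : ℂ) ≠ 0 := by
    rw [Nat.card_eq_fintype_card]
    exact_mod_cast Fintype.card_ne_zero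
  have h3 : ((∑ g : G, ‖ρ.character g‖ ^ 2 : ℝ) : ℂ) = (Nat.card G : ℂ) := by
    field_simp at h
    exact h
  rw [Nat.card_eq_fintype_card] at h3
  exact_mod_cast h3

theorem char_pow_eq_zero_of_coprime (g : G) (i : ℕ) (hi : i.Coprime (Fintype.card G))
    (h0 : ρ.character g = 0) : ρ.character (g ^ i) = 0 := by
  obtain ⟨f, -, -, hf⟩ := exists_poly_char ρ g
  have hn : 0 < Fintype.card G := Fintype.card_pos
  have h1 := hf 1
  rw [pow_one, pow_one, h0] at h1
  rw [hf]
  exact aeval_pow_eq_zero_of_coprime hn (stdRoot_spec hn) i hi f h1.symm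

theorem norm_sq_char_pow_of_coprime (g : G) (i : ℕ) (hi : i.Coprime (Fintype.card G))
    (N : ℤ) (hN : ‖ρ.character g‖ ^ 2 = (N : ℝ)) : ‖ρ.character (g ^ i)‖ ^ 2 = (N : ℝ) := by
  obtain ⟨f, -, -, hf⟩ := exists_poly_char ρ g
  have hn : 0 < Fintype.card G := Fintype.card_pos
  have hζ := stdRoot_spec hn
  set n := Fintype.card G
  set ζ := stdRoot n
  have h1 := hf 1
  rw [pow_one, pow_one] at h1
  -- the polynomial f * f(X^(n-1)) - N
  let h : ℤ[X] := f * f.comp (X ^ (n - 1)) - C N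
  have hval : ∀ w : ℂ, w ^ n = 1 → aeval w h = ((‖aeval w f‖ ^ 2 - (N : ℝ) : ℝ) : ℂ) := by
    intro w hw
    simp only [h, map_sub, map_mul, aeval_comp, map_pow, aeval_X, aeval_C]
    rw [pow_pred_eq_conj hn hw, ← conj_aeval_int, Complex.mul_conj']
    push_cast
    simp
  have h0 : aeval ζ h = 0 := by
    rw [hval ζ hζ.pow_eq_one, ← h1, hN]
    simp
  have h2 := aeval_pow_eq_zero_of_coprime hn hζ i hi h h0
  rw [hval (ζ ^ i) (by rw [← pow_mul, mul_comm, pow_mul, hζ.pow_eq_one, one_pow]), ← hf] at h2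
  have h3 : ‖ρ.character (g ^ i)‖ ^ 2 - (N : ℝ) = 0 := by exact_mod_cast h2
  linarith

/-- Burnside's inequality for a character value that does not vanish. -/
theorem card_le_sum_norm_sq_char_pow (g : G) (h0 : ρ.character g ≠ 0) :
    (((Finset.range (Fintype.card G)).filter (fun i => i.Coprime (Fintype.card G))).card : ℝ) ≤
      ∑ i ∈ (Finset.range (Fintype.card G)).filter (fun i => i.Coprime (Fintype.card G)),
        ‖ρ.character (g ^ i)‖ ^ 2 := by
  obtain ⟨f, -, -, hf⟩ := exists_poly_char ρ g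
  have hn : 0 < Fintype.card G := Fintype.card_pos
  have hζ := stdRoot_spec hn
  have h1 := hf 1
  rw [pow_one, pow_one] at h1
  have := card_le_sum_sq_norm_aeval_pow hn hζ f (by rw [← h1]; exact h0)
  refine this.trans (le_of_eq ?_)
  refine Finset.sum_congr rfl fun i _ => ?_
  rw [hf]

end Cfsg.Agent.H79
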