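import Mathlib
import Cfsg.Prelude.Def_Blocks
import Cfsg.Agent.H20.MinMax
import Cfsg.Agent.H20.BrauerMap
import Cfsg.Agent.H20.BlockIdem
import Cfsg.Agent.H80.Block
import Cfsg.Agent.H81.WBO
import Cfsg.Agent.H79.BrauerSupport

/-!
# Existence of Brauer correspondents (helper79)

* `exists_pow_coeffIdeal`: an element of the local class algebra all of whose central character
  values lie in the local ideal has a power with coefficients in the local ideal.
* `coeffIdeal_of_idem`: if it is moreover idempotent modulo the local ideal, its coefficients lie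
  in the local ideal.
* `exists_irr_brauer_block`: if the idempotent of the block `B` of `G` has a coefficient outside
  the local ideal at an element of `C_G(P)`, then for `C_G(P) ≤ H ≤ N_G(P)` some `ξ ∈ Irr(H)` has
  Brauer central character congruent to the central character of `B`.
* `exists_isInducedBlock_of_coeff`: hence `B` is induced from a block of `H` when `P ≤ H`.
-/

set_option autoImplicit false
set_option linter.unusedSectionVars false
set_option linter.style.haveILetI false

namespace Cfsg.Agent.H79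

open Cfsg Cfsg.Agent.H20 Cfsg.Agent.H4

universe u

section

variable {G : Type u} [Group G] [Fintype G] {M : Ideal AlgInt}

/-- If every central character maps `a` into the local ideal, some power of `a` has all its
coefficients in the local ideal. -/
theorem exists_pow_coeffIdeal (hM : M.IsPrime) {a : MonoidAlgebra ℂ G}
    (ha : a ∈ cfSubring G (localRing M hM))
    (h : ∀ ψ : IrrCharacter G, MemLocalIdeal M (omega (ψ : G → ℂ) a)) :
    ∃ N : ℕ, CoeffIdeal M (a ^ N) := by
  classical
  letI := fintypeIrr G
  have key : ∀ S : Finset (IrrCharacter G), ∃ w ∈ cfSubring G (localRing M hM),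
      (∀ ψ : IrrCharacter G, ψ ∈ S → omega (ψ : G → ℂ) w = 0) ∧
      CoeffIdeal M (w - a ^ S.card) := by
    intro S
    induction S using Finset.induction_on with
    | empty =>
      refine ⟨1, Subring.one_mem _, ?_, ?_⟩
      · intro ψ hψ
        exact absurd hψ (Finset.notMem_empty ψ)
      · rw [Finset.card_empty, pow_zero, sub_self]
        exact coeffIdeal_zero hM
    | insert χ S hχ ih =>
      obtain ⟨w, hw, hw0, hwI⟩ := ih
      obtain ⟨κ, hκ⟩ : ∃ κ : ℂ, κ = omega (χ : G → ℂ) a := ⟨_, rfl⟩
      have hκI : MemLocalIdeal M κ := by rw [hκ]; exact h χ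
      have haκ : a - κ • (1 : MonoidAlgebra ℂ G) ∈ cfSubring G (localRing M hM) :=
        Subring.sub_mem _ ha
          (smul_mem_cfSubring (MemLocalIdeal.memLocalRing hκI) (Subring.one_mem _))
      refine ⟨(a - κ • (1 : MonoidAlgebra ℂ G)) * w, Subring.mul_mem _ haκ hw, ?_, ?_⟩
      · intro ψ hψ
        rw [omega_mul ψ haκ.1]
        rcases Finset.mem_insert.mp hψ with rfl | hψS
        · rw [omega_sub, omega_smul, omega_one_irr, mul_one, hκ, sub_self, zero_mul]
        · rw [hw0 ψ hψS, mul_zero]
      · rw [Finset.card_insert_of_notMem hχ, pow_succ']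
        have e1 : (a - κ • (1 : MonoidAlgebra ℂ G)) * w - a * a ^ S.card
            = a * (w - a ^ S.card) - κ • w := by
          rw [sub_mul, smul_mul_assoc, one_mul, mul_sub]
          abel
        rw [e1]
        exact (hwI.mul_left hM ha).sub hM (coeffIdeal_smul_of_mem hM hκI hw)
  obtain ⟨w, hw, hw0, hwI⟩ := key Finset.univ
  have hw' : w = 0 := eq_zero_of_omega_eq_zero hw.1 (fun ψ => hw0 ψ (Finset.mem_univ ψ))
  rw [hw', zero_sub] at hwI
  refine ⟨(Finset.univ : Finset (IrrCharacter G)).card, ?_⟩
  have := hwI.neg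
  rwa [neg_neg] at this

/-- An element of the local class algebra that is idempotent modulo the local ideal and whose
central character values all lie in the local ideal has all its coefficients in the local ideal. -/
theorem coeffIdeal_of_idem (hM : M.IsPrime) {w : MonoidAlgebra ℂ G}
    (hw : w ∈ cfSubring G (localRing M hM)) (hidem : CoeffIdeal M (w * w - w))
    (h : ∀ ψ : IrrCharacter G, MemLocalIdeal M (omega (ψ : G → ℂ) w)) : CoeffIdeal M w := by
  obtain ⟨N, hN⟩ := exists_pow_coeffIdeal hM hw h
  have hpow : ∀ n : ℕ, CoeffIdeal M (w ^ (n + 1) - w) := by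
    intro n
    induction n with
    | zero =>
      rw [zero_add, pow_one, sub_self]
      exact coeffIdeal_zero hM
    | succ n ih =>
      have e : w ^ (n + 1 + 1) - w = w * (w ^ (n + 1) - w) + (w * w - w) := by
        rw [pow_succ' w (n + 1), mul_sub]
        abel
      rw [e]
      exact (ih.mul_left hM hw).add hM hidem
  cases N with
  | zero =>
    rw [pow_zero] at hN
    have := hN.mul_left hM hw
    rwa [mul_one] at this
  | succ n =>
    have := hN.sub hM (hpow n)
    rwa [sub_sub_cancel] at this

variable {p : ℕ} [Fact p.Prime]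

/-- If the idempotent of the block of `χ₀` has a coefficient outside the local ideal at an element
of `C_G(P)`, then for `C_G(P) ≤ H ≤ N_G(P)` some irreducible character of `H` has Brauer central
character congruent to the central character of `χ₀`. -/
theorem exists_irr_brauer_block (hM : IsPModular p M) (P H : Subgroup G) [Fintype H]
    (hP : IsPGroup p P) (hCH : Subgroup.centralizer (P : Set G) ≤ H)
    (hHN : H ≤ Subgroup.normalizer (P : Set G)) (χ₀ : IrrCharacter G) (g₁ : G)
    (hg₁ : g₁ ∈ Subgroup.centralizer (P : Set G))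
    (hcoeff : ¬ MemLocalIdeal M (blockCoeff (blockOf M (χ₀ : G → ℂ)) g₁)) :
    ∃ ξ : IrrCharacter H, ∀ g : G,
      MemLocalIdeal M (brauerCentralChar P H (ξ : H → ℂ) g - centralChar (χ₀ : G → ℂ) g) := by
  classical
  have hMp := isPrime_of_isPModular hM
  obtain ⟨e, hedef⟩ : ∃ e : MonoidAlgebra ℂ G, e = blockElt (blockOf M (χ₀ : G → ℂ)) := ⟨_, rfl⟩
  have he : e ∈ cfSubring G (localRing M hMp) := hedef ▸ blockElt_mem hMp χ₀
  have hee : e * e = e := by rw [hedef]; exact Cfsg.Agent.H81.blockElt_mul_self _
  have hw : brMap P H e ∈ cfSubring H (localRing M hMp) := brMap_mem hHN he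
  have hidem : CoeffIdeal M (brMap P H e * brMap P H e - brMap P H e) := by
    have hI : CoeffIdeal M (brMap P H e - brMap P H e * brMap P H e) := by
      intro c
      have h1 := coeff_brMap_mul_sub_mem hM hP hCH he he c
      rwa [hee] at h1
    have := hI.neg
    rwa [neg_sub] at this
  have hex : ∃ ξ : IrrCharacter H, ¬ MemLocalIdeal M (omega (ξ : H → ℂ) (brMap P H e)) := by
    by_contra hall
    push Not at hall
    have h1 := coeffIdeal_of_idem hMp hw hidem hall
    have h2 := h1 ⟨g₁, hCH hg₁⟩
    rw [coeff_brMap, if_pos hg₁, hedef, coeff_blockElt] at h2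
    exact hcoeff h2
  obtain ⟨ξ, hξ⟩ := hex
  obtain ⟨χ₁, hχ₁⟩ := (isModHom_brauer hM hP hCH hHN ξ).exists_irr
  have hχ₁B : χ₁ ∈ blockOf M (χ₀ : G → ℂ) := by
    by_contra hnot
    have h1 := hχ₁ e he
    have h2 : omega (χ₁ : G → ℂ) e = 0 := by rw [hedef, omega_blockElt, if_neg hnot]
    rw [h2, sub_zero] at h1
    exact hξ h1
  refine ⟨ξ, fun g => ?_⟩
  have h1 := hχ₁ (classSum g) (classSum_mem _ g)
  rw [omega_brMap_classSum, omega_classSum _ (irr_isClassFunction χ₁)] at h1
  have h2 : MemLocalIdeal M (centralChar (χ₁ : G → ℂ) g - centralChar (χ₀ : G → ℂ) g) := by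
    have h3 := memLocalIdeal_neg (hχ₁B g)
    rwa [neg_sub] at h3
  have h3 := memLocalIdeal_add hMp h1 h2
  convert h3 using 1
  ring

/-- If the idempotent of the block of `χ₀` has a coefficient outside the local ideal at an element
of `C_G(P)`, then the block of `χ₀` is induced from a block of any `H` with
`P C_G(P) ≤ H ≤ N_G(P)`. -/
theorem exists_isInducedBlock_of_coeff (hM : IsPModular p M) (P H : Subgroup G) [Fintype H]
    (hP : IsPGroup p P) (hPH : P ≤ H) (hCH : Subgroup.centralizer (P : Set G) ≤ H)
    (hHN : H ≤ Subgroup.normalizer (P : Set G)) (χ₀ : IrrCharacter G) (g₁ : G)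
    (hg₁ : g₁ ∈ Subgroup.centralizer (P : Set G))
    (hcoeff : ¬ MemLocalIdeal M (blockCoeff (blockOf M (χ₀ : G → ℂ)) g₁)) :
    ∃ ξ : IrrCharacter H, IsInducedBlock M H (blockOf M (ξ : H → ℂ)) (blockOf M (χ₀ : G → ℂ)) ∧
      ∀ g : G,
        MemLocalIdeal M (brauerCentralChar P H (ξ : H → ℂ) g - centralChar (χ₀ : G → ℂ) g) := by
  have hMp := isPrime_of_isPModular hM
  obtain ⟨ξ, hξ⟩ := exists_irr_brauer_block hM P H hP hCH hHN χ₀ g₁ hg₁ hcoeff
  obtain ⟨χ₁, hind, hχ₁⟩ := exists_isInducedBlock hM hP hPH hCH hHN ξ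
  have hsame : SameBlock M (χ₀ : G → ℂ) (χ₁ : G → ℂ) := by
    intro g
    have h1 := memLocalIdeal_sub hMp (hχ₁ g) (hξ g)
    convert h1 using 1
    ring
  rw [Cfsg.Agent.H80.blockOf_eq_of_sameBlock hMp hsame] at hind
  exact ⟨ξ, hind, hξ⟩

end

end Cfsg.Agent.H79
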