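import Mathlib
import Cfsg.Prelude.Def_Blocks
import Cfsg.Agent.H79.DefectClass
import Cfsg.Agent.H84.BlockDom
import Cfsg.Agent.H82.Irr

/-!
# Defect classes and character degrees (helper79)

Let `g` represent a defect class of the block `B` (`Cfsg.IsDefectClass`), and let `A` be a Sylow
`p`-subgroup of `C_G(g)` (a defect group).  With `p ^ c` the `p`-part of the class size of `g`:

* `pow_dvd_degree_of_defectClass`: every member of `B` has degree divisible by `p ^ c`;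
* `exists_degree_not_dvd_of_defectClass`: some member of `B` has degree not divisible by
  `p ^ (c + 1)`.

So the least `p`-part of a degree in `B` is exactly `p ^ c`: the defect of `B` computed from
degrees is the exponent of the order of a defect group.
-/

set_option autoImplicit false

namespace Cfsg.Agent.H79

open Cfsg Cfsg.Agent.H20 Cfsg.Agent.H4
open scoped ComplexConjugate

section

variable {G : Type*} [Group G] [Finite G] {M : Ideal AlgInt} {p : ℕ}

omit [Finite G] in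
/-- A product of a nontrivial `p`-element and a commuting `p`-regular element is `p`-singular. -/
theorem dvd_orderOf_mul_of_pgroup (hp : p.Prime) (A : Subgroup G) (hA : IsPGroup p A) {u y : G}
    (hu : u ∈ A) (hu1 : u ≠ 1) (hcomm : Commute u y) (hy : ¬ p ∣ orderOf y) :
    p ∣ orderOf (u * y) := by
  obtain ⟨k, hk⟩ := hA ⟨u, hu⟩
  have hk' : u ^ p ^ k = 1 := by
    have := congrArg Subtype.val hk
    simpa using this
  obtain ⟨j, -, hj⟩ := (Nat.dvd_prime_pow hp).mp (orderOf_dvd_of_pow_eq_one hk')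
  have hj0 : j ≠ 0 := by
    rintro rfl
    rw [pow_zero, orderOf_eq_one_iff] at hj
    exact hu1 hj
  have hcop : (orderOf u).Coprime (orderOf y) := by
    rw [hj]
    exact Nat.Coprime.pow_left j ((Nat.Prime.coprime_iff_not_dvd hp).mpr hy)
  rw [hcomm.orderOf_mul_eq_mul_orderOf_of_coprime hcop, hj]
  exact Dvd.dvd.mul_right (dvd_pow_self p hj0) _

/-- Some member of a block has degree not divisible by `p ^ (c + 1)`, where `p ^ c` is the
`p`-part of the size of a defect class. -/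
theorem exists_degree_not_dvd_of_defectClass (hM : IsPModular p M) (χ₀ : IrrCharacter G) (g : G)
    (hg : IsDefectClass M (blockOf M (χ₀ : G → ℂ)) g) (A : Subgroup G) (hA : IsPGroup p A)
    (hc : ∀ u ∈ A, u * g = g * u)
    (hcard : Nat.card A = p ^ (Nat.card (Subgroup.centralizer ({g} : Set G))).factorization p) :
    ∃ ψ ∈ blockOf M (χ₀ : G → ℂ),
      ¬ p ^ ((Subgroup.centralizer ({g} : Set G)).index.factorization p + 1)
        ∣ charDegree (ψ : G → ℂ) := by
  classical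
  have hfG : Fintype G := Fintype.ofFinite G
  let _ : Fintype (IrrCharacter G) := fintypeIrr G
  have hMp := isPrime_of_isPModular hM
  have hp : p.Prime := hM.1
  obtain ⟨-, hβJ, -⟩ := hg
  by_contra hall
  push Not at hall
  obtain ⟨c, hcdef⟩ : ∃ c : ℕ, c = (Subgroup.centralizer ({g} : Set G)).index.factorization p :=
    ⟨_, rfl⟩
  rw [← hcdef] at hall
  have hgreg : ¬ p ∣ orderOf g := fun hdvd => hβJ (by
    rw [Cfsg.Agent.H84.blockCoeff_eq_zero_of_singular hM χ₀ g hdvd]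
    exact memLocalIdeal_zero hMp)
  obtain ⟨n, hn⟩ : ∃ n : IrrCharacter G → ℕ, n = fun ψ =>
      if ψ ∈ blockOf M (χ₀ : G → ℂ) then charDegree (ψ : G → ℂ) / p ^ (c + 1) else 0 := ⟨_, rfl⟩
  have hΘ : IsCharacter G (∑ᶠ ψ : IrrCharacter G, (n ψ : ℂ) • (ψ : G → ℂ)) :=
    isCharacter_finsum_irr n
  have hGne : (Nat.card G : ℂ) ≠ 0 := by
    exact_mod_cast (Nat.card_pos (α := G)).ne'
  have hppow : ((p ^ (c + 1) : ℕ) : ℂ) ≠ 0 := by
    exact_mod_cast (pow_pos hp.pos (c + 1)).ne'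
  have hrel : ∀ y : G, blockCoeff (blockOf M (χ₀ : G → ℂ)) y
      = ((p ^ (c + 1) : ℕ) : ℂ) / (Nat.card G : ℂ)
        * (∑ᶠ ψ : IrrCharacter G, (n ψ : ℂ) • (ψ : G → ℂ)) y⁻¹ := by
    intro y
    rw [blockCoeff_eq, finsum_irr_apply, finsum_irr_eq_sum]
    have h1 : ∑ ψ : IrrCharacter G,
        (if ψ ∈ blockOf M (χ₀ : G → ℂ) then (ψ : G → ℂ) 1 * conj ((ψ : G → ℂ) y) else 0)
        = ((p ^ (c + 1) : ℕ) : ℂ) * ∑ ψ : IrrCharacter G, (n ψ : ℂ) * (ψ : G → ℂ) y⁻¹ := by
      rw [Finset.mul_sum]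
      apply Finset.sum_congr rfl
      intro ψ _
      have hnψ : n ψ = if ψ ∈ blockOf M (χ₀ : G → ℂ) then charDegree (ψ : G → ℂ) / p ^ (c + 1)
          else 0 := by rw [hn]
      rw [hnψ]
      by_cases hψ : ψ ∈ blockOf M (χ₀ : G → ℂ)
      · obtain ⟨q, hq⟩ := hall ψ hψ
        rw [if_pos hψ, if_pos hψ, Cfsg.Agent.H82.irr_one_eq_charDegree ψ, irr_conj ψ y, hq,
          Nat.mul_div_cancel_left q (pow_pos hp.pos _)]
        push_cast
        ring
      · rw [if_neg hψ, if_neg hψ]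
        simp
    rw [h1]
    field_simp
  have hcinv : ∀ u ∈ A, u * g⁻¹ = g⁻¹ * u := by
    intro u hu
    have h1 := hc u hu
    calc u * g⁻¹ = g⁻¹ * (g * u) * g⁻¹ := by group
      _ = g⁻¹ * (u * g) * g⁻¹ := by rw [h1]
      _ = g⁻¹ * u := by group
  have hvan : ∀ u ∈ A, u ≠ 1 →
      (∑ᶠ ψ : IrrCharacter G, (n ψ : ℂ) • (ψ : G → ℂ)) (u * g⁻¹) = 0 := by
    intro u hu hu1
    have h1 := hrel ((u * g⁻¹)⁻¹)
    rw [inv_inv] at h1
    have hsing : p ∣ orderOf ((u * g⁻¹)⁻¹) := by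
      rw [orderOf_inv]
      apply dvd_orderOf_mul_of_pgroup hp A hA hu hu1 (hcinv u hu)
      rw [orderOf_inv]
      exact hgreg
    rw [Cfsg.Agent.H84.blockCoeff_eq_zero_of_singular hM χ₀ _ hsing] at h1
    rcases mul_eq_zero.mp h1.symm with h2 | h2
    · exact absurd h2 (div_ne_zero hppow hGne)
    · exact h2
  have hV := char_div_card_memLocalRing hMp A g⁻¹ hcinv hΘ hvan
  -- arithmetic of the orders
  have hCne : Nat.card (Subgroup.centralizer ({g} : Set G)) ≠ 0 := Nat.card_pos.ne'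
  have hIne : (Subgroup.centralizer ({g} : Set G)).index ≠ 0 := Subgroup.index_ne_zero_of_finite
  obtain ⟨m', hm'⟩ : ∃ m' : ℕ, m' = Nat.card (Subgroup.centralizer ({g} : Set G))
      / p ^ (Nat.card (Subgroup.centralizer ({g} : Set G))).factorization p := ⟨_, rfl⟩
  obtain ⟨k', hk'⟩ : ∃ k' : ℕ, k' = (Subgroup.centralizer ({g} : Set G)).index / p ^ c := ⟨_, rfl⟩
  have hm'p : ¬ p ∣ m' := by rw [hm']; exact Nat.not_dvd_ordCompl hp hCne
  have hk'p : ¬ p ∣ k' := by rw [hk', hcdef]; exact Nat.not_dvd_ordCompl hp hIne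
  have hGcard : Nat.card G = Nat.card A * m' * (p ^ c * k') := by
    rw [← Subgroup.card_mul_index (Subgroup.centralizer ({g} : Set G)), hcard, hm', hk', hcdef,
      Nat.ordProj_mul_ordCompl_eq_self, Nat.ordProj_mul_ordCompl_eq_self]
  have hAne : (Nat.card A : ℂ) ≠ 0 := by
    exact_mod_cast (Nat.card_pos (α := A)).ne'
  have hm'k' : ¬ p ∣ m' * k' := fun h => (hp.dvd_mul.mp h).elim hm'p hk'p
  have hm'k'ne : ((m' * k' : ℕ) : ℂ) ≠ 0 := by
    have : m' * k' ≠ 0 := fun h0 => hm'k' (by rw [h0]; exact dvd_zero p)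
    exact_mod_cast this
  have h2 := hrel g
  have h3 : blockCoeff (blockOf M (χ₀ : G → ℂ)) g = (p : ℂ) * (((m' * k' : ℕ) : ℂ)⁻¹ *
      ((∑ᶠ ψ : IrrCharacter G, (n ψ : ℂ) • (ψ : G → ℂ)) g⁻¹ / (Nat.card A : ℂ))) := by
    rw [h2, hGcard]
    have hpc : ((p ^ c : ℕ) : ℂ) ≠ 0 := by exact_mod_cast (pow_pos hp.pos c).ne'
    push_cast at hm'k'ne hpc ⊢
    have hm0 : (m' : ℂ) ≠ 0 := fun h0 => hm'k'ne (by rw [h0, zero_mul])
    have hk0 : (k' : ℂ) ≠ 0 := fun h0 => hm'k'ne (by rw [h0, mul_zero])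
    have hp0 : (p : ℂ) ≠ 0 := by exact_mod_cast hp.ne_zero
    field_simp
    ring
  apply hβJ
  rw [h3]
  exact memLocalIdeal_mul_right hMp (memLocalIdeal_natCast_self hM)
    (memLocalRing_mul hMp (memLocalRing_inv_natCast hM hm'k') hV)

/-- Every member of a block has degree divisible by the `p`-part `p ^ c` of the size of a
defect class. -/
theorem pow_dvd_degree_of_defectClass (hM : IsPModular p M) (B : Set (IrrCharacter G)) (g : G)
    (hg : IsDefectClass M B g) (ψ : IrrCharacter G) (hψ : ψ ∈ B) :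
    p ^ ((Subgroup.centralizer ({g} : Set G)).index.factorization p)
      ∣ charDegree (ψ : G → ℂ) := by
  have hMp := isPrime_of_isPModular hM
  have hp : p.Prime := hM.1
  obtain ⟨-, -, hω⟩ := hg
  have hωψ := hω ψ hψ
  have hIne : (Subgroup.centralizer ({g} : Set G)).index ≠ 0 := Subgroup.index_ne_zero_of_finite
  have hdpos : 0 < charDegree (ψ : G → ℂ) := Cfsg.Agent.H82.charDegree_pos ψ
  by_contra hnd
  apply hωψ
  -- write degree = p ^ ν * m with ν < c
  obtain ⟨ν, hν⟩ : ∃ ν : ℕ, ν = (charDegree (ψ : G → ℂ)).factorization p := ⟨_, rfl⟩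
  obtain ⟨c, hcdef⟩ : ∃ c : ℕ, c = (Subgroup.centralizer ({g} : Set G)).index.factorization p :=
    ⟨_, rfl⟩
  rw [← hcdef] at hnd
  have hlt : ν < c := by
    by_contra hge
    push Not at hge
    apply hnd
    have h1 : p ^ ν ∣ charDegree (ψ : G → ℂ) := by rw [hν]; exact Nat.ordProj_dvd _ _
    exact (pow_dvd_pow p hge).trans h1
  obtain ⟨m', hm'⟩ : ∃ m' : ℕ, m' = charDegree (ψ : G → ℂ) / p ^ ν := ⟨_, rfl⟩
  obtain ⟨k', hk'⟩ : ∃ k' : ℕ, k' = (Subgroup.centralizer ({g} : Set G)).index / p ^ c := ⟨_, rfl⟩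
  have hm'p : ¬ p ∣ m' := by rw [hm', hν]; exact Nat.not_dvd_ordCompl hp hdpos.ne'
  have hdeg : charDegree (ψ : G → ℂ) = p ^ ν * m' := by
    rw [hm', hν, Nat.ordProj_mul_ordCompl_eq_self]
  have hidx : (Subgroup.centralizer ({g} : Set G)).index = p ^ c * k' := by
    rw [hk', hcdef, Nat.ordProj_mul_ordCompl_eq_self]
  obtain ⟨e, he⟩ : ∃ e : ℕ, c = ν + (e + 1) := ⟨c - ν - 1, by omega⟩
  have hm0 : (m' : ℂ) ≠ 0 := by
    have : m' ≠ 0 := fun h0 => hm'p (by rw [h0]; exact dvd_zero p)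
    exact_mod_cast this
  have hp0 : (p : ℂ) ≠ 0 := by exact_mod_cast hp.ne_zero
  have h1 : centralChar (ψ : G → ℂ) g = (p : ℂ) * ((((p ^ e * k' : ℕ) : ℂ) * (m' : ℂ)⁻¹)
      * (ψ : G → ℂ) g) := by
    unfold centralChar
    rw [Cfsg.Agent.H82.irr_one_eq_charDegree ψ, hdeg, hidx, he]
    push_cast
    field_simp
    ring
  rw [h1]
  exact memLocalIdeal_mul_right hMp (memLocalIdeal_natCast_self hM)
    (memLocalRing_mul hMp (memLocalRing_mul hMp (memLocalRing_natCast hMp _)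
      (memLocalRing_inv_natCast hM hm'p))
      (memLocalRing_algInt hMp ⟨_, Cfsg.Agent.H82.irr_isIntegral ψ g⟩))

end

end Cfsg.Agent.H79
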