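import Mathlib
import Cfsg.Prelude.Def_Blocks
import Cfsg.Prelude.Def_BlockRank
import Cfsg.Agent.H79.RelDefectZero
import Cfsg.Agent.H79.DefectDegree
import Cfsg.Agent.H79.NormalBlocks
import Cfsg.Agent.H80.Block
import Cfsg.Agent.H84.BlockDom

/-!
# Blocks with a central defect group (helper79)

Let `D` be a central `p`-subgroup of `G` and `χ₁` an irreducible character of relative defect zero
over `D` (the `p`-parts of `χ₁ 1` and `|G : D|` agree), `B` its block.

* `sum_eq_card_mul_sum_regular`: coset counting over the `p`-regular elements.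
* `eq_of_sameBlock_of_over`: `χ₁` is the only member of `B` lying over its linear character of `D`.
* `sum_over_eq`: the members of a block over a linear character `μ` of `D` versus the block
  idempotent.
* `exists_unique_over`: for every linear character `μ` of `D` there is exactly one member of `B`
  over `μ`; it has the degree of `χ₁` and agrees with `χ₁` on the `p`-regular elements.
-/

set_option autoImplicit false
set_option linter.unusedSectionVars false

namespace Cfsg.Agent.H79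

open Cfsg Cfsg.Agent.H20 Cfsg.Agent.H4
open scoped ComplexConjugate

universe u

/-- `χ` lies over the function `μ` on the subgroup `D`. -/
def OverOn {G : Type u} [Group G] (D : Subgroup G) (μ : D → ℂ) (χ : G → ℂ) : Prop :=
  ∀ (z : D) (h : G), χ ((z : G) * h) = μ z * χ h

open scoped Classical in
/-- Coset counting: a function invariant under translation by the central `p`-subgroup `D` and
vanishing at every element without `p`-regular `D`-translate sums to `|D|` times its sum over the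
`p`-regular elements. -/
theorem sum_eq_card_mul_sum_regular {G : Type u} [Group G] [Fintype G] {p : ℕ} (hp : p.Prime)
    (D : Subgroup G) (hD : IsPGroup p D) (hDZ : D ≤ Subgroup.center G) (F : G → ℂ)
    (hinv : ∀ z ∈ D, ∀ g : G, F (g * z) = F g)
    (hvan : ∀ h : G, (∀ z ∈ D, p ∣ orderOf (h * z)) → F h = 0) :
    ∑ h : G, F h = (Nat.card D : ℂ) * ∑ g : G, (if p ∣ orderOf g then 0 else F g) := by
  obtain ⟨S₀, hS₀⟩ : ∃ S₀ : ℂ, S₀ = ∑ g : G, (if p ∣ orderOf g then 0 else F g) := ⟨_, rfl⟩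
  rw [← hS₀]
  have hT1 : ∑ z : G, ∑ g : G, (if z ∈ D ∧ ¬ p ∣ orderOf g then F (g * z) else 0)
      = (Nat.card D : ℂ) * S₀ := by
    rw [← sum_ite_mem_subgroup D S₀]
    apply Finset.sum_congr rfl
    intro z _
    by_cases hz : z ∈ D
    · rw [if_pos hz, hS₀]
      apply Finset.sum_congr rfl
      intro g _
      by_cases hg : p ∣ orderOf g
      · rw [if_pos hg, if_neg (fun h => h.2 hg)]
      · rw [if_neg hg, if_pos ⟨hz, hg⟩, hinv z hz g]
    · rw [if_neg hz]
      apply Finset.sum_eq_zero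
      intro g _
      rw [if_neg (fun h => hz h.1)]
  have hT2 : ∑ z : G, ∑ g : G, (if z ∈ D ∧ ¬ p ∣ orderOf g then F (g * z) else 0)
      = ∑ h : G, F h := by
    have h1 : ∀ z : G, ∑ g : G, (if z ∈ D ∧ ¬ p ∣ orderOf g then F (g * z) else 0)
        = ∑ h : G, (if z ∈ D ∧ ¬ p ∣ orderOf (h * z⁻¹) then F h else 0) := by
      intro z
      rw [← Equiv.sum_comp (Equiv.mulRight z) (fun h => if z ∈ D ∧ ¬ p ∣ orderOf (h * z⁻¹)
          then F h else 0)]
      apply Finset.sum_congr rfl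
      intro g _
      simp only [Equiv.coe_mulRight, mul_inv_cancel_right]
    rw [Finset.sum_congr rfl (fun z _ => h1 z), Finset.sum_comm]
    apply Finset.sum_congr rfl
    intro h _
    by_cases hFh : F h = 0
    · rw [hFh]
      simp
    · have hex : ∃ z ∈ D, ¬ p ∣ orderOf (h * z) := by
        by_contra hall
        push Not at hall
        exact hFh (hvan h hall)
      obtain ⟨z₀, hz₀, hreg⟩ := hex
      rw [Finset.sum_eq_single z₀⁻¹]
      · rw [if_pos ⟨D.inv_mem hz₀, by rwa [inv_inv]⟩]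
      · intro z _ hz
        rw [if_neg]
        rintro ⟨hzD, hzreg⟩
        have hu1 : z₀⁻¹ * z⁻¹ ≠ 1 := by
          intro h1
          apply hz
          have h2 : z⁻¹ = z₀ := by
            have := congrArg (fun t => z₀ * t) h1
            simpa using this
          rw [← h2, inv_inv]
        have hmem : z₀⁻¹ * z⁻¹ ∈ D := D.mul_mem (D.inv_mem hz₀) (D.inv_mem hzD)
        obtain ⟨m, hm⟩ := hD ⟨_, hmem⟩
        have hm' : (z₀⁻¹ * z⁻¹) ^ (p ^ m) = 1 := by
          have := congrArg Subtype.val hm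
          simpa using this
        have hcomm : Commute (z₀⁻¹ * z⁻¹) (h * z₀) :=
          (Subgroup.mem_center_iff.mp (hDZ hmem) (h * z₀)).symm
        have h3 := dvd_orderOf_mul_of_pow hp hu1 m hm' hcomm hreg
        have h2 : z₀⁻¹ * z⁻¹ * (h * z₀) = h * z⁻¹ := by
          rw [hcomm.eq]
          group
        rw [h2] at h3
        exact hzreg h3
      · intro h; exact absurd (Finset.mem_univ _) h
  rw [← hT1, hT2]

/-- A character of relative defect zero over the central `p`-subgroup `D` is the only member of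
its block lying over its linear character of `D`. -/
theorem eq_of_sameBlock_of_over {G : Type u} [Group G] [Finite G] {M : Ideal AlgInt} {p : ℕ}
    (hM : IsPModular p M) (D : Subgroup G) (hD : IsPGroup p D) (hDZ : D ≤ Subgroup.center G)
    (χ₁ ψ : IrrCharacter G)
    (hu : MemLocalRing M ((χ₁ : G → ℂ) 1 * (Nat.card D : ℂ) / (Nat.card G : ℂ)))
    (hsame : SameBlock M (χ₁ : G → ℂ) (ψ : G → ℂ)) (μ : D → ℂ)
    (h1 : OverOn D μ (χ₁ : G → ℂ)) (h2 : OverOn D μ (ψ : G → ℂ)) : ψ = χ₁ := by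
  classical
  have hfG : Fintype G := Fintype.ofFinite G
  have hp : p.Prime := hM.1
  have hMp := isPrime_of_isPModular hM
  have hχ1 : (χ₁ : G → ℂ) 1 ≠ 0 := Cfsg.Agent.H4.irr_one_ne_zero χ₁
  have hψ1 : (ψ : G → ℂ) 1 ≠ 0 := Cfsg.Agent.H4.irr_one_ne_zero ψ
  have hGne : (Nat.card G : ℂ) ≠ 0 := by exact_mod_cast (Nat.card_pos (α := G)).ne'
  have hDne : (Nat.card D : ℂ) ≠ 0 := by exact_mod_cast (Nat.card_pos (α := D)).ne'
  by_contra hne
  -- `μ z * μ z⁻¹ = 1`
  have hμinv : ∀ z : D, μ z⁻¹ * μ z = 1 := by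
    intro z
    have e1 := h1 z⁻¹ ((z : G) * 1)
    have e2 := h1 z 1
    rw [e2] at e1
    have e3 : ((z⁻¹ : D) : G) * ((z : G) * 1) = 1 := by simp
    rw [e3] at e1
    have e4 : (μ z⁻¹ * μ z - 1) * (χ₁ : G → ℂ) 1 = 0 := by
      rw [sub_mul, one_mul, mul_assoc, ← e1, sub_self]
    rcases mul_eq_zero.mp e4 with h | h
    · exact sub_eq_zero.mp h
    · exact absurd h hχ1
  -- the function `F h = χ₁ h⁻¹ * ψ h`
  have hinv : ∀ z ∈ D, ∀ g : G, (χ₁ : G → ℂ) (g * z)⁻¹ * (ψ : G → ℂ) (g * z)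
      = (χ₁ : G → ℂ) g⁻¹ * (ψ : G → ℂ) g := by
    intro z hz g
    have e1 : (g * z)⁻¹ = ((⟨z, hz⟩⁻¹ : D) : G) * g⁻¹ := by
      rw [mul_inv_rev]; rfl
    have e2 : g * z = ((⟨z, hz⟩ : D) : G) * g := Subgroup.mem_center_iff.mp (hDZ hz) g
    rw [e1, e2, h1, h2]
    calc μ (⟨z, hz⟩ : D)⁻¹ * (χ₁ : G → ℂ) g⁻¹ * (μ ⟨z, hz⟩ * (ψ : G → ℂ) g)
        = (μ (⟨z, hz⟩ : D)⁻¹ * μ ⟨z, hz⟩) * ((χ₁ : G → ℂ) g⁻¹ * (ψ : G → ℂ) g) := by ring
      _ = (χ₁ : G → ℂ) g⁻¹ * (ψ : G → ℂ) g := by rw [hμinv, one_mul]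
  have hvan : ∀ h : G, (∀ z ∈ D, p ∣ orderOf (h * z)) →
      (χ₁ : G → ℂ) h⁻¹ * (ψ : G → ℂ) h = 0 := by
    intro h hall
    have e1 : (χ₁ : G → ℂ) h⁻¹ = 0 := by
      apply irr_eq_zero_of_translates_singular hM D hDZ χ₁ hu
      intro z hz
      have e2 : h⁻¹ * z = (h * z⁻¹)⁻¹ := by
        rw [mul_inv_rev, inv_inv]
        exact Subgroup.mem_center_iff.mp (hDZ hz) h⁻¹
      rw [e2, orderOf_inv]
      exact hall z⁻¹ (D.inv_mem hz)
    rw [e1, zero_mul]
  have hsum := sum_eq_card_mul_sum_regular hp D hD hDZ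
    (fun h => (χ₁ : G → ℂ) h⁻¹ * (ψ : G → ℂ) h) hinv hvan
  have hzero : ∑ h : G, (χ₁ : G → ℂ) h⁻¹ * (ψ : G → ℂ) h = 0 := by
    have e1 := Cfsg.Agent.H4.irr_inner_ne hne
    unfold classInner at e1
    rcases mul_eq_zero.mp e1 with h | h
    · exact absurd (inv_eq_zero.mp h) hGne
    · rw [← h]
      apply Finset.sum_congr rfl
      intro g _
      rw [Cfsg.Agent.H20.irr_conj, mul_comm]
  rw [hzero] at hsum
  have hreg0 : ∑ g : G, (if p ∣ orderOf g then 0 else (χ₁ : G → ℂ) g⁻¹ * (ψ : G → ℂ) g) = 0 := by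
    rcases mul_eq_zero.mp hsum.symm with h | h
    · exact absurd h hDne
    · exact h
  -- the central element `c`
  obtain ⟨u, hudef⟩ : ∃ u : ℂ,
      u = (χ₁ : G → ℂ) 1 * (Nat.card D : ℂ) / (Nat.card G : ℂ) := ⟨_, rfl⟩
  rw [← hudef] at hu
  obtain ⟨cg, hcg⟩ : ∃ cg : G → ℂ,
      cg = fun g => if p ∣ orderOf g then 0 else u * (χ₁ : G → ℂ) g⁻¹ := ⟨_, rfl⟩
  obtain ⟨c, hc⟩ : ∃ c : MonoidAlgebra ℂ G, c = ∑ g : G, MonoidAlgebra.single g (cg g) :=
    ⟨_, rfl⟩
  have hccoeff : ∀ g, c.coeff g = cg g := fun g => by rw [hc]; exact coeff_sum_single cg g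
  have hcmem : c ∈ cfSubring G (localRing M hMp) := by
    rw [mem_cfSubring]
    refine ⟨?_, ?_⟩
    · intro g h
      rw [hccoeff, hccoeff, hcg]
      have e1 : orderOf (h * g * h⁻¹) = orderOf g := by
        have := orderOf_injective (MulAut.conj h).toMonoidHom (MulAut.conj h).injective g
        simpa using this
      have e2 : (h * g * h⁻¹)⁻¹ = h * g⁻¹ * h⁻¹ := by group
      simp only [e1, e2, Cfsg.Agent.H81.irr_conj]
    · intro g
      rw [hccoeff, hcg]
      simp only
      split_ifs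
      · exact memLocalRing_zero hMp
      · exact memLocalRing_mul hMp hu
          (memLocalRing_algInt hMp ⟨_, Cfsg.Agent.H82.irr_isIntegral χ₁ _⟩)
  have hω := omega_sub_omega_memLocalIdeal hMp (χ₁ : G → ℂ) (ψ : G → ℂ)
    (irr_isClassFunction χ₁) (irr_isClassFunction ψ) hsame hcmem
  have hω1 : omega (χ₁ : G → ℂ) c = 1 := by
    unfold omega
    have e1 : ∑ g : G, c.coeff g * (χ₁ : G → ℂ) g
        = u * ∑ g : G, (if p ∣ orderOf g then 0 else (χ₁ : G → ℂ) g * (χ₁ : G → ℂ) g⁻¹) := by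
      rw [Finset.mul_sum]
      apply Finset.sum_congr rfl
      intro g _
      rw [hccoeff, hcg]
      simp only
      split_ifs
      · rw [zero_mul, mul_zero]
      · ring
    rw [e1, sum_regular_mul_inv hM D hD hDZ χ₁ (hudef ▸ hu), hudef]
    have e2 : (Nat.card G : ℂ) = (Nat.card D : ℂ) * (D.index : ℂ) := by
      rw [← Subgroup.card_mul_index D]
      push_cast
      ring
    have hI : (D.index : ℂ) ≠ 0 := by
      intro h0
      rw [h0, mul_zero] at e2
      exact hGne e2
    rw [e2]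
    field_simp
  have hω2 : omega (ψ : G → ℂ) c = 0 := by
    unfold omega
    have e1 : ∑ g : G, c.coeff g * (ψ : G → ℂ) g
        = u * ∑ g : G, (if p ∣ orderOf g then 0 else (χ₁ : G → ℂ) g⁻¹ * (ψ : G → ℂ) g) := by
      rw [Finset.mul_sum]
      apply Finset.sum_congr rfl
      intro g _
      rw [hccoeff, hcg]
      simp only
      split_ifs
      · rw [zero_mul, mul_zero]
      · ring
    rw [e1, hreg0, mul_zero, zero_div]
  rw [hω1, hω2, sub_zero] at hω
  exact not_memLocalIdeal_one hMp hω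

/-- If `ψ` lies over the irreducible character `μ` of the central subgroup `D`, then `μ` is a
constituent of the restriction of `ψ` (so the second alternative of `sum_twist` fails). -/
theorem classInner_ne_zero_of_overOn {G : Type u} [Group G] [Fintype G] (D : Subgroup G)
    [Fintype D] (μ : IrrCharacter D) (ψ : IrrCharacter G)
    (h : OverOn D (μ : D → ℂ) (ψ : G → ℂ)) :
    classInner (fun n : D => (ψ : G → ℂ) n) (μ : D → ℂ) ≠ 0 := by
  have hψ1 : (ψ : G → ℂ) 1 ≠ 0 := Cfsg.Agent.H4.irr_one_ne_zero ψ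
  have h1 : (fun n : D => (ψ : G → ℂ) n) = (ψ : G → ℂ) 1 • (μ : D → ℂ) := by
    funext n
    have := h n 1
    rw [mul_one] at this
    rw [this]
    simp [mul_comm]
  rw [h1, classInner_smul_left, irr_inner_self μ, mul_one]
  exact hψ1

open scoped Classical in
/-- The members of a block lying over a linear character `μ` of the central `p`-subgroup `D`,
weighted by their degrees, reproduce the block idempotent on the `p`-regular elements. -/
theorem sum_over_eq {G : Type u} [Group G] [Fintype G] {M : Ideal AlgInt} {p : ℕ}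
    (hM : IsPModular p M) (D : Subgroup G) [Fintype D] (hD : IsPGroup p D)
    (hDZ : D ≤ Subgroup.center G) (μ : IrrCharacter D) (χ₀ : IrrCharacter G) (g : G)
    (hg : ¬ p ∣ orderOf g) :
    @Finset.sum _ _ _ (@Finset.univ _ (fintypeIrr G)) (fun ψ : IrrCharacter G =>
      if ψ ∈ blockOf M (χ₀ : G → ℂ) ∧ OverOn D (μ : D → ℂ) (ψ : G → ℂ)
        then (ψ : G → ℂ) 1 * conj ((ψ : G → ℂ) g) else 0)
      = (D.index : ℂ) * blockCoeff (blockOf M (χ₀ : G → ℂ)) g := by
  let _ : Fintype (IrrCharacter G) := fintypeIrr G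
  have hp : p.Prime := hM.1
  have hGne : (Nat.card G : ℂ) ≠ 0 := by exact_mod_cast (Nat.card_pos (α := G)).ne'
  have hDne : (Nat.card D : ℂ) ≠ 0 := by exact_mod_cast (Nat.card_pos (α := D)).ne'
  obtain ⟨hμ1, hμmul⟩ := irr_mul_of_comm (comm_of_le_center D hDZ) μ
  -- first evaluation: only `z = 1` contributes
  have key1 : ∑ z : D, (μ : D → ℂ) z *
      ((Nat.card G : ℂ) * blockCoeff (blockOf M (χ₀ : G → ℂ)) ((z : G) * g))
      = (Nat.card G : ℂ) * blockCoeff (blockOf M (χ₀ : G → ℂ)) g := by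
    rw [Finset.sum_eq_single (1 : D)]
    · rw [hμ1, one_mul, Subgroup.coe_one, one_mul]
    · intro z _ hz
      have hz1 : (z : G) ≠ 1 := fun h => hz (Subtype.ext h)
      obtain ⟨m, hm⟩ := hD z
      have hm' : (z : G) ^ (p ^ m) = 1 := by
        have := congrArg Subtype.val hm
        simpa using this
      have hcomm : Commute (z : G) g := (Subgroup.mem_center_iff.mp (hDZ z.2) g).symm
      have hsing := dvd_orderOf_mul_of_pow hp hz1 m hm' hcomm hg
      rw [Cfsg.Agent.H84.blockCoeff_eq_zero_of_singular hM χ₀ _ hsing, mul_zero, mul_zero]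
    · intro h; exact absurd (Finset.mem_univ _) h
  -- second evaluation: through the characters
  have key2 : ∑ z : D, (μ : D → ℂ) z *
      ((Nat.card G : ℂ) * blockCoeff (blockOf M (χ₀ : G → ℂ)) ((z : G) * g))
      = (Nat.card D : ℂ) * ∑ ψ : IrrCharacter G,
          (if ψ ∈ blockOf M (χ₀ : G → ℂ) ∧ OverOn D (μ : D → ℂ) (ψ : G → ℂ)
            then (ψ : G → ℂ) 1 * conj ((ψ : G → ℂ) g) else 0) := by
    have e1 : ∀ z : D, (μ : D → ℂ) z *
        ((Nat.card G : ℂ) * blockCoeff (blockOf M (χ₀ : G → ℂ)) ((z : G) * g))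
        = ∑ ψ : IrrCharacter G, (if ψ ∈ blockOf M (χ₀ : G → ℂ)
            then (ψ : G → ℂ) 1 * ((μ : D → ℂ) z * conj ((ψ : G → ℂ) ((z : G) * g))) else 0) := by
      intro z
      rw [blockCoeff_eq, ← mul_assoc (Nat.card G : ℂ), mul_inv_cancel₀ hGne, one_mul,
        Finset.mul_sum]
      apply Finset.sum_congr rfl
      intro ψ _
      split_ifs
      · ring
      · rw [mul_zero]
    rw [Finset.sum_congr rfl (fun z _ => e1 z), Finset.sum_comm, Finset.mul_sum]
    apply Finset.sum_congr rfl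
    intro ψ _
    by_cases hψ : ψ ∈ blockOf M (χ₀ : G → ℂ)
    · simp only [if_pos hψ]
      rw [← Finset.mul_sum]
      rcases sum_twist D hDZ μ ψ with ⟨-, hover, hsum⟩ | ⟨hzero, hsum⟩
      · rw [if_pos ⟨hψ, hover⟩, hsum g]
        ring
      · have hnot : ¬ OverOn D (μ : D → ℂ) (ψ : G → ℂ) :=
          fun h => classInner_ne_zero_of_overOn D μ ψ h hzero
        rw [if_neg (fun h => hnot h.2), hsum g, mul_zero, mul_zero]
    · simp only [if_neg hψ]
      rw [Finset.sum_const_zero, if_neg (fun h => hψ h.1), mul_zero]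
  have e2 : (Nat.card G : ℂ) = (Nat.card D : ℂ) * (D.index : ℂ) := by
    rw [← Subgroup.card_mul_index D]
    push_cast
    ring
  have e3 := key2.symm.trans key1
  rw [e2, mul_assoc] at e3
  exact mul_left_cancel₀ hDne e3

/-- For `χ₁` of relative defect zero over the central `p`-subgroup `D` there is a `p`-regular
element `g` with central character of `χ₁` at `g` a local unit and class size with the same
`p`-part as `|G : D|`. -/
theorem exists_regular_unit_index {G : Type u} [Group G] [Finite G] {M : Ideal AlgInt} {p : ℕ}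
    (hM : IsPModular p M) (D : Subgroup G) (hD : IsPGroup p D) (hDZ : D ≤ Subgroup.center G)
    (χ₁ : IrrCharacter G)
    (hdeg : (charDegree (χ₁ : G → ℂ)).factorization p = D.index.factorization p) :
    ∃ g : G, ¬ p ∣ orderOf g ∧ ¬ MemLocalIdeal M (centralChar (χ₁ : G → ℂ) g) ∧
      (Subgroup.centralizer ({g} : Set G)).index.factorization p = D.index.factorization p := by
  classical
  have hfG : Fintype G := Fintype.ofFinite G
  have hp : p.Prime := hM.1
  have hMp := isPrime_of_isPModular hM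
  obtain ⟨g, hgreg, hgω, hgχ⟩ := exists_regular_unit hM D hD hDZ χ₁ hdeg
  refine ⟨g, hgreg, hgω, ?_⟩
  have hIne : (Subgroup.centralizer ({g} : Set G)).index ≠ 0 := Subgroup.index_ne_zero_of_finite
  have hDne : D.index ≠ 0 := Subgroup.index_ne_zero_of_finite
  apply le_antisymm
  · have hDC : D ≤ Subgroup.centralizer ({g} : Set G) := by
      intro u hu
      rw [Subgroup.mem_centralizer_iff]
      intro h hh
      rw [Set.mem_singleton_iff] at hh
      rw [hh]
      exact Subgroup.mem_center_iff.mp (hDZ hu) g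
    have hdvd : (Subgroup.centralizer ({g} : Set G)).index ∣ D.index :=
      Subgroup.index_dvd_of_le hDC
    exact (hp.pow_dvd_iff_le_factorization hDne).mp ((Nat.ordProj_dvd _ _).trans hdvd)
  · rw [← hdeg]
    by_contra hlt
    push Not at hlt
    apply hgχ
    have h1 := memLocalIdeal_natCast_mul_div hM (a := charDegree (χ₁ : G → ℂ))
      (n := (Subgroup.centralizer ({g} : Set G)).index) hIne hlt
      (centralChar_memLocalRing hMp χ₁ g⁻¹)
    have hχ1 : (χ₁ : G → ℂ) 1 ≠ 0 := Cfsg.Agent.H4.irr_one_ne_zero χ₁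
    have hI0 : ((Subgroup.centralizer ({g} : Set G)).index : ℂ) ≠ 0 := by exact_mod_cast hIne
    have h2 : (charDegree (χ₁ : G → ℂ) : ℂ) * centralChar (χ₁ : G → ℂ) g⁻¹
        / ((Subgroup.centralizer ({g} : Set G)).index : ℂ) = (χ₁ : G → ℂ) g⁻¹ := by
      unfold centralChar
      rw [centralizer_inv, ← Cfsg.Agent.H82.irr_one_eq_charDegree χ₁]
      field_simp
    rw [← h2]
    exact h1

/-- Every member of the block of a character `χ₁` of relative defect zero over the central
`p`-subgroup `D` has degree divisible by the `p`-part of `|G : D|`. -/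
theorem factorization_le_of_sameBlock {G : Type u} [Group G] [Finite G] {M : Ideal AlgInt}
    {p : ℕ} (hM : IsPModular p M) (D : Subgroup G) (hD : IsPGroup p D)
    (hDZ : D ≤ Subgroup.center G) (χ₁ ψ : IrrCharacter G)
    (hdeg : (charDegree (χ₁ : G → ℂ)).factorization p = D.index.factorization p)
    (hsame : SameBlock M (χ₁ : G → ℂ) (ψ : G → ℂ)) :
    D.index.factorization p ≤ (charDegree (ψ : G → ℂ)).factorization p := by
  classical
  have hfG : Fintype G := Fintype.ofFinite G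
  have hMp := isPrime_of_isPModular hM
  obtain ⟨g, -, hgω, hgidx⟩ := exists_regular_unit_index hM D hD hDZ χ₁ hdeg
  rw [← hgidx]
  apply factorization_index_le_of_centralChar hM ψ g
  intro hJ
  apply hgω
  have h1 := memLocalIdeal_add hMp (hsame g) hJ
  rwa [sub_add_cancel] at h1

/-- For `χ₁` of relative defect zero over the central `p`-subgroup `D` and every irreducible
(linear) character `μ` of `D`, the block of `χ₁` has exactly one member over `μ`; it has
relative defect zero, the degree of `χ₁`, and agrees with `χ₁` on the `p`-regular elements. -/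
theorem exists_unique_over {G : Type u} [Group G] [Finite G] {M : Ideal AlgInt} {p : ℕ}
    (hM : IsPModular p M) (D : Subgroup G) [Fintype D] (hD : IsPGroup p D)
    (hDZ : D ≤ Subgroup.center G) (χ₁ : IrrCharacter G)
    (hdeg : (charDegree (χ₁ : G → ℂ)).factorization p = D.index.factorization p)
    (μ : IrrCharacter D) :
    ∃ ψ ∈ blockOf M (χ₁ : G → ℂ), OverOn D (μ : D → ℂ) (ψ : G → ℂ) ∧
      (∀ ψ' ∈ blockOf M (χ₁ : G → ℂ), OverOn D (μ : D → ℂ) (ψ' : G → ℂ) → ψ' = ψ) ∧
      (charDegree (ψ : G → ℂ)).factorization p = D.index.factorization p ∧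
      (ψ : G → ℂ) 1 = (χ₁ : G → ℂ) 1 ∧
      ∀ g : G, ¬ p ∣ orderOf g → (ψ : G → ℂ) g = (χ₁ : G → ℂ) g := by
  classical
  have hfG : Fintype G := Fintype.ofFinite G
  let _ : Fintype (IrrCharacter G) := fintypeIrr G
  have hp : p.Prime := hM.1
  have hMp := isPrime_of_isPModular hM
  -- the linear character of `D` under `χ₁`
  obtain ⟨μ₁, hμ₁⟩ := exists_constituent_res D χ₁
  have hover₁ : OverOn D (μ₁ : D → ℂ) (χ₁ : G → ℂ) := by
    rcases sum_twist D hDZ μ₁ χ₁ with ⟨-, hover, -⟩ | ⟨hzero, -⟩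
    · exact hover
    · exact absurd hzero hμ₁
  obtain ⟨hu₁, -⟩ := degree_units hM D χ₁ hdeg
  have huniq₁ : ∀ ψ ∈ blockOf M (χ₁ : G → ℂ), OverOn D (μ₁ : D → ℂ) (ψ : G → ℂ) → ψ = χ₁ :=
    fun ψ hψ hover => eq_of_sameBlock_of_over hM D hD hDZ χ₁ ψ hu₁ hψ _ hover₁ hover
  have hχ₁B : χ₁ ∈ blockOf M (χ₁ : G → ℂ) := Cfsg.Agent.H80.mem_blockOf_self hMp χ₁
  -- the block idempotent on `p`-regular elements
  have hidem : ∀ g : G, ¬ p ∣ orderOf g →
      (D.index : ℂ) * blockCoeff (blockOf M (χ₁ : G → ℂ)) g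
        = (χ₁ : G → ℂ) 1 * conj ((χ₁ : G → ℂ) g) := by
    intro g hg
    rw [← sum_over_eq hM D hD hDZ μ₁ χ₁ g hg]
    rw [Finset.sum_eq_single χ₁]
    · rw [if_pos ⟨hχ₁B, hover₁⟩]
    · intro ψ _ hψ
      rw [if_neg]
      rintro ⟨h1, h2⟩
      exact hψ (huniq₁ ψ h1 h2)
    · intro h; exact absurd (Finset.mem_univ _) h
  have hsumμ : ∀ g : G, ¬ p ∣ orderOf g →
      ∑ ψ : IrrCharacter G, (if ψ ∈ blockOf M (χ₁ : G → ℂ) ∧ OverOn D (μ : D → ℂ) (ψ : G → ℂ)
        then (ψ : G → ℂ) 1 * conj ((ψ : G → ℂ) g) else 0)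
        = (χ₁ : G → ℂ) 1 * conj ((χ₁ : G → ℂ) g) := by
    intro g hg
    rw [sum_over_eq hM D hD hDZ μ χ₁ g hg, hidem g hg]
  -- degrees
  have h1reg : ¬ p ∣ orderOf (1 : G) := by
    rw [orderOf_one]
    exact hp.not_dvd_one
  have hsq : ∑ ψ : IrrCharacter G,
      (if ψ ∈ blockOf M (χ₁ : G → ℂ) ∧ OverOn D (μ : D → ℂ) (ψ : G → ℂ)
        then charDegree (ψ : G → ℂ) ^ 2 else 0) = charDegree (χ₁ : G → ℂ) ^ 2 := by
    have h := hsumμ 1 h1reg
    have hcast : ((∑ ψ : IrrCharacter G,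
        (if ψ ∈ blockOf M (χ₁ : G → ℂ) ∧ OverOn D (μ : D → ℂ) (ψ : G → ℂ)
          then charDegree (ψ : G → ℂ) ^ 2 else 0) : ℕ) : ℂ)
        = ((charDegree (χ₁ : G → ℂ) ^ 2 : ℕ) : ℂ) := by
      rw [Nat.cast_sum]
      have e1 : (χ₁ : G → ℂ) 1 * conj ((χ₁ : G → ℂ) 1)
          = ((charDegree (χ₁ : G → ℂ) ^ 2 : ℕ) : ℂ) := by
        rw [Cfsg.Agent.H82.irr_one_eq_charDegree χ₁, Complex.conj_natCast]
        push_cast
        ring
      rw [← e1, ← h]
      apply Finset.sum_congr rfl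
      intro ψ _
      split_ifs
      · rw [Cfsg.Agent.H82.irr_one_eq_charDegree ψ, Complex.conj_natCast]
        push_cast
        ring
      · rw [Nat.cast_zero]
    exact_mod_cast hcast
  obtain ⟨ν₁, hν₁⟩ : ∃ ν₁ : ℕ, ν₁ = D.index.factorization p := ⟨_, rfl⟩
  have hex : ∃ ψ : IrrCharacter G, ψ ∈ blockOf M (χ₁ : G → ℂ) ∧
      OverOn D (μ : D → ℂ) (ψ : G → ℂ) ∧ (charDegree (ψ : G → ℂ)).factorization p ≤ ν₁ := by
    by_contra hall
    push Not at hall
    have hdvd : p ^ (2 * ν₁ + 2) ∣ charDegree (χ₁ : G → ℂ) ^ 2 := by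
      rw [← hsq]
      apply Finset.dvd_sum
      intro ψ _
      split_ifs with h
      · have h1 := hall ψ h.1 h.2
        have h2 : p ^ (ν₁ + 1) ∣ charDegree (ψ : G → ℂ) :=
          (hp.pow_dvd_iff_le_factorization (Cfsg.Agent.H82.charDegree_pos ψ).ne').mpr h1
        have h3 := pow_dvd_pow_of_dvd h2 2
        rw [← pow_mul] at h3
        have : (ν₁ + 1) * 2 = 2 * ν₁ + 2 := by ring
        rwa [this] at h3
      · exact dvd_zero _
    have h4 := (hp.pow_dvd_iff_le_factorization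
      (pow_pos (Cfsg.Agent.H82.charDegree_pos χ₁) 2).ne').mp hdvd
    rw [Nat.factorization_pow, Finsupp.smul_apply, smul_eq_mul, hdeg, ← hν₁] at h4
    omega
  obtain ⟨ψ, hψB, hψover, hψle⟩ := hex
  have hψge := factorization_le_of_sameBlock hM D hD hDZ χ₁ ψ hdeg hψB
  have hψdeg : (charDegree (ψ : G → ℂ)).factorization p = D.index.factorization p :=
    le_antisymm (hν₁ ▸ hψle) hψge
  obtain ⟨huψ, -⟩ := degree_units hM D ψ hψdeg
  have huniq : ∀ ψ' ∈ blockOf M (χ₁ : G → ℂ), OverOn D (μ : D → ℂ) (ψ' : G → ℂ) → ψ' = ψ := by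
    intro ψ' hψ' hover'
    exact eq_of_sameBlock_of_over hM D hD hDZ ψ ψ' huψ
      (Cfsg.Agent.H80.sameBlock_trans hMp (Cfsg.Agent.H80.sameBlock_symm hψB) hψ') _ hψover hover'
  have hval : ∀ g : G, ¬ p ∣ orderOf g →
      (ψ : G → ℂ) 1 * conj ((ψ : G → ℂ) g) = (χ₁ : G → ℂ) 1 * conj ((χ₁ : G → ℂ) g) := by
    intro g hg
    rw [← hsumμ g hg, Finset.sum_eq_single ψ]
    · rw [if_pos ⟨hψB, hψover⟩]
    · intro ψ' _ hne
      rw [if_neg]
      rintro ⟨h1, h2⟩
      exact hne (huniq ψ' h1 h2)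
    · intro h; exact absurd (Finset.mem_univ _) h
  have hone : (ψ : G → ℂ) 1 = (χ₁ : G → ℂ) 1 := by
    have h := hval 1 h1reg
    rw [Cfsg.Agent.H82.irr_one_eq_charDegree ψ, Cfsg.Agent.H82.irr_one_eq_charDegree χ₁,
      Complex.conj_natCast, Complex.conj_natCast] at h
    have h' : charDegree (ψ : G → ℂ) * charDegree (ψ : G → ℂ)
        = charDegree (χ₁ : G → ℂ) * charDegree (χ₁ : G → ℂ) := by exact_mod_cast h
    have h'' : charDegree (ψ : G → ℂ) = charDegree (χ₁ : G → ℂ) := Nat.mul_self_inj.mp h'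
    rw [Cfsg.Agent.H82.irr_one_eq_charDegree ψ, Cfsg.Agent.H82.irr_one_eq_charDegree χ₁, h'']
  refine ⟨ψ, hψB, hψover, huniq, hψdeg, hone, ?_⟩
  intro g hg
  have h := hval g hg
  rw [hone] at h
  have h2 := mul_left_cancel₀ (Cfsg.Agent.H4.irr_one_ne_zero χ₁) h
  have h3 := congrArg conj h2
  rwa [Complex.conj_conj, Complex.conj_conj] at h3

/-- A block with defect group `P` has a member whose degree has the `p`-part of `|G : P|`, and
every member has degree divisible by that `p`-part. -/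
theorem exists_height_zero_of_defectGroup {G : Type u} [Group G] [Finite G] {M : Ideal AlgInt}
    {p : ℕ} (hM : IsPModular p M) (χ₀ : IrrCharacter G) (P : Subgroup G)
    (hP : IsDefectGroup p M (blockOf M (χ₀ : G → ℂ)) P) :
    (∃ χ₁ ∈ blockOf M (χ₀ : G → ℂ),
      (charDegree (χ₁ : G → ℂ)).factorization p = P.index.factorization p) ∧
    ∀ ψ ∈ blockOf M (χ₀ : G → ℂ),
      P.index.factorization p ≤ (charDegree (ψ : G → ℂ)).factorization p := by
  have hp : p.Prime := hM.1
  have hfact : Fact p.Prime := ⟨hp⟩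
  obtain ⟨g₀, hg₀, S, rfl⟩ := hP
  obtain ⟨D, hDdef⟩ : ∃ D : Subgroup G,
      D = (S : Subgroup (Subgroup.centralizer ({g₀} : Set G))).map
        (Subgroup.centralizer ({g₀} : Set G)).subtype := ⟨_, rfl⟩
  rw [← hDdef]
  have hDp : IsPGroup p D := by rw [hDdef]; exact S.isPGroup'.map _
  have hDc : ∀ u ∈ D, u * g₀ = g₀ * u := by
    intro u hu
    rw [hDdef] at hu
    obtain ⟨w, -, rfl⟩ := Subgroup.mem_map.mp hu
    exact (Subgroup.mem_centralizer_iff.mp w.2 g₀ (Set.mem_singleton g₀)).symm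
  have hcard : Nat.card D
      = p ^ (Nat.card (Subgroup.centralizer ({g₀} : Set G))).factorization p := by
    rw [hDdef, Subgroup.card_map_of_injective (Subgroup.subtype_injective _),
      Sylow.card_eq_multiplicity]
  -- the index of `D` has the `p`-part of the class size of `g₀`
  have hidx : D.index.factorization p
      = (Subgroup.centralizer ({g₀} : Set G)).index.factorization p := by
    have hne1 : Nat.card (Subgroup.centralizer ({g₀} : Set G)) ≠ 0 := Nat.card_pos.ne'
    have hne2 : Nat.card D ≠ 0 := Nat.card_pos.ne'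
    have hi1 : (Subgroup.centralizer ({g₀} : Set G)).index ≠ 0 := Subgroup.index_ne_zero_of_finite
    have hi2 : D.index ≠ 0 := Subgroup.index_ne_zero_of_finite
    have e1 := congrArg (fun n => n.factorization p)
      (Subgroup.card_mul_index (Subgroup.centralizer ({g₀} : Set G)))
    have e2 := congrArg (fun n => n.factorization p) (Subgroup.card_mul_index D)
    simp only [Nat.factorization_mul hne1 hi1, Nat.factorization_mul hne2 hi2,
      Finsupp.add_apply] at e1 e2
    have e3 : (Nat.card D).factorization p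
        = (Nat.card (Subgroup.centralizer ({g₀} : Set G))).factorization p := by
      rw [hcard, hp.factorization_pow]
      simp
    omega
  rw [hidx]
  have hge : ∀ ψ ∈ blockOf M (χ₀ : G → ℂ),
      (Subgroup.centralizer ({g₀} : Set G)).index.factorization p
        ≤ (charDegree (ψ : G → ℂ)).factorization p := by
    intro ψ hψ
    have h1 := pow_dvd_degree_of_defectClass hM _ g₀ hg₀ ψ hψ
    exact (hp.pow_dvd_iff_le_factorization (Cfsg.Agent.H82.charDegree_pos ψ).ne').mp h1
  refine ⟨?_, hge⟩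
  obtain ⟨ψ, hψB, hψnd⟩ := exists_degree_not_dvd_of_defectClass hM χ₀ g₀ hg₀ D hDp hDc hcard
  refine ⟨ψ, hψB, le_antisymm ?_ (hge ψ hψB)⟩
  by_contra hlt
  push Not at hlt
  exact hψnd ((hp.pow_dvd_iff_le_factorization (Cfsg.Agent.H82.charDegree_pos ψ).ne').mpr hlt)

end Cfsg.Agent.H79
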