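import Mathlib
import Cfsg.Prelude.Def_Blocks
import Cfsg.Agent.H84.ThirdMain
import Cfsg.Agent.H82.Rep
import Cfsg.Agent.S0188
import Cfsg.Agent.Lib.Clifford

/-!
# Principal blocks of central products (helper79)

`G = U₁ U₂` with `[U₁, U₂] = 1` and `U₁ ∩ U₂` a `p`-group.

* `central_prod_decomp`: an irreducible character of `G` over `ψ₁`, `ψ₂` is their product.
* `regSum_central_prod`: the `p`-regular sum of a product function factorises.
-/

set_option autoImplicit false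
set_option linter.unusedSectionVars false

namespace Cfsg.Agent.H79

open Cfsg Cfsg.Agent.H4 Cfsg.Agent.Clifford
open scoped ComplexConjugate

section

variable {G : Type*} [Group G] [Fintype G]

open scoped Classical in
theorem regSum_eq_sum_filter (p : ℕ) (f : G → ℂ) :
    Cfsg.Agent.H84.regSum p f
      = ∑ g ∈ Finset.univ.filter (fun g : G => ¬ p ∣ orderOf g), f g := by
  unfold Cfsg.Agent.H84.regSum
  rw [Finset.sum_filter]
  apply Finset.sum_congr rfl
  intro g _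
  by_cases hg : p ∣ orderOf g
  · rw [Cfsg.Agent.H81.pRegularPart_of_dvd p f hg, if_neg (not_not.mpr hg)]
  · rw [Cfsg.Agent.H81.pRegularPart_of_not_dvd p f hg, if_pos hg]

/-- An irreducible character of a central product is the product of the irreducible characters
of the factors below it. -/
theorem central_prod_decomp (U₁ U₂ : Subgroup G) [Fintype U₁] [Fintype U₂]
    (hcomm : ∀ u ∈ U₁, ∀ v ∈ U₂, u * v = v * u) (hgen : U₁ ⊔ U₂ = ⊤) (χ : IrrCharacter G)
    (ψ₁ : IrrCharacter U₁) (ψ₂ : IrrCharacter U₂)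
    (h₁ : classInner (fun u : U₁ => χ.1 u) ψ₁.1 ≠ 0)
    (h₂ : classInner (fun u : U₂ => χ.1 u) ψ₂.1 ≠ 0) :
    ∀ (u : U₁) (v : U₂), χ.1 ((u : G) * (v : G)) = ψ₁.1 u * ψ₂.1 v := by
  classical
  obtain ⟨μ, hμ⟩ : ∃ μ : U₁ × U₂ →* G, ∀ w : U₁ × U₂, μ w = (w.1 : G) * (w.2 : G) ∧
      Function.Surjective μ := by
    have hc : ∀ (u : U₁) (v : U₂), Commute (U₁.subtype u) (U₂.subtype v) := by
      intro u v
      show Commute (u : G) (v : G)
      exact hcomm (u : G) u.2 (v : G) v.2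
    refine ⟨MonoidHom.noncommCoprod U₁.subtype U₂.subtype hc, fun w => ⟨rfl, ?_⟩⟩
    rw [← MonoidHom.range_eq_top, MonoidHom.noncommCoprod_range, Subgroup.range_subtype,
      Subgroup.range_subtype, hgen]
  have hμv : ∀ w : U₁ × U₂, μ w = (w.1 : G) * (w.2 : G) := fun w => (hμ w).1
  have hsurj : Function.Surjective μ := (hμ 1).2
  have hirr : IsIrrCharacter (U₁ × U₂) (fun w => χ.1 (μ w)) := by
    obtain ⟨n, ρ, hirr, hχ⟩ := χ.2
    refine ⟨n, ρ.comp μ, (Cfsg.Agent.H82.irreducible_comp_iff ρ _ hsurj).mpr hirr, ?_⟩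
    ext w
    rw [← hχ]
    rfl
  obtain ⟨φ₁, φ₂, hφ₁, hφ₂, heq⟩ := (Cfsg.Agent.S0188.result _).mp hirr
  have hval : ∀ (u : U₁) (v : U₂), χ.1 ((u : G) * (v : G)) = φ₁ u * φ₂ v := by
    intro u v
    have := congrFun heq (u, v)
    simp only [hμv] at this
    exact this
  have hφ₁1 : φ₁ 1 ≠ 0 := Cfsg.Agent.H4.irr_one_ne_zero ⟨φ₁, hφ₁⟩
  have hφ₂1 : φ₂ 1 ≠ 0 := Cfsg.Agent.H4.irr_one_ne_zero ⟨φ₂, hφ₂⟩
  have e₁ : φ₁ = ψ₁.1 := by
    apply eq_of_classInner_ne_zero hφ₁ ψ₁.2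
    have hres : (fun u : U₁ => χ.1 u) = fun u => φ₂ 1 * φ₁ u := by
      funext u
      have := hval u 1
      simp only [OneMemClass.coe_one, mul_one] at this
      rw [this]
      ring
    rw [hres] at h₁
    intro h0
    apply h₁
    unfold classInner at h0 ⊢
    have : ∑ g : U₁, φ₂ 1 * φ₁ g * conj (ψ₁.1 g) = φ₂ 1 * ∑ g : U₁, φ₁ g * conj (ψ₁.1 g) := by
      rw [Finset.mul_sum]
      apply Finset.sum_congr rfl
      intro g _
      ring
    rw [this, mul_left_comm, h0, mul_zero]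
  have e₂ : φ₂ = ψ₂.1 := by
    apply eq_of_classInner_ne_zero hφ₂ ψ₂.2
    have hres : (fun v : U₂ => χ.1 v) = fun v => φ₁ 1 * φ₂ v := by
      funext v
      have := hval 1 v
      simp only [OneMemClass.coe_one, one_mul] at this
      rw [this]
    rw [hres] at h₂
    intro h0
    apply h₂
    unfold classInner at h0 ⊢
    have : ∑ g : U₂, φ₁ 1 * φ₂ g * conj (ψ₂.1 g) = φ₁ 1 * ∑ g : U₂, φ₂ g * conj (ψ₂.1 g) := by
      rw [Finset.mul_sum]
      apply Finset.sum_congr rfl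
      intro g _
      ring
    rw [this, mul_left_comm, h0, mul_zero]
  intro u v
  rw [hval, e₁, e₂]

/-- In a central product `G = U₁ U₂` with `U₁ ∩ U₂` a `p`-group, the `p`-regular sum of a
product function is the product of the `p`-regular sums. -/
theorem regSum_central_prod (p : ℕ) [Fact p.Prime] (U₁ U₂ : Subgroup G) [Fintype U₁]
    [Fintype U₂] (hcomm : ∀ u ∈ U₁, ∀ v ∈ U₂, u * v = v * u) (hgen : U₁ ⊔ U₂ = ⊤)
    (hZ : IsPGroup p ↥(U₁ ⊓ U₂)) (f : G → ℂ) (f₁ : U₁ → ℂ) (f₂ : U₂ → ℂ)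
    (hf : ∀ (u : U₁) (v : U₂), f ((u : G) * (v : G)) = f₁ u * f₂ v) :
    Cfsg.Agent.H84.regSum p f = Cfsg.Agent.H84.regSum p f₁ * Cfsg.Agent.H84.regSum p f₂ := by
  classical
  have hp : p.Prime := Fact.out
  rw [regSum_eq_sum_filter, regSum_eq_sum_filter, regSum_eq_sum_filter, Finset.sum_mul_sum,
    ← Finset.sum_product']
  symm
  apply Finset.sum_bij (fun (w : U₁ × U₂) _ => (w.1 : G) * (w.2 : G))
  · intro w hw
    rw [Finset.mem_product, Finset.mem_filter, Finset.mem_filter] at hw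
    rw [Finset.mem_filter]
    refine ⟨Finset.mem_univ _, ?_⟩
    have hc : Commute (w.1 : G) (w.2 : G) := hcomm _ w.1.2 _ w.2.2
    intro hdvd
    have h1 := (hdvd.trans hc.orderOf_mul_dvd_lcm).trans (Nat.lcm_dvd_mul _ _)
    rcases (Nat.Prime.dvd_mul hp).mp h1 with h | h
    · apply hw.1.2
      rw [← Subgroup.orderOf_coe]; exact h
    · apply hw.2.2
      rw [← Subgroup.orderOf_coe]; exact h
  · intro w hw w' hw' heq
    rw [Finset.mem_product, Finset.mem_filter, Finset.mem_filter] at hw hw'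
    have hu : ¬ p ∣ orderOf (w.1 : G) := by rw [Subgroup.orderOf_coe]; exact hw.1.2
    have hu' : ¬ p ∣ orderOf (w'.1 : G) := by rw [Subgroup.orderOf_coe]; exact hw'.1.2
    obtain ⟨z, hzdef⟩ : ∃ z : G, z = (w'.1 : G)⁻¹ * (w.1 : G) := ⟨_, rfl⟩
    have hz2 : z = (w'.2 : G) * (w.2 : G)⁻¹ := by
      have heq' : (w.1 : G) * (w.2 : G) = (w'.1 : G) * (w'.2 : G) := heq
      rw [hzdef]
      calc (w'.1 : G)⁻¹ * (w.1 : G) = (w'.1 : G)⁻¹ * ((w.1 : G) * (w.2 : G)) * (w.2 : G)⁻¹ := by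
            group
        _ = (w'.1 : G)⁻¹ * ((w'.1 : G) * (w'.2 : G)) * (w.2 : G)⁻¹ := by rw [heq']
        _ = (w'.2 : G) * (w.2 : G)⁻¹ := by group
    have hzU₁ : z ∈ U₁ := by
      rw [hzdef]; exact U₁.mul_mem (U₁.inv_mem w'.1.2) w.1.2
    have hzU₂ : z ∈ U₂ := by
      rw [hz2]; exact U₂.mul_mem w'.2.2 (U₂.inv_mem w.2.2)
    have hcz : Commute (w'.1 : G) z := hcomm _ w'.1.2 z hzU₂
    have hwz : (w.1 : G) = (w'.1 : G) * z := by rw [hzdef]; group
    have hcu : Commute ((w'.1 : G)⁻¹) (w.1 : G) := by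
      rw [hwz]
      exact ((Commute.refl (w'.1 : G)).mul_right hcz).inv_left
    obtain ⟨k, hk⟩ := hZ ⟨z, Subgroup.mem_inf.mpr ⟨hzU₁, hzU₂⟩⟩
    have hzk : z ^ p ^ k = 1 := by
      have := congrArg Subtype.val hk
      simpa using this
    obtain ⟨m, hmdef⟩ : ∃ m : ℕ, m = orderOf (w.1 : G) * orderOf (w'.1 : G) := ⟨_, rfl⟩
    have hzm : z ^ m = 1 := by
      rw [hzdef, hcu.mul_pow, inv_pow, hmdef]
      have e1 : (w'.1 : G) ^ (orderOf (w.1 : G) * orderOf (w'.1 : G)) = 1 := by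
        rw [mul_comm, pow_mul, pow_orderOf_eq_one, one_pow]
      have e2 : (w.1 : G) ^ (orderOf (w.1 : G) * orderOf (w'.1 : G)) = 1 := by
        rw [pow_mul, pow_orderOf_eq_one, one_pow]
      rw [e1, e2, inv_one, one_mul]
    have hcop : Nat.Coprime (p ^ k) m := by
      apply Nat.Coprime.pow_left
      rw [hmdef]
      exact Nat.Coprime.mul_right ((Nat.Prime.coprime_iff_not_dvd hp).mpr hu)
        ((Nat.Prime.coprime_iff_not_dvd hp).mpr hu')
    have hz1 : z = 1 := by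
      have h1 := orderOf_dvd_of_pow_eq_one hzk
      have h2 := orderOf_dvd_of_pow_eq_one hzm
      have h3 := Nat.dvd_gcd h1 h2
      rw [hcop] at h3
      exact orderOf_eq_one_iff.mp (Nat.dvd_one.mp h3)
    have hu_eq : (w.1 : G) = (w'.1 : G) := by rw [hwz, hz1, mul_one]
    have hv_eq : (w.2 : G) = (w'.2 : G) := by
      have heq' : (w.1 : G) * (w.2 : G) = (w'.1 : G) * (w'.2 : G) := heq
      rw [hu_eq] at heq'
      exact mul_left_cancel heq'
    exact Prod.ext (Subtype.ext hu_eq) (Subtype.ext hv_eq)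
  · intro g hg
    rw [Finset.mem_filter] at hg
    have hgreg := hg.2
    have hgen' : g ∈ U₁ ⊔ U₂ := by rw [hgen]; exact Subgroup.mem_top g
    obtain ⟨u, hu, v, hv, huv⟩ : ∃ u ∈ U₁, ∃ v ∈ U₂, u * v = g := by
      have hcl : ∀ x : G, x ∈ U₁ ⊔ U₂ → ∃ u ∈ U₁, ∃ v ∈ U₂, u * v = x := by
        intro x hx
        rw [Subgroup.sup_eq_closure] at hx
        refine Subgroup.closure_induction ?_ ?_ ?_ ?_ hx
        · rintro y (h | h)
          · exact ⟨y, h, 1, U₂.one_mem, mul_one y⟩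
          · exact ⟨1, U₁.one_mem, y, h, one_mul y⟩
        · exact ⟨1, U₁.one_mem, 1, U₂.one_mem, mul_one 1⟩
        · rintro _ _ _ _ ⟨u, hu, v, hv, rfl⟩ ⟨u', hu', v', hv', rfl⟩
          refine ⟨u * u', U₁.mul_mem hu hu', v * v', U₂.mul_mem hv hv', ?_⟩
          have h1 : v * u' = u' * v := (hcomm u' hu' v hv).symm
          calc u * u' * (v * v') = u * (u' * v) * v' := by group
            _ = u * (v * u') * v' := by rw [h1]
            _ = u * v * (u' * v') := by group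
        · rintro _ _ ⟨u, hu, v, hv, rfl⟩
          refine ⟨u⁻¹, U₁.inv_mem hu, v⁻¹, U₂.inv_mem hv, ?_⟩
          have h1 : u * v = v * u := hcomm u hu v hv
          rw [h1, mul_inv_rev]
      exact hcl g hgen'
    -- a suitable exponent
    obtain ⟨a, hadef⟩ : ∃ a : ℕ, a = (Nat.card G).factorization p := ⟨_, rfl⟩
    obtain ⟨m, hmdef⟩ : ∃ m : ℕ, m = Nat.card G / p ^ a := ⟨_, rfl⟩
    have hGm : p ^ a * m = Nat.card G := by
      rw [hmdef, hadef]
      exact Nat.ordProj_mul_ordCompl_eq_self (Nat.card G) p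
    have hpm : ¬ p ∣ m := by
      rw [hmdef, hadef]
      exact Nat.not_dvd_ordCompl hp Nat.card_pos.ne'
    have hregpow : ∀ x : G, ∀ c : ℕ, ¬ p ∣ orderOf (x ^ (p ^ a * c)) := by
      intro x c hdvd
      have h1 : (x ^ (p ^ a * c)) ^ m = 1 := by
        rw [← pow_mul, mul_right_comm, hGm, pow_mul, pow_card_eq_one', one_pow]
      exact hpm (hdvd.trans (orderOf_dvd_of_pow_eq_one h1))
    obtain ⟨c, hc⟩ : ∃ c : ℕ, g ^ (p ^ a * c) = g := by
      by_cases h1 : orderOf g = 1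
      · refine ⟨0, ?_⟩
        rw [orderOf_eq_one_iff] at h1
        rw [h1, one_pow]
      · have hlt : 1 < orderOf g := by
          have := orderOf_pos g
          omega
        have hcop : Nat.Coprime (p ^ a) (orderOf g) :=
          Nat.Coprime.pow_left a ((Nat.Prime.coprime_iff_not_dvd hp).mpr hgreg)
        obtain ⟨c, -, hc⟩ := Nat.exists_mul_mod_eq_one_of_coprime hcop hlt
        refine ⟨c, ?_⟩
        rw [← pow_mod_orderOf, hc, pow_one]
    have hcuv : Commute u v := hcomm u hu v hv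
    refine ⟨(⟨u ^ (p ^ a * c), U₁.pow_mem hu _⟩, ⟨v ^ (p ^ a * c), U₂.pow_mem hv _⟩), ?_, ?_⟩
    · rw [Finset.mem_product, Finset.mem_filter, Finset.mem_filter]
      refine ⟨⟨Finset.mem_univ _, ?_⟩, ⟨Finset.mem_univ _, ?_⟩⟩
      · rw [← Subgroup.orderOf_coe]; exact hregpow u c
      · rw [← Subgroup.orderOf_coe]; exact hregpow v c
    · show u ^ (p ^ a * c) * v ^ (p ^ a * c) = g
      rw [← hcuv.mul_pow, huv, hc]
  · intro w _
    rw [hf]

end

end Cfsg.Agent.H79
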