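import Mathlib
import Cfsg.Prelude.Def_Blocks
import Cfsg.Agent.H79.CentralDefect
import Cfsg.Agent.H82.Rep
import Cfsg.Agent.S0188

/-!
# Characters and blocks of `G = P C_G(P)` (helper79)

* `prodHom P : P × C_G(P) →* G`, surjective when `P ⊔ C_G(P) = ⊤`.
* `exists_prod_decomp`: every irreducible character `χ` of `G = P C_G(P)` is
  `χ (y * x) = ζ y * ψ x` with `ζ ∈ Irr(P)`, `ψ ∈ Irr(C_G(P))`.
* `index_centralizer_eq`, `centralChar_of_decomp`: the central character of `χ` on `C_G(P)` is the
  central character of `ψ`.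
* `sameBlock_of_decomp`: characters of `G` in the same block have components `ψ` in the same
  block of `C_G(P)`.
-/

set_option autoImplicit false
set_option linter.unusedSectionVars false

namespace Cfsg.Agent.H79

open Cfsg Cfsg.Agent.H20 Cfsg.Agent.H4
open scoped ComplexConjugate

universe u

section

variable {G : Type u} [Group G]

/-- The multiplication map `P × C_G(P) → G`. -/
noncomputable def prodHom (P : Subgroup G) : P × Subgroup.centralizer (P : Set G) →* G :=
  MonoidHom.noncommCoprod P.subtype (Subgroup.centralizer (P : Set G)).subtype (by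
    intro y x
    show Commute (y : G) (x : G)
    exact Subgroup.mem_centralizer_iff.mp x.2 y y.2)

theorem prodHom_apply (P : Subgroup G) (v : P × Subgroup.centralizer (P : Set G)) :
    prodHom P v = (v.1 : G) * (v.2 : G) := rfl

theorem prodHom_surjective (P : Subgroup G) (hG : P ⊔ Subgroup.centralizer (P : Set G) = ⊤) :
    Function.Surjective (prodHom P) := by
  rw [← MonoidHom.range_eq_top]
  unfold prodHom
  rw [MonoidHom.noncommCoprod_range, Subgroup.range_subtype, Subgroup.range_subtype, hG]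

/-- Every element of `G = P C_G(P)` is a product. -/
theorem exists_mul_of_sup_eq_top (P : Subgroup G)
    (hG : P ⊔ Subgroup.centralizer (P : Set G) = ⊤) (g : G) :
    ∃ (y : P) (x : Subgroup.centralizer (P : Set G)), g = (y : G) * (x : G) := by
  obtain ⟨v, hv⟩ := prodHom_surjective P hG g
  exact ⟨v.1, v.2, hv.symm⟩

/-- `P` is normal in `G = P C_G(P)`. -/
theorem normal_of_sup_centralizer_eq_top (P : Subgroup G)
    (hG : P ⊔ Subgroup.centralizer (P : Set G) = ⊤) : P.Normal := by
  rw [← Subgroup.normalizer_eq_top_iff, eq_top_iff, ← hG]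
  exact sup_le Subgroup.le_normalizer (Subgroup.centralizer_le_normalizer _)

/-- Every irreducible character of `G = P C_G(P)` is a product of irreducible characters of `P`
and `C_G(P)`. -/
theorem exists_prod_decomp [Finite G] (P : Subgroup G)
    (hG : P ⊔ Subgroup.centralizer (P : Set G) = ⊤) (χ : IrrCharacter G) :
    ∃ (ζ : IrrCharacter P) (ψ : IrrCharacter (Subgroup.centralizer (P : Set G))),
      ∀ (y : P) (x : Subgroup.centralizer (P : Set G)),
        (χ : G → ℂ) ((y : G) * (x : G)) = (ζ : P → ℂ) y * ψ.1 x := by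
  have hirr : IsIrrCharacter (P × Subgroup.centralizer (P : Set G))
      (fun v => (χ : G → ℂ) (prodHom P v)) := by
    obtain ⟨n, ρ, hirr, hχ⟩ := χ.2
    refine ⟨n, ρ.comp (prodHom P),
      (Cfsg.Agent.H82.irreducible_comp_iff ρ _ (prodHom_surjective P hG)).mpr hirr, ?_⟩
    ext v
    rw [← hχ]
    rfl
  obtain ⟨φ, ψ, hφ, hψ, heq⟩ := (Cfsg.Agent.S0188.result _).mp hirr
  exact ⟨⟨φ, hφ⟩, ⟨ψ, hψ⟩, fun y x => congrFun heq (y, x)⟩

/-- The number of conjugates of `g` is the index of its centralizer (any decidability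
instance). -/
theorem card_conj_eq_index' [Fintype G] (g : G) [DecidablePred (fun y => IsConj g y)] :
    (Finset.univ.filter (fun y => IsConj g y)).card
      = (Subgroup.centralizer ({g} : Set G)).index := by
  classical
  convert card_conj_eq_index g

/-- The class of an element of `C_G(P)` in `G = P C_G(P)` is its class in `C_G(P)`. -/
theorem index_centralizer_eq [Finite G] (P : Subgroup G)
    (hG : P ⊔ Subgroup.centralizer (P : Set G) = ⊤) (x : Subgroup.centralizer (P : Set G)) :
    (Subgroup.centralizer ({(x : G)} : Set G)).index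
      = (Subgroup.centralizer ({x} : Set (Subgroup.centralizer (P : Set G)))).index := by
  classical
  have hfG : Fintype G := Fintype.ofFinite G
  have hfC : Fintype (Subgroup.centralizer (P : Set G)) := Fintype.ofFinite _
  rw [← card_conj_eq_index' (x : G), ← card_conj_eq_index' x]
  symm
  apply Finset.card_bij (fun (h : Subgroup.centralizer (P : Set G)) _ => (h : G))
  · intro h hh
    rw [Finset.mem_filter] at hh ⊢
    refine ⟨Finset.mem_univ _, ?_⟩
    obtain ⟨c, hc⟩ := isConj_iff.mp hh.2
    exact isConj_iff.mpr ⟨(c : G), by rw [← hc]; rfl⟩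
  · intro a _ b _ hab
    exact Subtype.ext hab
  · intro h' hh'
    rw [Finset.mem_filter] at hh'
    obtain ⟨g, hg⟩ := isConj_iff.mp hh'.2
    obtain ⟨y, c, rfl⟩ := exists_mul_of_sup_eq_top P hG g
    have hcx : (c : G) * (x : G) * (c : G)⁻¹ ∈ Subgroup.centralizer (P : Set G) :=
      (c * x * c⁻¹).2
    have hcomm : (y : G) * ((c : G) * (x : G) * (c : G)⁻¹)
        = ((c : G) * (x : G) * (c : G)⁻¹) * (y : G) :=
      Subgroup.mem_centralizer_iff.mp hcx y y.2
    have h1 : h' = (c : G) * (x : G) * (c : G)⁻¹ := by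
      rw [← hg]
      calc (y : G) * (c : G) * (x : G) * ((y : G) * (c : G))⁻¹
          = (y : G) * ((c : G) * (x : G) * (c : G)⁻¹) * (y : G)⁻¹ := by group
        _ = ((c : G) * (x : G) * (c : G)⁻¹) * (y : G) * (y : G)⁻¹ := by rw [hcomm]
        _ = (c : G) * (x : G) * (c : G)⁻¹ := by group
    refine ⟨c * x * c⁻¹, ?_, ?_⟩
    · rw [Finset.mem_filter]
      exact ⟨Finset.mem_univ _, isConj_iff.mpr ⟨c, rfl⟩⟩
    · rw [h1]
      rfl

/-- The central character of `χ` on `C_G(P)` is the central character of its component. -/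
theorem centralChar_of_decomp [Finite G] (P : Subgroup G)
    (hG : P ⊔ Subgroup.centralizer (P : Set G) = ⊤) (χ : IrrCharacter G) (ζ : IrrCharacter P)
    (ψ : IrrCharacter (Subgroup.centralizer (P : Set G)))
    (h : ∀ (y : P) (x : Subgroup.centralizer (P : Set G)),
      (χ : G → ℂ) ((y : G) * (x : G)) = (ζ : P → ℂ) y * ψ.1 x)
    (x : Subgroup.centralizer (P : Set G)) :
    centralChar (χ : G → ℂ) (x : G) = centralChar ψ.1 x := by
  have hζ1 : (ζ : P → ℂ) 1 ≠ 0 := Cfsg.Agent.H4.irr_one_ne_zero ζ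
  have hψ1 : ψ.1 1 ≠ 0 := Cfsg.Agent.H4.irr_one_ne_zero ψ
  have e1 : (χ : G → ℂ) (x : G) = (ζ : P → ℂ) 1 * ψ.1 x := by
    have := h 1 x
    rwa [Subgroup.coe_one, one_mul] at this
  have e2 : (χ : G → ℂ) 1 = (ζ : P → ℂ) 1 * ψ.1 1 := by
    have := h 1 1
    rwa [Subgroup.coe_one, Subgroup.coe_one, one_mul] at this
  unfold centralChar
  rw [index_centralizer_eq P hG x, e1, e2]
  field_simp

/-- Characters of `G = P C_G(P)` in the same block have components in the same block of
`C_G(P)`. -/
theorem sameBlock_of_decomp [Finite G] {M : Ideal AlgInt} (P : Subgroup G)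
    (hG : P ⊔ Subgroup.centralizer (P : Set G) = ⊤) (χ χ' : IrrCharacter G)
    (ζ ζ' : IrrCharacter P) (ψ ψ' : IrrCharacter (Subgroup.centralizer (P : Set G)))
    (h : ∀ (y : P) (x : Subgroup.centralizer (P : Set G)),
      (χ : G → ℂ) ((y : G) * (x : G)) = (ζ : P → ℂ) y * ψ.1 x)
    (h' : ∀ (y : P) (x : Subgroup.centralizer (P : Set G)),
      (χ' : G → ℂ) ((y : G) * (x : G)) = (ζ' : P → ℂ) y * ψ'.1 x)
    (hsame : SameBlock M (χ : G → ℂ) (χ' : G → ℂ)) :
    SameBlock M ψ.1 ψ'.1 := by
  intro x
  rw [← centralChar_of_decomp P hG χ ζ ψ h x, ← centralChar_of_decomp P hG χ' ζ' ψ' h' x]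
  exact hsame (x : G)

end

end Cfsg.Agent.H79
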