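import Mathlib
import Cfsg.Prelude.Def_Blocks
import Cfsg.Agent.H79.Fong
import Cfsg.Agent.H79.BrauerCorr
import Cfsg.Agent.H20.FirstMain
import Cfsg.Agent.Lib.ItoConv

/-!
# Towards the extended first main theorem (helper79)

* `sameBlock_comp_equiv`: group isomorphisms preserve the block relation.
* `exists_coeff_centralChar_of_induced`, `blockDefect_le_of_induced`: if `b^G = B` then
  `d(b) ≤ d(B)`.
* `normal_le_defectGroup`: a normal `p`-subgroup lies in every defect group.
* `isDefectGroup_subgroupOf_of_induced`: if `Q ⊴ H` is a defect group of `b^G`, it is a defect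
  group of `b`.
* `inducedCentralChar_sub_sum_mem_of_over`: transitivity of induced central characters through a
  normal subgroup containing the centralizer of a normal `p`-subgroup.
* `mem_orbitSet_of_sameBlock_over`: characters in one block lie over conjugate blocks.
-/

set_option autoImplicit false
set_option linter.unusedSectionVars false
set_option linter.style.haveILetI false

namespace Cfsg.Agent.H79

open Cfsg Cfsg.Agent.H20 Cfsg.Agent.H4 Cfsg.Agent.Clifford
open scoped ComplexConjugate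

section Transport

variable {A B : Type*} [Group A] [Group B] {M : Ideal AlgInt}

/-- The index of the centralizer is invariant under isomorphisms. -/
theorem index_centralizer_equiv (e : A ≃* B) (a : A) :
    (Subgroup.centralizer ({e a} : Set B)).index = (Subgroup.centralizer ({a} : Set A)).index := by
  have : Subgroup.centralizer ({e a} : Set B)
      = (Subgroup.centralizer ({a} : Set A)).map (e : A →* B) := by
    ext x
    rw [Subgroup.mem_map, Subgroup.mem_centralizer_singleton_iff]
    constructor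
    · intro hx
      refine ⟨e.symm x, ?_, by simp⟩
      rw [Subgroup.mem_centralizer_singleton_iff]
      apply e.injective
      rw [map_mul, map_mul]
      simpa using hx
    · rintro ⟨y, hy, rfl⟩
      rw [Subgroup.mem_centralizer_singleton_iff] at hy
      have := congrArg e hy
      rw [map_mul, map_mul] at this
      exact this
  rw [this, Subgroup.index_map_equiv]

theorem centralChar_comp_equiv (e : A ≃* B) (μ : B → ℂ) (a : A) :
    centralChar (fun a => μ (e a)) a = centralChar μ (e a) := by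
  simp only [centralChar]
  rw [index_centralizer_equiv e a, map_one]

/-- Isomorphisms preserve the block relation. -/
theorem sameBlock_comp_equiv (e : A ≃* B) (μ ν : B → ℂ) :
    SameBlock M (fun a => μ (e a)) (fun a => ν (e a)) ↔ SameBlock M μ ν := by
  constructor
  · intro hB h
    have := hB (e.symm h)
    rw [centralChar_comp_equiv, centralChar_comp_equiv, MulEquiv.apply_symm_apply] at this
    exact this
  · intro hB h
    rw [centralChar_comp_equiv, centralChar_comp_equiv]
    exact hB (e h)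

end Transport

section Induced

variable {G : Type*} [Group G] [Fintype G] {M : Ideal AlgInt} {p : ℕ}

open scoped Classical in
/-- The induced central character as a sum over the subgroup. -/
theorem inducedCentralChar_eq_sum_ite (H : Subgroup G) [Fintype H] (ξ : H → ℂ) (g : G) :
    inducedCentralChar H ξ g = ∑ h : H, if IsConj g (h : G) then ξ h / ξ 1 else 0 := by
  classical
  have hfin : (Set.toFinite {h : H | IsConj g (h : G)}).toFinset
      = Finset.univ.filter (fun h : H => IsConj g (h : G)) := by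
    ext h; simp
  unfold inducedCentralChar
  rw [finsum_mem_eq_finite_toFinset_sum _ (Set.toFinite _), hfin, Finset.sum_filter]

/-- If the induced central character of `ξ ∈ Irr(H)` is congruent to the central character of
`χ₀`, then `blockOf ξ` induces `blockOf χ₀`. -/
theorem isInducedBlock_of_congr (hM : M.IsPrime) (H : Subgroup G) [Fintype H]
    (ξ : IrrCharacter H) (χ₀ : IrrCharacter G)
    (hind : ∀ g : G, MemLocalIdeal M (inducedCentralChar H ξ.1 g - centralChar χ₀.1 g)) :
    IsInducedBlock M H (blockOf M ξ.1) (blockOf M χ₀.1) := by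
  refine ⟨⟨ξ, rfl⟩, ⟨χ₀, rfl⟩, fun ξ' hξ' χ hχ g => ?_⟩
  have h1 := inducedCentralChar_sub_mem_of_sameBlock_gen hM H ξ'.1 ξ.1
    (irr_isClassFunction ξ') (irr_isClassFunction ξ) (Cfsg.Agent.H80.sameBlock_symm hξ') g
  have h2 : MemLocalIdeal M (centralChar χ₀.1 g - centralChar χ.1 g) := hχ g
  have h3 := memLocalIdeal_add hM (memLocalIdeal_add hM h1 (hind g)) h2
  convert h3 using 1
  ring

/-- If `b^G = B` then some element `h` of the subgroup has `a_B(h) ∉ J` and `ω_b(h) ∉ J`. -/
theorem exists_coeff_centralChar_of_induced (hM : M.IsPrime) (H : Subgroup G) [Fintype H]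
    (ξ : IrrCharacter H) (χ₀ : IrrCharacter G)
    (hind : ∀ g : G, MemLocalIdeal M (inducedCentralChar H ξ.1 g - centralChar χ₀.1 g)) :
    ∃ h : H, ¬ MemLocalIdeal M (blockCoeff (blockOf M χ₀.1) (h : G))
      ∧ ¬ MemLocalIdeal M (centralChar ξ.1 h) := by
  classical
  by_contra hcon
  push Not at hcon
  have hξ1 : ξ.1 1 ≠ 0 := Cfsg.Agent.H4.irr_one_ne_zero ξ
  have hχ1 : χ₀.1 1 ≠ 0 := Cfsg.Agent.H4.irr_one_ne_zero χ₀
  obtain ⟨c, hcdef⟩ : ∃ c : G → ℂ, c = blockCoeff (blockOf M χ₀.1) := ⟨_, rfl⟩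
  have hc : ∀ g x : G, c (x * g * x⁻¹) = c g := by
    intro g x; rw [hcdef]; exact blockCoeff_conj_invariant _ g x
  have hcR : ∀ g, MemLocalRing M (c g) := by
    intro g; rw [hcdef]; exact blockCoeff_memLocalRing hM χ₀ g
  have hsame : SameBlock M χ₀.1 (indFun H ξ.1) := by
    intro g
    have h1 := hind g
    rw [Cfsg.Agent.S0932.inducedCentralChar_eq] at h1
    have h2 := memLocalIdeal_neg h1
    convert h2 using 1
    ring
  have key := sum_mul_div_sub_memLocalIdeal hM χ₀.1 (indFun H ξ.1) (irr_isClassFunction χ₀)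
    (indFun_isClassFunction H ξ.1) hsame c hc hcR
  rw [sum_mul_indFun_div H c hc ξ.1 hξ1] at key
  have h1 : ∑ g : G, c g * χ₀.1 g = χ₀.1 1 := by
    rw [hcdef, sum_blockCoeff_mul_irr, if_pos (Cfsg.Agent.H80.mem_blockOf_self hM χ₀)]
  rw [h1, div_self hχ1] at key
  have h2 : MemLocalIdeal M ((∑ h : H, c h * ξ.1 h) / ξ.1 1) := by
    rw [Finset.sum_div]
    apply sum_mem_of_conj_closed (localIdeal M hM) (fun h : H => c h * ξ.1 h / ξ.1 1)
    · intro h x
      show c ((x * h * x⁻¹ : H) : G) * ξ.1 (x * h * x⁻¹) / ξ.1 1 = _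
      rw [irr_isClassFunction ξ h x]
      have : ((x * h * x⁻¹ : H) : G) = (x : G) * (h : G) * (x : G)⁻¹ := by push_cast; rfl
      rw [this, hc]
    · intro h
      rw [mem_localIdeal]
      have e : ((Subgroup.centralizer ({h} : Set H)).index : ℂ) * (c h * ξ.1 h / ξ.1 1)
          = c h * centralChar ξ.1 h := by
        unfold centralChar; ring
      rw [e]
      by_cases hin : MemLocalIdeal M (c h)
      · exact memLocalIdeal_mul_right hM hin (centralChar_memLocalRing hM ξ h)
      · rw [hcdef] at hin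
        exact memLocalIdeal_mul_left hM (hcR h) (hcon h hin)
    · intro h _ x; exact Finset.mem_univ _
  have h3 := memLocalIdeal_add hM key h2
  rw [sub_add_cancel] at h3
  exact not_memLocalIdeal_one hM h3

/-- **Defects under block induction**: if `b^G = B` then `d(b) ≤ d(B)`. -/
theorem blockDefect_le_of_induced [Fact p.Prime] (hM : IsPModular p M) (H : Subgroup G)
    [Fintype H] (ξ : IrrCharacter H) (χ₀ : IrrCharacter G)
    (hind : ∀ g : G, MemLocalIdeal M (inducedCentralChar H ξ.1 g - centralChar χ₀.1 g)) :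
    blockDefect p (blockOf M ξ.1) ≤ blockDefect p (blockOf M χ₀.1) := by
  classical
  have hMp := isPrime_of_isPModular hM
  obtain ⟨h, h1, h2⟩ := exists_coeff_centralChar_of_induced hMp H ξ χ₀ hind
  have e1 := Cfsg.Agent.H81.defect_ge_of_centralChar hM (blockOf M ξ.1) ⟨ξ, rfl⟩ h ξ
    (Cfsg.Agent.H80.mem_blockOf_self hMp ξ) h2
  have e2 := Cfsg.Agent.H81.defect_le_of_blockCoeff hM (blockOf M χ₀.1) ⟨χ₀, rfl⟩ (h : G)
    (blockCoeff_memLocalRing hMp χ₀ (h : G)) h1
  refine le_trans e1 (le_trans ?_ e2)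
  have hle : (Subgroup.centralizer ({h} : Set H)).map H.subtype
      ≤ Subgroup.centralizer ({(h : G)} : Set G) := by
    rintro _ ⟨y, hy, rfl⟩
    rw [SetLike.mem_coe, Subgroup.mem_centralizer_singleton_iff] at hy
    rw [Subgroup.mem_centralizer_singleton_iff]
    have := congrArg Subtype.val hy
    simpa using this
  have hdvd : Nat.card (Subgroup.centralizer ({h} : Set H))
      ∣ Nat.card (Subgroup.centralizer ({(h : G)} : Set G)) := by
    rw [← Subgroup.card_map_of_injective (f := H.subtype) H.subtype_injective]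
    exact Subgroup.card_dvd_of_le hle
  exact (Nat.factorization_le_iff_dvd Nat.card_pos.ne' Nat.card_pos.ne').mpr hdvd p

/-- A normal `p`-subgroup lies in every defect group. -/
theorem normal_le_defectGroup [Fact p.Prime] (hM : IsPModular p M) (Q : Subgroup G) [Q.Normal]
    (hQ : IsPGroup p Q) (χ₀ : IrrCharacter G) (D : Subgroup G)
    (hD : IsDefectGroup p M (blockOf M χ₀.1) D) : Q ≤ D := by
  have hMp := isPrime_of_isPModular hM
  obtain ⟨g, hg, S, rfl⟩ := hD
  have hgQ : g ∈ Subgroup.centralizer (Q : Set G) := by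
    by_contra hnot
    exact hg.2.2 χ₀ (Cfsg.Agent.H80.mem_blockOf_self hMp χ₀)
      (Cfsg.Agent.H84.centralChar_memLocalIdeal_of_not_mem_centralizer hM Q hQ g hnot χ₀)
  have hQg : Q ≤ Subgroup.centralizer ({g} : Set G) := by
    intro q hq
    rw [Subgroup.mem_centralizer_singleton_iff]
    exact (Subgroup.mem_centralizer_iff.mp hgQ q hq)
  have hQ'p : IsPGroup p (Q.subgroupOf (Subgroup.centralizer ({g} : Set G))) :=
    hQ.comap_of_injective _ (Subgroup.subtype_injective _)
  have hle : Q.subgroupOf (Subgroup.centralizer ({g} : Set G))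
      ≤ (S : Subgroup (Subgroup.centralizer ({g} : Set G))) :=
    IsPGroup.le_sylow_of_normal hQ'p S
  rw [← Subgroup.map_subgroupOf_eq_of_le hQg]
  exact Subgroup.map_mono hle

/-- If `b^G = B`, the `p`-subgroup `Q` is normalized by `H ≥ Q` and `Q` is a defect group of `B`,
then `Q` is a defect group of `b`. -/
theorem isDefectGroup_subgroupOf_of_induced [Fact p.Prime] (hM : IsPModular p M)
    (H : Subgroup G) [Fintype H] (Q : Subgroup G) (hQ : IsPGroup p Q) (hQH : Q ≤ H)
    (hHN : H ≤ Subgroup.normalizer (Q : Set G)) (ξ : IrrCharacter H) (χ₀ : IrrCharacter G)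
    (hind : ∀ g : G, MemLocalIdeal M (inducedCentralChar H ξ.1 g - centralChar χ₀.1 g))
    (hdef : IsDefectGroup p M (blockOf M χ₀.1) Q) :
    IsDefectGroup p M (blockOf M ξ.1) (Q.subgroupOf H) := by
  classical
  have hMp := isPrime_of_isPModular hM
  have hp : p.Prime := hM.1
  haveI hQn : (Q.subgroupOf H).Normal := (Subgroup.normal_subgroupOf_iff_le_normalizer hQH).mpr hHN
  have hQ'p : IsPGroup p (Q.subgroupOf H) := hQ.comap_of_injective _ H.subtype_injective
  obtain ⟨g_b, hg_b⟩ := Cfsg.Agent.S0906.result p M hM (blockOf M ξ.1) ⟨ξ, rfl⟩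
  obtain ⟨S_b⟩ : Nonempty (Sylow p (Subgroup.centralizer ({g_b} : Set H))) := inferInstance
  have hD_b : IsDefectGroup p M (blockOf M ξ.1)
      ((S_b : Subgroup (Subgroup.centralizer ({g_b} : Set H))).map
        (Subgroup.centralizer ({g_b} : Set H)).subtype) := ⟨g_b, hg_b, S_b, rfl⟩
  have hle := normal_le_defectGroup hM (Q.subgroupOf H) hQ'p ξ _ hD_b
  have c1 := card_defectGroup hM ξ _ hD_b
  have c2 := card_defectGroup hM χ₀ Q hdef
  have c3 : Nat.card (Q.subgroupOf H) = Nat.card Q :=
    Nat.card_congr (Subgroup.subgroupOfEquivOfLe hQH).toEquiv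
  have c4 := blockDefect_le_of_induced hM H ξ χ₀ hind
  have heq := Subgroup.eq_of_le_of_card_ge hle (by
    rw [c1, c3, c2]
    exact Nat.pow_le_pow_right hp.pos c4)
  rw [heq]
  exact hD_b

end Induced

section Over

variable {G : Type*} [Group G] [Fintype G] {M : Ideal AlgInt} {p : ℕ}

/-- **Characters in one block lie over conjugate blocks.** -/
theorem mem_orbitSet_of_sameBlock_over (hM : M.IsPrime) (N : Subgroup G) [hN : N.Normal]
    [Fintype N] (χ χ' : IrrCharacter G) (hsame : SameBlock M χ.1 χ'.1) (θ ψ : IrrCharacter N)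
    (hθ : classInner (fun n : N => χ.1 n) θ.1 ≠ 0)
    (hψ : classInner (fun n : N => χ'.1 n) ψ.1 ≠ 0) : ψ ∈ orbitSet N (blockOf M θ.1) := by
  have h0 := (Cfsg.Agent.S0963.result N χ θ).mp hθ
  have hcong : ∀ n : N, MemLocalIdeal M
      (centralChar χ'.1 (n : G) - inducedCentralChar N θ.1 (n : G)) := by
    intro n
    rw [← h0 n]
    exact (Cfsg.Agent.H80.sameBlock_symm hsame) (n : G)
  obtain ⟨μ, hμA, hμ⟩ := exists_over_of_congr N hM (orbitSet N (blockOf M θ.1))
    (orbitSet_stable N _) (orbitSet_closed N hM θ) χ' θ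
    (subset_orbitSet N _ (Cfsg.Agent.H80.mem_blockOf_self hM θ)) hcong
  obtain ⟨g, hg⟩ := clifford_conj N χ'.2 μ.2 ψ.2 hμ hψ
  have hψeq : ψ = conjIrr N g μ := Subtype.ext hg
  rw [hψeq]
  exact (orbitSet_stable N _ g μ).mpr hμA

end Over

section Transitivity

variable {G : Type*} [Group G] [Fintype G] {M : Ideal AlgInt} {p : ℕ}

open scoped Classical in
/-- **Transitivity of induced central characters.**  Let `H ≤ G`, let `K'` be a normal subgroup
of `H` containing the centralizer in `H` of a normal `p`-subgroup `Q'` of `H`, and let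
`ψ ∈ Irr(H)` lie over `θ' ∈ Irr(K')`.  Then the induced central character of `ψ` is congruent to
the sum of `θ'(k)/θ'(1)` over the `k ∈ K'` conjugate in `G` to `g`. -/
theorem inducedCentralChar_sub_sum_mem_of_over (hM : IsPModular p M) (H : Subgroup G)
    [Fintype H] (K' : Subgroup H) [hK : K'.Normal] [Fintype K'] (Q' : Subgroup H) [Q'.Normal]
    (hQ' : IsPGroup p Q') (hC : Subgroup.centralizer (Q' : Set H) ≤ K') (ψ : IrrCharacter H)
    (θ' : IrrCharacter K') (hover : classInner (fun k : K' => ψ.1 k) θ'.1 ≠ 0) (g : G) :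
    MemLocalIdeal M (inducedCentralChar H ψ.1 g
      - ∑ k : K', if IsConj g ((k : H) : G) then θ'.1 k / θ'.1 1 else 0) := by
  have hMp := isPrime_of_isPModular hM
  have hψ1 : ψ.1 1 ≠ 0 := Cfsg.Agent.H4.irr_one_ne_zero ψ
  have hθ1 : θ'.1 1 ≠ 0 := Cfsg.Agent.H4.irr_one_ne_zero θ'
  obtain ⟨c, hcdef⟩ : ∃ c : H → ℂ,
      c = fun n : H => if IsConj g (n : G) ∧ n ∈ K' then 1 else 0 := ⟨_, rfl⟩
  have hconj : ∀ n x : H, IsConj g ((x * n * x⁻¹ : H) : G) ↔ IsConj g (n : G) := by
    intro n x
    have h1 : IsConj (n : G) ((x * n * x⁻¹ : H) : G) := by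
      rw [isConj_iff]
      exact ⟨(x : G), by push_cast; rfl⟩
    exact ⟨fun h => h.trans h1.symm, fun h => h.trans h1⟩
  have hKconj : ∀ n x : H, x * n * x⁻¹ ∈ K' ↔ n ∈ K' := by
    intro n x
    constructor
    · intro h
      have := hK.conj_mem _ h x⁻¹
      simpa [mul_assoc] using this
    · intro h
      exact hK.conj_mem n h x
  have hc : ∀ n x : H, c (x * n * x⁻¹) = c n := by
    intro n x
    rw [hcdef]
    simp only [hconj, hKconj]
  have hc0 : ∀ n : H, n ∉ K' → c n = 0 := by
    intro n hn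
    rw [hcdef]
    simp only
    rw [if_neg (fun h => hn h.2)]
  have e1 := sum_mul_div_eq_of_over K' ψ θ' hover c hc hc0
  obtain ⟨f, hfdef⟩ : ∃ f : H → ℂ, f = fun n : H => if n ∈ K' then 0 else ψ.1 n / ψ.1 1 :=
    ⟨_, rfl⟩
  have hfJ : ∑ n ∈ Finset.univ.filter (fun n : H => IsConj g (n : G)), f n
      ∈ localIdeal M hMp := by
    apply sum_mem_of_conj_closed (localIdeal M hMp) f
    · intro n x
      rw [hfdef]
      simp only [hKconj]
      rw [irr_isClassFunction ψ n x]
    · intro n
      rw [mem_localIdeal, hfdef]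
      simp only
      split_ifs with hn
      · rw [mul_zero]; exact memLocalIdeal_zero hMp
      · have hnC : n ∉ Subgroup.centralizer (Q' : Set H) := fun h => hn (hC h)
        have h3 := Cfsg.Agent.H84.centralChar_memLocalIdeal_of_not_mem_centralizer hM Q' hQ' n
          hnC ψ
        unfold centralChar at h3
        convert h3 using 1
        ring
    · intro n hn x
      rw [Finset.mem_filter] at hn ⊢
      exact ⟨Finset.mem_univ _, (hconj n x).mpr hn.2⟩
  have hdec : inducedCentralChar H ψ.1 g = (∑ k : K', c k * ψ.1 k) / ψ.1 1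
      + ∑ n ∈ Finset.univ.filter (fun n : H => IsConj g (n : G)), f n := by
    rw [inducedCentralChar_eq_sum_ite, Finset.sum_filter, Finset.sum_div]
    have h2 : ∑ k : K', c k * ψ.1 k / ψ.1 1
        = ∑ n : H, (if n ∈ K' then c n * ψ.1 n / ψ.1 1 else 0) := by
      have h3 : ∀ n : H, (if n ∈ K' then c n * ψ.1 n / ψ.1 1 else 0)
          = extendByZero K' (fun k : K' => c k) n * (ψ.1 n / ψ.1 1) := by
        intro n
        by_cases hn : n ∈ K'
        · rw [if_pos hn, extendByZero_of_mem K' _ hn]; ring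
        · rw [if_neg hn, extendByZero_of_not_mem K' _ hn, zero_mul]
      rw [Finset.sum_congr rfl (fun n _ => h3 n), sum_extendByZero_mul]
      apply Finset.sum_congr rfl
      intro k _
      ring
    rw [h2, ← Finset.sum_add_distrib]
    apply Finset.sum_congr rfl
    intro n _
    rw [hcdef, hfdef]
    simp only
    by_cases hg : IsConj g (n : G)
    · by_cases hn : n ∈ K'
      · simp only [hg, hn, and_self, if_true]
        ring
      · simp only [hg, hn, and_false, if_true, if_false]
        ring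
    · by_cases hn : n ∈ K'
      · simp only [hg, hn, false_and, if_true, if_false]
        ring
      · simp only [hg, hn, if_false]
        ring
  rw [hdec, e1]
  have e2 : (∑ k : K', c k * θ'.1 k) / θ'.1 1
      = ∑ k : K', if IsConj g ((k : H) : G) then θ'.1 k / θ'.1 1 else 0 := by
    rw [Finset.sum_div]
    apply Finset.sum_congr rfl
    intro k _
    rw [hcdef]
    simp only
    by_cases hg : IsConj g ((k : H) : G)
    · rw [if_pos ⟨hg, k.2⟩, if_pos hg, one_mul]
    · rw [if_neg (fun h => hg h.1), if_neg hg, zero_mul, zero_div]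
  rw [e2, add_sub_cancel_left]
  exact hfJ

/-- An irreducible character of `K ≤ H`, read on the subgroup `K.subgroupOf H` of `H`. -/
noncomputable def liftIrr (H K : Subgroup G) (hKH : K ≤ H) (θ : IrrCharacter K) :
    IrrCharacter (K.subgroupOf H) :=
  ⟨fun k => θ.1 (Subgroup.subgroupOfEquivOfLe hKH k),
    isIrrCharacter_comp_equiv (Subgroup.subgroupOfEquivOfLe hKH) θ.2⟩

omit [Fintype G] in
theorem sameBlock_liftIrr (H K : Subgroup G) (hKH : K ≤ H) (θ θ' : IrrCharacter K) :
    SameBlock M (liftIrr H K hKH θ).1 (liftIrr H K hKH θ').1 ↔ SameBlock M θ.1 θ'.1 :=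
  sameBlock_comp_equiv (Subgroup.subgroupOfEquivOfLe hKH) θ.1 θ'.1

/-- Transitivity for a character of `H` lying over (the lift of) a character of `K ≤ H`. -/
theorem inducedCentralChar_sub_mem_of_over_liftIrr (hM : IsPModular p M) (H K : Subgroup G)
    (hKH : K ≤ H) [Fintype H] [Fintype K] [Fintype (K.subgroupOf H)]
    [hKn : (K.subgroupOf H).Normal] (Q' : Subgroup H) [Q'.Normal] (hQ' : IsPGroup p Q')
    (hC : Subgroup.centralizer (Q' : Set H) ≤ K.subgroupOf H) (ψ : IrrCharacter H)
    (θ : IrrCharacter K)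
    (hover : classInner (fun k : K.subgroupOf H => ψ.1 k) (liftIrr H K hKH θ).1 ≠ 0) (g : G) :
    MemLocalIdeal M (inducedCentralChar H ψ.1 g - inducedCentralChar K θ.1 g) := by
  classical
  have h1 := inducedCentralChar_sub_sum_mem_of_over hM H (K.subgroupOf H) Q' hQ' hC ψ
    (liftIrr H K hKH θ) hover g
  have h2 : (∑ k : K.subgroupOf H, if IsConj g ((k : H) : G)
      then (liftIrr H K hKH θ).1 k / (liftIrr H K hKH θ).1 1 else 0)
      = inducedCentralChar K θ.1 g := by
    rw [inducedCentralChar_eq_sum_ite]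
    apply Fintype.sum_equiv (Subgroup.subgroupOfEquivOfLe hKH).toEquiv
    intro k
    have e1 : (liftIrr H K hKH θ).1 1 = θ.1 1 := by
      show θ.1 (Subgroup.subgroupOfEquivOfLe hKH 1) = θ.1 1
      rw [map_one]
    rw [e1]
    rfl
  rw [h2] at h1
  exact h1

/-- **Conjugacy through a normal subgroup.**  Let `K ≤ H ≤ G` with `K` normal in `H`.  If
`ψ, ψ' ∈ Irr(H)` lie in the same block, over (the lifts of) `θ₀, θ₀' ∈ Irr(K)`, then the block of
`θ₀'` is the conjugate of the block of `θ₀` by an element of `H`. -/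
theorem exists_conj_of_sameBlock_over (hM : M.IsPrime) (H K : Subgroup G) (hKH : K ≤ H)
    [Fintype H] [Fintype (K.subgroupOf H)] [hKn : (K.subgroupOf H).Normal]
    (θ₀ θ₀' : IrrCharacter K) (ψ ψ' : IrrCharacter H) (hsame : SameBlock M ψ.1 ψ'.1)
    (hover : classInner (fun k : K.subgroupOf H => ψ.1 k) (liftIrr H K hKH θ₀).1 ≠ 0)
    (hover' : classInner (fun k : K.subgroupOf H => ψ'.1 k) (liftIrr H K hKH θ₀').1 ≠ 0) :
    ∃ n ∈ H, ∀ θ ∈ blockOf M θ₀.1, ∃ θ' ∈ blockOf M θ₀'.1,
      ∀ x : K, ∀ hx : n * (x : G) * n⁻¹ ∈ K, θ'.1 x = θ.1 ⟨n * (x : G) * n⁻¹, hx⟩ := by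
  obtain ⟨y, hy⟩ := mem_orbitSet_of_sameBlock_over hM (K.subgroupOf H) ψ ψ' hsame _ _ hover
    hover'
  refine ⟨((y⁻¹ : H) : G), (y⁻¹).2, fun θ hθ => ?_⟩
  obtain ⟨μ, hμdef⟩ : ∃ μ : IrrCharacter (K.subgroupOf H),
      μ = conjIrr (K.subgroupOf H) y⁻¹ (liftIrr H K hKH θ) := ⟨_, rfl⟩
  have hμ : SameBlock M (liftIrr H K hKH θ₀').1 μ.1 := by
    have h1 : SameBlock M (liftIrr H K hKH θ₀).1 (liftIrr H K hKH θ).1 :=
      (sameBlock_liftIrr H K hKH θ₀ θ).mpr hθ
    have h2 := (sameBlock_conjIrr (M := M) (K.subgroupOf H) y⁻¹ _ _).mpr h1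
    have hy' : SameBlock M (liftIrr H K hKH θ₀).1
        (conjIrr (K.subgroupOf H) y (liftIrr H K hKH θ₀')).1 := hy
    have h3 := (sameBlock_conjIrr (M := M) (K.subgroupOf H) y⁻¹ _ _).mpr hy'
    rw [conjIrr_conjIrr, mul_inv_cancel, conjIrr_one] at h3
    rw [hμdef]
    exact Cfsg.Agent.H80.sameBlock_trans hM (Cfsg.Agent.H80.sameBlock_symm h3) h2
  refine ⟨⟨fun l => μ.1 ((Subgroup.subgroupOfEquivOfLe hKH).symm l),
    isIrrCharacter_comp_equiv (Subgroup.subgroupOfEquivOfLe hKH).symm μ.2⟩, ?_, ?_⟩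
  · show SameBlock M θ₀'.1 (fun l => μ.1 ((Subgroup.subgroupOfEquivOfLe hKH).symm l))
    have h4 := (sameBlock_comp_equiv (M := M) (Subgroup.subgroupOfEquivOfLe hKH).symm
      (liftIrr H K hKH θ₀').1 μ.1).mpr hμ
    have h5 : (fun l : K => (liftIrr H K hKH θ₀').1 ((Subgroup.subgroupOfEquivOfLe hKH).symm l))
        = θ₀'.1 := by
      funext l
      show θ₀'.1 (Subgroup.subgroupOfEquivOfLe hKH ((Subgroup.subgroupOfEquivOfLe hKH).symm l))
        = θ₀'.1 l
      rw [MulEquiv.apply_symm_apply]
    rw [h5] at h4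
    exact h4
  · intro x hx
    show μ.1 ((Subgroup.subgroupOfEquivOfLe hKH).symm x) = _
    rw [hμdef, conjIrr_apply]
    show θ.1 (Subgroup.subgroupOfEquivOfLe hKH _) = θ.1 ⟨_, hx⟩
    congr 1

end Transitivity

section Main

variable {G : Type*} [Group G] [Fintype G] {M : Ideal AlgInt} {p : ℕ} [Fact p.Prime]

/-- **Extended first main theorem.**  Let `P` be a defect group of the block `B` of `G` and `L` a
subgroup with `P C_G(P) ≤ L ≤ N_G(P)` which is normalized by `N_G(P)`.  Then `B` is induced from a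
block of `L` with defect group `P`, and any two blocks of `L` inducing `B` are conjugate under
`N_G(P)`. -/
theorem ext_first_main (hM : IsPModular p M) (P L : Subgroup G) (hPL : P ≤ L)
    (hCL : Subgroup.centralizer (P : Set G) ≤ L) (hLN : L ≤ Subgroup.normalizer (P : Set G))
    (hLnorm : ∀ n ∈ Subgroup.normalizer (P : Set G), ∀ l ∈ L, n * l * n⁻¹ ∈ L)
    (χ₀ : IrrCharacter G) (hP : IsDefectGroup p M (blockOf M χ₀.1) P) :
    (∃ b : Set (IrrCharacter L), IsDefectGroup p M b (P.subgroupOf L)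
        ∧ IsInducedBlock M L b (blockOf M χ₀.1)) ∧
    ∀ b b' : Set (IrrCharacter L), IsInducedBlock M L b (blockOf M χ₀.1) →
      IsInducedBlock M L b' (blockOf M χ₀.1) →
      ∃ n ∈ Subgroup.normalizer (P : Set G), ∀ θ ∈ b, ∃ θ' ∈ b',
        ∀ x : L, ∀ hx : n * (x : G) * n⁻¹ ∈ L,
          (θ' : L → ℂ) x = (θ : L → ℂ) ⟨n * (x : G) * n⁻¹, hx⟩ := by
  classical
  have hMp := isPrime_of_isPModular hM
  have hP' := hP
  obtain ⟨g, hg, S, hPdef⟩ := hP
  have hPp : IsPGroup p P := by
    rw [hPdef]; exact S.isPGroup'.map _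
  constructor
  · have hgP : g ∈ Subgroup.centralizer (P : Set G) := by
      rw [Subgroup.mem_centralizer_iff]
      intro u hu
      have h1 : u ∈ Subgroup.centralizer ({g} : Set G) := by
        rw [SetLike.mem_coe, hPdef] at hu
        exact Subgroup.map_subtype_le _ hu
      rw [Subgroup.mem_centralizer_singleton_iff] at h1
      exact h1
    obtain ⟨ξ, hind, -⟩ := exists_isInducedBlock_of_coeff hM P L hPp hPL hCL hLN χ₀ g hgP
      hg.2.1
    exact ⟨blockOf M ξ.1, isDefectGroup_subgroupOf_of_induced hM L P hPp hPL hLN ξ χ₀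
      (fun g => hind.2.2 ξ (Cfsg.Agent.H80.mem_blockOf_self hMp ξ) χ₀
        (Cfsg.Agent.H80.mem_blockOf_self hMp χ₀) g) hP', hind⟩
  · rintro b b' ⟨⟨θ₀, rfl⟩, -, hb3⟩ ⟨⟨θ₀', rfl⟩, -, hb3'⟩
    have hindθ : ∀ g, MemLocalIdeal M (inducedCentralChar L θ₀.1 g - centralChar χ₀.1 g) :=
      fun g => hb3 θ₀ (Cfsg.Agent.H80.mem_blockOf_self hMp θ₀) χ₀
        (Cfsg.Agent.H80.mem_blockOf_self hMp χ₀) g
    have hindθ' : ∀ g, MemLocalIdeal M (inducedCentralChar L θ₀'.1 g - centralChar χ₀.1 g) :=
      fun g => hb3' θ₀' (Cfsg.Agent.H80.mem_blockOf_self hMp θ₀') χ₀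
        (Cfsg.Agent.H80.mem_blockOf_self hMp χ₀) g
    haveI hLn : (L.subgroupOf (Subgroup.normalizer (P : Set G))).Normal := by
      constructor
      intro l hl n
      rw [Subgroup.mem_subgroupOf] at hl ⊢
      exact hLnorm (n : G) n.2 (l : G) hl
    have hPNp : IsPGroup p (P.subgroupOf (Subgroup.normalizer (P : Set G))) :=
      hPp.comap_of_injective _ (Subgroup.subtype_injective _)
    have hC : Subgroup.centralizer
        ((P.subgroupOf (Subgroup.normalizer (P : Set G)) :
          Subgroup (Subgroup.normalizer (P : Set G))) : Set (Subgroup.normalizer (P : Set G)))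
        ≤ L.subgroupOf (Subgroup.normalizer (P : Set G)) := by
      intro n hn
      rw [Subgroup.mem_subgroupOf]
      apply hCL
      rw [Subgroup.mem_centralizer_iff] at hn ⊢
      intro u hu
      have h1 := hn ⟨u, Subgroup.le_normalizer hu⟩
        (by rw [SetLike.mem_coe, Subgroup.mem_subgroupOf]; exact hu)
      exact congrArg Subtype.val h1
    obtain ⟨ψf, hψirr, hψover⟩ := Cfsg.Agent.ItoConv.exists_irr_over
      (L.subgroupOf (Subgroup.normalizer (P : Set G)))
      (liftIrr (Subgroup.normalizer (P : Set G)) L hLN θ₀).2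
    obtain ⟨ψ, hψdef⟩ : ∃ ψ : IrrCharacter (Subgroup.normalizer (P : Set G)),
        ψ = ⟨ψf, hψirr⟩ := ⟨_, rfl⟩
    have hover : classInner (fun k : L.subgroupOf (Subgroup.normalizer (P : Set G)) => ψ.1 k)
        (liftIrr (Subgroup.normalizer (P : Set G)) L hLN θ₀).1 ≠ 0 := by
      rw [hψdef]; exact hψover
    obtain ⟨ψf', hψirr', hψover'⟩ := Cfsg.Agent.ItoConv.exists_irr_over
      (L.subgroupOf (Subgroup.normalizer (P : Set G)))
      (liftIrr (Subgroup.normalizer (P : Set G)) L hLN θ₀').2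
    obtain ⟨ψ', hψdef'⟩ : ∃ ψ' : IrrCharacter (Subgroup.normalizer (P : Set G)),
        ψ' = ⟨ψf', hψirr'⟩ := ⟨_, rfl⟩
    have hover' : classInner (fun k : L.subgroupOf (Subgroup.normalizer (P : Set G)) => ψ'.1 k)
        (liftIrr (Subgroup.normalizer (P : Set G)) L hLN θ₀').1 ≠ 0 := by
      rw [hψdef']; exact hψover'
    have hT : ∀ g, MemLocalIdeal M
        (inducedCentralChar (Subgroup.normalizer (P : Set G)) ψ.1 g - centralChar χ₀.1 g) := by
      intro g
      have h1 := inducedCentralChar_sub_mem_of_over_liftIrr hM (Subgroup.normalizer (P : Set G))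
        L hLN (P.subgroupOf (Subgroup.normalizer (P : Set G))) hPNp hC ψ θ₀ hover g
      have h2 := memLocalIdeal_add hMp h1 (hindθ g)
      convert h2 using 1
      ring
    have hT' : ∀ g, MemLocalIdeal M
        (inducedCentralChar (Subgroup.normalizer (P : Set G)) ψ'.1 g - centralChar χ₀.1 g) := by
      intro g
      have h1 := inducedCentralChar_sub_mem_of_over_liftIrr hM (Subgroup.normalizer (P : Set G))
        L hLN (P.subgroupOf (Subgroup.normalizer (P : Set G))) hPNp hC ψ' θ₀' hover' g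
      have h2 := memLocalIdeal_add hMp h1 (hindθ' g)
      convert h2 using 1
      ring
    have hi1 := isInducedBlock_of_congr hMp (Subgroup.normalizer (P : Set G)) ψ χ₀ hT
    have hi2 := isInducedBlock_of_congr hMp (Subgroup.normalizer (P : Set G)) ψ' χ₀ hT'
    have hd1 := isDefectGroup_subgroupOf_of_induced hM (Subgroup.normalizer (P : Set G)) P hPp
      Subgroup.le_normalizer le_rfl ψ χ₀ hT hP'
    have heq := first_main_unique hM P hPp χ₀ ψ ψ' hd1 hi1 hi2
    have hsame : SameBlock M ψ.1 ψ'.1 := by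
      have h1 : ψ' ∈ blockOf M ψ.1 := by
        rw [← heq]; exact Cfsg.Agent.H80.mem_blockOf_self hMp ψ'
      exact h1
    exact exists_conj_of_sameBlock_over hMp (Subgroup.normalizer (P : Set G)) L hLN θ₀ θ₀' ψ ψ'
      hsame hover hover'

end Main

end Cfsg.Agent.H79
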