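import Cfsg.Agent.H64.JyDefs
import Cfsg.Agent.Helper55.ThJ

set_option autoImplicit false
open Cfsg

/-!
# JY-NS (piece of S2953): `N_G(S) ≤ M`
-/

namespace Cfsg.Agent.H79.Jy

universe u

theorem ns : Cfsg.Agent.H64.Jy.StNS.{u} := by
  intro G _ _ S M T K L hB
  exact (Cfsg.Agent.Helper55.ThJ.normalizer_le (S : Subgroup G)).trans hB.2.2.2.1

example : Cfsg.Agent.H64.Jy.StNS.{u} := ns.{u}

end Cfsg.Agent.H79.Jy

#print axioms Cfsg.Agent.H79.Jy.ns
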