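import Mathlib
import Cfsg.Prelude.Def_Blocks
import Cfsg.Prelude.Def_BlockRank
import Cfsg.Agent.H84.ThirdMain
import Cfsg.Agent.H81.Rank
import Cfsg.Agent.H82.Irr
import Cfsg.Agent.H79.CentralProduct
import Cfsg.Agent.H79.CentralProdBlock

/-!
# The rank of the principal block of `G = Q C_G(Q)` and of `G / Q` (helper79)

`Q` a normal `p`-subgroup of `G` with `G = Q C_G(Q)`.

* `mem_centralizer_of_regular`: the `p`-regular elements centralize `Q`.
* `eq_of_mk_eq_of_regular`, `exists_regular_lift`: the quotient map is a bijection between the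
  `p`-regular elements of `G` and of `G / Q`.
* `regSum_comp_mk`, `inflate_mem_principalBlock_iff`: inflation preserves the principal block.
* `blockRank_principal_quotient`: the principal blocks of `G` and `G / Q` have the same rank.
-/

set_option autoImplicit false
set_option linter.unusedSectionVars false

namespace Cfsg.Agent.H79

open Cfsg Cfsg.Agent.H4 Cfsg.Agent.H20
open scoped ComplexConjugate

section

variable {G : Type*} [Group G] [Fintype G] {p : ℕ} {M : Ideal AlgInt}

/-- In `G = Q C_G(Q)` with `Q` a `p`-group, the `p`-regular elements centralize `Q`. -/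
theorem mem_centralizer_of_regular [Fact p.Prime] (Q : Subgroup G) (hQ : IsPGroup p Q)
    (hsup : Q ⊔ Subgroup.centralizer (Q : Set G) = ⊤) (g : G) (hg : ¬ p ∣ orderOf g) :
    g ∈ Subgroup.centralizer (Q : Set G) := by
  have hp : p.Prime := Fact.out
  obtain ⟨y, x, hgyx⟩ := exists_mul_of_sup_eq_top Q hsup g
  have hcomm : Commute (y : G) (x : G) := Subgroup.mem_centralizer_iff.mp x.2 y y.2
  obtain ⟨a, ha⟩ := (IsPGroup.iff_card (p := p) (G := Q)).mp hQ
  have hy : (y : G) ^ (p ^ a) = 1 := by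
    have h1 : y ^ (p ^ a) = 1 := by rw [← ha]; exact pow_card_eq_one'
    have := congrArg Subtype.val h1
    simpa using this
  have hgpow : g ^ (p ^ a) ∈ Subgroup.centralizer (Q : Set G) := by
    rw [hgyx, hcomm.mul_pow, hy, one_mul]
    exact Subgroup.pow_mem _ x.2 _
  by_cases h1 : orderOf g = 1
  · rw [orderOf_eq_one_iff] at h1
    rw [h1]; exact Subgroup.one_mem _
  · have hlt : 1 < orderOf g := by
      have := orderOf_pos g
      omega
    have hcop : Nat.Coprime (p ^ a) (orderOf g) :=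
      Nat.Coprime.pow_left a ((Nat.Prime.coprime_iff_not_dvd hp).mpr hg)
    obtain ⟨c, -, hc⟩ := Nat.exists_mul_mod_eq_one_of_coprime hcop hlt
    have hgc : g = (g ^ (p ^ a)) ^ c := by
      rw [← pow_mul, ← pow_mod_orderOf, hc, pow_one]
    rw [hgc]
    exact Subgroup.pow_mem _ hgpow _

/-- In `G = Q C_G(Q)` the quotient map `G → G / Q` is injective on `p`-regular elements. -/
theorem eq_of_mk_eq_of_regular [Fact p.Prime] (Q : Subgroup G) [Q.Normal] (hQ : IsPGroup p Q)
    (hsup : Q ⊔ Subgroup.centralizer (Q : Set G) = ⊤) (g h : G) (hg : ¬ p ∣ orderOf g)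
    (hh : ¬ p ∣ orderOf h) (heq : (QuotientGroup.mk g : G ⧸ Q) = QuotientGroup.mk h) : g = h := by
  have hp : p.Prime := Fact.out
  have hyQ : g⁻¹ * h ∈ Q := QuotientGroup.eq.mp heq
  obtain ⟨y, hydef⟩ : ∃ y : G, y = g⁻¹ * h := ⟨_, rfl⟩
  rw [← hydef] at hyQ
  have hgC := mem_centralizer_of_regular Q hQ hsup g hg
  have hcomm : Commute g y := (Subgroup.mem_centralizer_iff.mp hgC y hyQ).symm
  have hhgy : h = g * y := by rw [hydef]; group
  obtain ⟨k, hk⟩ := hQ ⟨y, hyQ⟩
  have hyk : y ^ (p ^ k) = 1 := by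
    have := congrArg Subtype.val hk
    simpa using this
  obtain ⟨j, -, hj⟩ := (Nat.dvd_prime_pow hp).mp (orderOf_dvd_of_pow_eq_one hyk)
  have hcop : Nat.Coprime (orderOf g) (orderOf y) := by
    rw [hj]
    exact Nat.Coprime.pow_right j (Nat.Coprime.symm ((Nat.Prime.coprime_iff_not_dvd hp).mpr hg))
  have hord : orderOf h = orderOf g * orderOf y := by
    rw [hhgy]; exact hcomm.orderOf_mul_eq_mul_orderOf_of_coprime hcop
  have hj0 : j = 0 := by
    by_contra hj0
    apply hh
    rw [hord, hj]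
    exact Dvd.dvd.mul_left (dvd_pow_self p hj0) _
  rw [hj0, pow_zero, orderOf_eq_one_iff] at hj
  rw [hhgy, hj, mul_one]

/-- Every `p`-regular element of a quotient has a `p`-regular preimage. -/
theorem exists_regular_lift [Fact p.Prime] (Q : Subgroup G) [Q.Normal] (c : G ⧸ Q)
    (hc : ¬ p ∣ orderOf c) :
    ∃ g : G, ¬ p ∣ orderOf g ∧ (QuotientGroup.mk g : G ⧸ Q) = c := by
  have hp : p.Prime := Fact.out
  obtain ⟨g₀, rfl⟩ := QuotientGroup.mk_surjective c
  obtain ⟨a, hadef⟩ : ∃ a : ℕ, a = (Nat.card G).factorization p := ⟨_, rfl⟩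
  obtain ⟨m, hmdef⟩ : ∃ m : ℕ, m = Nat.card G / p ^ a := ⟨_, rfl⟩
  have hGm : p ^ a * m = Nat.card G := by
    rw [hmdef, hadef]
    exact Nat.ordProj_mul_ordCompl_eq_self (Nat.card G) p
  have hpm : ¬ p ∣ m := by
    rw [hmdef, hadef]
    exact Nat.not_dvd_ordCompl hp Nat.card_pos.ne'
  have hregpow : ∀ x : G, ∀ e : ℕ, ¬ p ∣ orderOf (x ^ (p ^ a * e)) := by
    intro x e hdvd
    have h1 : (x ^ (p ^ a * e)) ^ m = 1 := by
      rw [← pow_mul, mul_right_comm, hGm, pow_mul, pow_card_eq_one', one_pow]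
    exact hpm (hdvd.trans (orderOf_dvd_of_pow_eq_one h1))
  by_cases h1 : orderOf (QuotientGroup.mk g₀ : G ⧸ Q) = 1
  · refine ⟨1, ?_, ?_⟩
    · rw [orderOf_one]; exact hp.one_lt.ne' ∘ Nat.dvd_one.mp
    · rw [orderOf_eq_one_iff] at h1
      rw [h1]; rfl
  · have hlt : 1 < orderOf (QuotientGroup.mk g₀ : G ⧸ Q) := by
      have := orderOf_pos (QuotientGroup.mk g₀ : G ⧸ Q)
      omega
    have hcop : Nat.Coprime (p ^ a) (orderOf (QuotientGroup.mk g₀ : G ⧸ Q)) :=
      Nat.Coprime.pow_left a ((Nat.Prime.coprime_iff_not_dvd hp).mpr hc)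
    obtain ⟨e, -, he⟩ := Nat.exists_mul_mod_eq_one_of_coprime hcop hlt
    refine ⟨g₀ ^ (p ^ a * e), hregpow g₀ e, ?_⟩
    rw [QuotientGroup.mk_pow, ← pow_mod_orderOf, he, pow_one]

/-- The `p`-regular sum of an inflated function. -/
theorem regSum_comp_mk [Fact p.Prime] (Q : Subgroup G) [Q.Normal] (hQ : IsPGroup p Q)
    (hsup : Q ⊔ Subgroup.centralizer (Q : Set G) = ⊤) [Fintype (G ⧸ Q)] (f : G ⧸ Q → ℂ) :
    Cfsg.Agent.H84.regSum p (fun g : G => f (QuotientGroup.mk g))
      = Cfsg.Agent.H84.regSum p f := by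
  classical
  rw [regSum_eq_sum_filter, regSum_eq_sum_filter]
  apply Finset.sum_bij (fun (g : G) _ => (QuotientGroup.mk g : G ⧸ Q))
  · intro g hg
    rw [Finset.mem_filter] at hg ⊢
    refine ⟨Finset.mem_univ _, fun hdvd => hg.2 (hdvd.trans ?_)⟩
    exact orderOf_map_dvd (QuotientGroup.mk' Q) g
  · intro g hg h hh heq
    rw [Finset.mem_filter] at hg hh
    exact eq_of_mk_eq_of_regular Q hQ hsup g h hg.2 hh.2 heq
  · intro c hc
    rw [Finset.mem_filter] at hc
    obtain ⟨g, hg, hgc⟩ := exists_regular_lift Q c hc.2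
    exact ⟨g, Finset.mem_filter.mpr ⟨Finset.mem_univ _, hg⟩, hgc⟩
  · intro g _
    rfl

/-- Inflation from `G / Q` preserves (and reflects) membership in the principal block. -/
theorem inflate_mem_principalBlock_iff [Fact p.Prime] (hM : IsPModular p M) (Q : Subgroup G)
    [Q.Normal] (hQ : IsPGroup p Q) (hsup : Q ⊔ Subgroup.centralizer (Q : Set G) = ⊤)
    [Fintype (G ⧸ Q)] (ψ : IrrCharacter (G ⧸ Q)) :
    Cfsg.Agent.H82.inflate Q ψ ∈ principalBlock M G ↔ ψ ∈ principalBlock M (G ⧸ Q) := by
  have hMp := isPrime_of_isPModular hM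
  have hreg : Cfsg.Agent.H84.regSum p (Cfsg.Agent.H82.inflate Q ψ).1
      = Cfsg.Agent.H84.regSum p ψ.1 := regSum_comp_mk Q hQ hsup ψ.1
  constructor
  · intro h
    apply Cfsg.Agent.H84.mem_principalBlock_of_regSum hM ψ
    rw [← hreg]
    intro h0
    apply Cfsg.Agent.H84.regSum_principal_not_mem hM _ h
    rw [h0, zero_div]
    exact memLocalIdeal_zero hMp
  · intro h
    apply Cfsg.Agent.H84.mem_principalBlock_of_regSum hM (Cfsg.Agent.H82.inflate Q ψ)
    rw [hreg]
    intro h0
    apply Cfsg.Agent.H84.regSum_principal_not_mem hM _ h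
    rw [h0, zero_div]
    exact memLocalIdeal_zero hMp

/-- The `p`-regular part of a class function is a class function. -/
theorem isClassFunction_pRegularPart (f : G → ℂ) (hf : IsClassFunction G f) :
    IsClassFunction G (pRegularPart p f) := by
  classical
  intro g h
  have e1 : orderOf (h * g * h⁻¹) = orderOf g :=
    orderOf_injective (MulAut.conj h).toMonoidHom (MulAut.conj h).injective g
  rw [Cfsg.Agent.H81.pRegularPart_apply, Cfsg.Agent.H81.pRegularPart_apply, e1, hf]

/-- **The principal blocks of `G = Q C_G(Q)` and of `G / Q` have the same `p`-regular rank.** -/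
theorem blockRank_principal_quotient [Fact p.Prime] (hM : IsPModular p M) (Q : Subgroup G)
    [Q.Normal] (hQ : IsPGroup p Q) (hsup : Q ⊔ Subgroup.centralizer (Q : Set G) = ⊤) :
    blockRank p (principalBlock M G) = blockRank p (principalBlock M (G ⧸ Q)) := by
  classical
  have hMp := isPrime_of_isPModular hM
  have hfQ : Fintype (G ⧸ Q) := Fintype.ofFinite _
  let _ : Fintype (IrrCharacter (G ⧸ Q)) := fintypeIrr (G ⧸ Q)
  obtain ⟨π, hπdef⟩ : ∃ π : G → G ⧸ Q, π = fun g => (QuotientGroup.mk g : G ⧸ Q) := ⟨_, rfl⟩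
  have hπ : ∀ g : G, π g = (QuotientGroup.mk g : G ⧸ Q) := fun g => by rw [hπdef]
  obtain ⟨T, hTdef⟩ : ∃ T : (G ⧸ Q → ℂ) →ₗ[ℂ] (G → ℂ),
      T = (Cfsg.Agent.H81.pRegL G p).comp (LinearMap.funLeft ℂ ℂ π) := ⟨_, rfl⟩
  have hT : ∀ (u : G ⧸ Q → ℂ) (g : G), T u g = if p ∣ orderOf g then 0 else u (π g) := by
    intro u g
    rw [hTdef]
    show pRegularPart p (LinearMap.funLeft ℂ ℂ π u) g = _
    rw [Cfsg.Agent.H81.pRegularPart_apply]
    rfl
  have hπreg : ∀ g : G, ¬ p ∣ orderOf g → ¬ p ∣ orderOf (π g) := by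
    intro g hg hdvd
    apply hg
    rw [hπ] at hdvd
    exact hdvd.trans (orderOf_map_dvd (QuotientGroup.mk' Q) g)
  -- `T` does not see the `p`-singular part
  have hTreg : ∀ u : G ⧸ Q → ℂ, T (pRegularPart p u) = T u := by
    intro u
    funext g
    rw [hT, hT]
    by_cases hg : p ∣ orderOf g
    · rw [if_pos hg, if_pos hg]
    · rw [if_neg hg, if_neg hg, Cfsg.Agent.H81.pRegularPart_of_not_dvd p u (hπreg g hg)]
  have hTinfl : ∀ ψ : IrrCharacter (G ⧸ Q),
      T ψ.1 = pRegularPart p (Cfsg.Agent.H82.inflate Q ψ).1 := by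
    intro ψ
    funext g
    rw [hT, Cfsg.Agent.H81.pRegularPart_apply, Cfsg.Agent.H82.inflate_apply, hπ]
  obtain ⟨S', hS'def⟩ : ∃ S' : Set (G ⧸ Q → ℂ),
      S' = (fun ψ : IrrCharacter (G ⧸ Q) => pRegularPart p (ψ : G ⧸ Q → ℂ)) ''
        principalBlock M (G ⧸ Q) := ⟨_, rfl⟩
  obtain ⟨S, hSdef⟩ : ∃ S : Set (G → ℂ),
      S = (fun χ : IrrCharacter G => pRegularPart p (χ : G → ℂ)) '' principalBlock M G :=
    ⟨_, rfl⟩
  -- the two spans correspond under `T`
  have hspan : Submodule.span ℂ S = (Submodule.span ℂ S').map T := by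
    apply le_antisymm
    · apply Submodule.span_le.mpr
      intro x₀ hx₀
      rw [hSdef] at hx₀
      obtain ⟨χ, hχ, rfl⟩ := hx₀
      obtain ⟨f, hfdef⟩ : ∃ f : G → ℂ, f = pRegularPart p (χ : G → ℂ) := ⟨_, rfl⟩
      have hfcf : IsClassFunction G f := by
        rw [hfdef]; exact isClassFunction_pRegularPart _ (irr_isClassFunction χ)
      have hfsing : ∀ g : G, p ∣ orderOf g → f g = 0 := by
        intro g hg
        rw [hfdef]; exact Cfsg.Agent.H81.pRegularPart_of_dvd p _ hg
      obtain ⟨F', hF'def⟩ : ∃ F' : G ⧸ Q → ℂ,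
          F' = fun c => ∑ g : G, if π g = c then f g else 0 := ⟨_, rfl⟩
      have hF' : ∀ c, F' c = ∑ g : G, if π g = c then f g else 0 := fun c => by rw [hF'def]
      -- `F'` is a class function
      have hF'cf : IsClassFunction (G ⧸ Q) F' := by
        intro c d
        obtain ⟨t, rfl⟩ := QuotientGroup.mk_surjective d
        rw [hF', hF']
        rw [← Equiv.sum_comp (MulAut.conj t).toEquiv]
        apply Finset.sum_congr rfl
        intro h _
        have e1 : π ((MulAut.conj t).toEquiv h) = (QuotientGroup.mk t : G ⧸ Q) * π h *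
            (QuotientGroup.mk t : G ⧸ Q)⁻¹ := by
          rw [hπ, hπ]
          show (QuotientGroup.mk (t * h * t⁻¹) : G ⧸ Q) = _
          rfl
        have e2 : f ((MulAut.conj t).toEquiv h) = f h := by
          show f (t * h * t⁻¹) = f h
          exact hfcf h t
        rw [e1, e2]
        have e3 : ((QuotientGroup.mk t : G ⧸ Q) * π h * (QuotientGroup.mk t : G ⧸ Q)⁻¹ =
            (QuotientGroup.mk t : G ⧸ Q) * c * (QuotientGroup.mk t : G ⧸ Q)⁻¹) ↔ π h = c := by
          constructor
          · intro h1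
            exact mul_left_cancel (mul_right_cancel h1)
          · intro h1
            rw [h1]
        by_cases h1 : π h = c
        · rw [if_pos h1, if_pos (e3.mpr h1)]
        · rw [if_neg h1, if_neg (fun h2 => h1 (e3.mp h2))]
      -- inner products of `F'`
      have hinner : ∀ ψ : IrrCharacter (G ⧸ Q), ψ ∉ principalBlock M (G ⧸ Q) →
          classInner F' ψ.1 = 0 := by
        intro ψ hψ
        have hinf : Cfsg.Agent.H82.inflate Q ψ ∉ blockOf M (χ : G → ℂ) := by
          intro hmem
          apply hψ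
          apply (inflate_mem_principalBlock_iff hM Q hQ hsup ψ).mp
          have h1 : SameBlock M (fun _ : G => (1 : ℂ)) (χ : G → ℂ) := hχ
          exact Cfsg.Agent.H80.sameBlock_trans hMp h1 hmem
        have h0 := Cfsg.Agent.H81.wbo_two hM χ (Cfsg.Agent.H82.inflate Q ψ) hinf
        rw [← hfdef] at h0
        unfold classInner at h0 ⊢
        have hG : (Nat.card G : ℂ)⁻¹ ≠ 0 := by
          apply inv_ne_zero
          exact_mod_cast (Nat.card_pos (α := G)).ne'
        have h2 := (mul_eq_zero.mp h0).resolve_left hG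
        have h3 : ∑ c : G ⧸ Q, F' c * conj (ψ.1 c)
            = ∑ g : G, f g * conj ((Cfsg.Agent.H82.inflate Q ψ).1 g) := by
          simp only [hF', Finset.sum_mul]
          rw [Finset.sum_comm]
          apply Finset.sum_congr rfl
          intro g _
          rw [Finset.sum_eq_single (π g)]
          · rw [if_pos rfl, Cfsg.Agent.H82.inflate_apply, hπ]
          · intro c _ hc
            rw [if_neg (Ne.symm hc), zero_mul]
          · intro hn
            exact absurd (Finset.mem_univ _) hn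
        rw [h3, h2, mul_zero]
      -- the expansion of `F'`
      have hexp : F' = ∑ ψ : IrrCharacter (G ⧸ Q),
          (if ψ ∈ principalBlock M (G ⧸ Q) then classInner F' ψ.1 • (ψ : G ⧸ Q → ℂ) else 0) := by
        have h1 := classFunction_eq_finsum hF'cf
        rw [finsum_irr_eq_sum] at h1
        conv_lhs => rw [h1]
        apply Finset.sum_congr rfl
        intro ψ _
        by_cases hψ : ψ ∈ principalBlock M (G ⧸ Q)
        · rw [if_pos hψ]
        · rw [if_neg hψ, hinner ψ hψ, zero_smul]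
      -- `T F' = f`
      have hTF : T F' = f := by
        funext g
        rw [hT]
        by_cases hg : p ∣ orderOf g
        · rw [if_pos hg, hfsing g hg]
        · rw [if_neg hg, hF', Finset.sum_eq_single g]
          · rw [if_pos rfl]
          · intro h _ hne
            by_cases h1 : π h = π g
            · rw [if_pos h1]
              apply hfsing
              by_contra hh
              apply hne
              rw [hπ, hπ] at h1
              exact eq_of_mk_eq_of_regular Q hQ hsup h g hh hg h1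
            · rw [if_neg h1]
          · intro hn
            exact absurd (Finset.mem_univ _) hn
      -- conclude
      obtain ⟨F'', hF''def⟩ : ∃ F'' : G ⧸ Q → ℂ, F'' = ∑ ψ : IrrCharacter (G ⧸ Q),
          (if ψ ∈ principalBlock M (G ⧸ Q) then
            classInner F' ψ.1 • pRegularPart p (ψ : G ⧸ Q → ℂ) else 0) := ⟨_, rfl⟩
      have hF''mem : F'' ∈ Submodule.span ℂ S' := by
        rw [hF''def]
        apply Submodule.sum_mem
        intro ψ _
        by_cases hψ : ψ ∈ principalBlock M (G ⧸ Q)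
        · rw [if_pos hψ]
          apply Submodule.smul_mem
          apply Submodule.subset_span
          rw [hS'def]
          exact ⟨ψ, hψ, rfl⟩
        · rw [if_neg hψ]
          exact Submodule.zero_mem _
      have hTF'' : T F'' = f := by
        rw [← hTF, hF''def]
        conv_rhs => rw [hexp]
        rw [map_sum, map_sum]
        apply Finset.sum_congr rfl
        intro ψ _
        by_cases hψ : ψ ∈ principalBlock M (G ⧸ Q)
        · rw [if_pos hψ, if_pos hψ, map_smul, map_smul, hTreg]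
        · rw [if_neg hψ, if_neg hψ]
      refine ⟨F'', hF''mem, ?_⟩
      rw [hTF'', hfdef]
    · rw [Submodule.map_span]
      apply Submodule.span_le.mpr
      rintro _ ⟨u, hu, rfl⟩
      rw [hS'def] at hu
      obtain ⟨ψ, hψ, rfl⟩ := hu
      apply Submodule.subset_span
      rw [hSdef]
      refine ⟨Cfsg.Agent.H82.inflate Q ψ,
        (inflate_mem_principalBlock_iff hM Q hQ hsup ψ).mpr hψ, ?_⟩
      show pRegularPart p (Cfsg.Agent.H82.inflate Q ψ).1 = T (pRegularPart p ψ.1)
      rw [hTreg, hTinfl]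
  -- `T` is injective on the span
  have hinj : Function.Injective (T.domRestrict (Submodule.span ℂ S')) := by
    rw [← LinearMap.ker_eq_bot, LinearMap.ker_eq_bot']
    intro w hw
    apply Subtype.ext
    have hw' : T (w : G ⧸ Q → ℂ) = 0 := hw
    show (w : G ⧸ Q → ℂ) = 0
    funext c
    by_cases hc : p ∣ orderOf c
    · have hsp : Submodule.span ℂ S' = Cfsg.Agent.H81.regSpan p (principalBlock M (G ⧸ Q)) := by
        rw [hS'def]; rfl
      have hmem : (w : G ⧸ Q → ℂ) ∈ Cfsg.Agent.H81.regSpan p (principalBlock M (G ⧸ Q)) := by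
        rw [← hsp]
        exact w.2
      exact Cfsg.Agent.H81.vanish_of_mem_regSpan p _ _ hmem c hc
    · obtain ⟨g, hg, hgc⟩ := exists_regular_lift Q c hc
      have h1 := congrFun hw' g
      rw [hT, if_neg hg, hπ, hgc] at h1
      exact h1
  unfold blockRank
  rw [← hSdef, ← hS'def, hspan, ← LinearMap.range_domRestrict]
  exact LinearMap.finrank_range_of_inj hinj

end

end Cfsg.Agent.H79
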