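import Mathlib
import Cfsg.Agent.H72.BHM1

/-!
# Groups with square-free class sizes: the commutator subgroup (part A)

`card_commutator_dvd_prime`: if all class sizes of `X` are square-free and the commutator
subgroup of `X` is a `p`-group, then it has order dividing `p`.
-/

namespace Cfsg.Agent.H79.Sqf

open Subgroup
open scoped commutatorElement

variable {X : Type*} [Group X]

/-! ### commutator identities -/

theorem comm_mul_right (u a b : X) (hc : Commute ⁅u, b⁆ a) :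
    ⁅u, a * b⁆ = ⁅u, a⁆ * ⁅u, b⁆ := by
  have h2 : ⁅u, b⁆ * a⁻¹ = a⁻¹ * ⁅u, b⁆ := hc.inv_right.eq
  calc ⁅u, a * b⁆ = u * a * u⁻¹ * (⁅u, b⁆ * a⁻¹) := by
        simp only [commutatorElement_def]; group
    _ = u * a * u⁻¹ * (a⁻¹ * ⁅u, b⁆) := by rw [h2]
    _ = ⁅u, a⁆ * ⁅u, b⁆ := by simp only [commutatorElement_def]; group

theorem comm_mul_left (a b w : X) (hc : Commute ⁅b, w⁆ a) :
    ⁅a * b, w⁆ = ⁅b, w⁆ * ⁅a, w⁆ := by
  have h2 : a * ⁅b, w⁆ = ⁅b, w⁆ * a := hc.symm.eq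
  calc ⁅a * b, w⁆ = (a * ⁅b, w⁆) * w * a⁻¹ * w⁻¹ := by
        simp only [commutatorElement_def]; group
    _ = (⁅b, w⁆ * a) * w * a⁻¹ * w⁻¹ := by rw [h2]
    _ = ⁅b, w⁆ * ⁅a, w⁆ := by simp only [commutatorElement_def]; group

theorem comm_pow_right (u z : X) (hc : Commute ⁅u, z⁆ z) (i : ℕ) :
    ⁅u, z ^ i⁆ = ⁅u, z⁆ ^ i := by
  induction i with
  | zero => simp
  | succ i ih =>
    rw [pow_succ z i, comm_mul_right u (z ^ i) z (hc.pow_right i), ih, pow_succ ⁅u, z⁆ i]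

theorem mem_cent_iff {u x : X} : x ∈ Subgroup.centralizer ({u} : Set X) ↔ u * x = x * u := by
  rw [Subgroup.mem_centralizer_iff]; simp

theorem normal_of_commutator_le {P : Subgroup X} (hXP : commutator X ≤ P) : P.Normal := by
  refine ⟨fun n hn g => ?_⟩
  have h1 : ⁅g, n⁆ ∈ P := hXP (by
    rw [commutator_def]
    exact Subgroup.commutator_mem_commutator (Subgroup.mem_top g) (Subgroup.mem_top n))
  have h2 : g * n * g⁻¹ = ⁅g, n⁆ * n := by rw [commutatorElement_def]; group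
  rw [h2]; exact P.mul_mem h1 hn

theorem comm_mem_of_le {P : Subgroup X} (hXP : commutator X ≤ P) (a b : X) : ⁅a, b⁆ ∈ P :=
  hXP (by
    rw [commutator_def]
    exact Subgroup.commutator_mem_commutator (Subgroup.mem_top a) (Subgroup.mem_top b))

/-! ### index tools -/

section Finite

variable [Finite X] {p : ℕ} [Fact p.Prime]

theorem idx_tools (P A : Subgroup X) (hP : IsPGroup p P) (hA : A.relIndex P ∣ p) :
    (∀ u ∈ P, ∀ v ∈ P, ⁅u, v⁆ ∈ A) ∧ (∀ v ∈ P, v ^ p ∈ A) ∧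
      (∀ z ∈ P, z ∉ A → ∀ v ∈ P, ∃ i : ℕ, (z ^ i)⁻¹ * v ∈ A) := by
  have hp : p.Prime := Fact.out
  rcases (Nat.dvd_prime hp).1 hA with h1 | h1
  · have hle : P ≤ A := Subgroup.relIndex_eq_one.1 h1
    refine ⟨fun u hu v hv => ?_, fun v hv => ?_, fun z hz hzA => ?_⟩
    · apply hle
      rw [commutatorElement_def]
      exact P.mul_mem (P.mul_mem (P.mul_mem hu hv) (P.inv_mem hu)) (P.inv_mem hv)
    · exact hle (P.pow_mem hv p)
    · exact absurd (hle hz) hzA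
  · obtain ⟨A', hA'⟩ : ∃ A' : Subgroup ↥P, A' = A.subgroupOf P := ⟨_, rfl⟩
    have hidx : A'.index = p := by rw [hA']; exact h1
    have hcardP : (Nat.card ↥P).minFac = p := by
      obtain ⟨n, hn⟩ := hP.exists_card_eq
      have hn0 : n ≠ 0 := by
        rintro rfl
        have h3 : A'.index ∣ Nat.card ↥P := Subgroup.index_dvd_card A'
        rw [hidx, hn, pow_zero] at h3
        exact hp.one_lt.ne' (Nat.dvd_one.1 h3)
      rw [hn]; exact hp.pow_minFac hn0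
    have hnorm : A'.Normal := Subgroup.normal_of_index_eq_minFac_card (by rw [hidx, hcardP])
    have hcardQ : Nat.card (↥P ⧸ A') = p := by rw [← Subgroup.index_eq_card]; exact hidx
    have hcomm : ∀ a b : ↥P ⧸ A', a * b = b * a := by
      haveI := isCyclic_of_prime_card hcardQ
      letI := IsCyclic.commGroup (α := ↥P ⧸ A')
      exact fun a b => mul_comm a b
    have hmemA : ∀ w : ↥P, (QuotientGroup.mk w : ↥P ⧸ A') = 1 → (w : X) ∈ A := by
      intro w hw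
      rw [QuotientGroup.eq_one_iff, hA'] at hw
      exact Subgroup.mem_subgroupOf.1 hw
    refine ⟨fun u hu v hv => ?_, fun v hv => ?_, fun z hz hzA v hv => ?_⟩
    · have h2 : (QuotientGroup.mk (⁅(⟨u, hu⟩ : ↥P), ⟨v, hv⟩⁆) : ↥P ⧸ A') = 1 := by
        rw [commutatorElement_def]
        simp only [QuotientGroup.mk_mul, QuotientGroup.mk_inv]
        rw [hcomm (QuotientGroup.mk ⟨u, hu⟩) (QuotientGroup.mk ⟨v, hv⟩)]
        group
      have h3 := hmemA _ h2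
      simpa [commutatorElement_def] using h3
    · have h2 : (QuotientGroup.mk ((⟨v, hv⟩ : ↥P) ^ p) : ↥P ⧸ A') = 1 := by
        rw [QuotientGroup.mk_pow]
        have h4 := pow_card_eq_one' (G := ↥P ⧸ A') (x := QuotientGroup.mk ⟨v, hv⟩)
        rwa [hcardQ] at h4
      have h3 := hmemA _ h2
      simpa using h3
    · have hz1 : (QuotientGroup.mk (⟨z, hz⟩ : ↥P) : ↥P ⧸ A') ≠ 1 := by
        intro h0
        exact hzA (hmemA _ h0)
      obtain ⟨i, hi⟩ := (Submonoid.mem_powers_iff _ _).1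
        (mem_powers_of_prime_card hcardQ hz1 (g' := QuotientGroup.mk (⟨v, hv⟩ : ↥P)))
      refine ⟨i, ?_⟩
      have h2 : (QuotientGroup.mk (((⟨z, hz⟩ : ↥P) ^ i)⁻¹ * ⟨v, hv⟩) : ↥P ⧸ A') = 1 := by
        rw [QuotientGroup.mk_mul, QuotientGroup.mk_inv, QuotientGroup.mk_pow, hi, inv_mul_cancel]
      have h3 := hmemA _ h2
      simpa using h3

theorem eq_of_relIndex (P B C : Subgroup X) (hB : B.relIndex P ∣ p) (hC : C.relIndex P = p)
    (hBC : ∀ w ∈ P, w ∈ B → w ∈ C) : ∀ w ∈ P, w ∈ C → w ∈ B := by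
  have hp : p.Prime := Fact.out
  intro w hw hwC
  have hle : B ⊓ P ≤ C ⊓ P := fun y hy => ⟨hBC y hy.2 hy.1, hy.2⟩
  have h1 := Subgroup.relIndex_mul_relIndex (B ⊓ P) (C ⊓ P) P hle inf_le_right
  rw [Subgroup.inf_relIndex_right, Subgroup.inf_relIndex_right, hC] at h1
  have h2 : (B ⊓ P).relIndex (C ⊓ P) * p ∣ p := h1 ▸ hB
  have h0 : (B ⊓ P).relIndex (C ⊓ P) ≠ 0 := by
    intro h0; rw [h0, zero_mul] at h2; exact hp.ne_zero (zero_dvd_iff.1 h2)
  have h5 : (B ⊓ P).relIndex (C ⊓ P) * p ≤ 1 * p := by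
    rw [one_mul]; exact Nat.le_of_dvd hp.pos h2
  have h6 := Nat.le_of_mul_le_mul_right h5 hp.pos
  have h3 : (B ⊓ P).relIndex (C ⊓ P) = 1 := by omega
  exact (Subgroup.relIndex_eq_one.1 h3 ⟨hwC, hw⟩).1

theorem relIndex_dvd_prime
    (h : ∀ x : X, Squarefree (Subgroup.centralizer ({x} : Set X)).index)
    (P : Subgroup X) [P.Normal] (hP : IsPGroup p P) (x : X) :
    (Subgroup.centralizer ({x} : Set X)).relIndex P ∣ p := by
  have hp : p.Prime := Fact.out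
  have h1 : (Subgroup.centralizer ({x} : Set X)).relIndex P ∣
      (Subgroup.centralizer ({x} : Set X)).index :=
    Cfsg.Agent.H72.BHM.relIndex_dvd_index_of_normal_right _ _
  have h2 : Squarefree ((Subgroup.centralizer ({x} : Set X)).relIndex P) :=
    Squarefree.squarefree_of_dvd h1 (h x)
  have h3 : (Subgroup.centralizer ({x} : Set X)).relIndex P ∣ Nat.card P :=
    Subgroup.relIndex_dvd_card _ _
  obtain ⟨n, hn⟩ := hP.exists_card_eq
  rw [hn] at h3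
  obtain ⟨j, -, hj⟩ := (Nat.dvd_prime_pow hp).1 h3
  rw [hj] at h2 ⊢
  rcases j with _ | _ | j
  · simp
  · simp
  · exfalso
    have h4 : p * p ∣ p ^ (j + 1 + 1) := ⟨p ^ j, by ring⟩
    exact hp.one_lt.ne' (Nat.isUnit_iff.1 (h2 p h4))

theorem comm_central
    (h : ∀ x : X, Squarefree (Subgroup.centralizer ({x} : Set X)).index)
    (P : Subgroup X) [P.Normal] (hP : IsPGroup p P) {u v : X} (hu : u ∈ P) (hv : v ∈ P)
    (x : X) : Commute ⁅u, v⁆ x := by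
  have h1 := (idx_tools P (Subgroup.centralizer ({x} : Set X)) hP
    (relIndex_dvd_prime h P hP x)).1 u hu v hv
  exact (mem_cent_iff.1 h1).symm

theorem line_lemma (P : Subgroup X) (hP : IsPGroup p P) {u z : X}
    (hrel : (Subgroup.centralizer ({u} : Set X)).relIndex P ∣ p) (hz : z ∈ P)
    (hc : Commute ⁅u, z⁆ z) (hne : ⁅u, z⁆ ≠ 1) :
    ⁅u, z⁆ ^ p = 1 ∧ ∀ v ∈ P, ∃ i : ℕ, ⁅u, v⁆ = ⁅u, z⁆ ^ i := by
  obtain ⟨-, t2, t3⟩ := idx_tools P (Subgroup.centralizer ({u} : Set X)) hP hrel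
  have hzA : z ∉ Subgroup.centralizer ({u} : Set X) := by
    intro hz'
    exact hne (commutatorElement_eq_one_iff_commute.2 (mem_cent_iff.1 hz'))
  constructor
  · rw [← comm_pow_right u z hc p]
    exact commutatorElement_eq_one_iff_commute.2 (mem_cent_iff.1 (t2 z hz))
  · intro v hv
    obtain ⟨i, hi⟩ := t3 z hz hzA v hv
    refine ⟨i, ?_⟩
    have hw : ⁅u, (z ^ i)⁻¹ * v⁆ = 1 :=
      commutatorElement_eq_one_iff_commute.2 (mem_cent_iff.1 hi)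
    calc ⁅u, v⁆ = ⁅u, z ^ i * ((z ^ i)⁻¹ * v)⁆ := by rw [mul_inv_cancel_left]
      _ = ⁅u, z ^ i⁆ * ⁅u, (z ^ i)⁻¹ * v⁆ :=
          comm_mul_right u (z ^ i) _ (by rw [hw]; exact Commute.one_left _)
      _ = ⁅u, z⁆ ^ i := by rw [hw, mul_one, comm_pow_right u z hc i]

/-! ### the nonabelian case -/

theorem knoche
    (h : ∀ x : X, Squarefree (Subgroup.centralizer ({x} : Set X)).index)
    (P : Subgroup X) [P.Normal] (hP : IsPGroup p P) {a₀ b₀ : X}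
    (ha : a₀ ∈ P) (hb : b₀ ∈ P) (hne : ⁅a₀, b₀⁆ ≠ 1) :
    ⁅a₀, b₀⁆ ^ p = 1 ∧ ∀ u ∈ P, ∀ v ∈ P, ⁅u, v⁆ ∈ Subgroup.zpowers ⁅a₀, b₀⁆ := by
  have hcen : ∀ u ∈ P, ∀ v ∈ P, ∀ x : X, Commute ⁅u, v⁆ x :=
    fun u hu v hv x => comm_central h P hP hu hv x
  have K1 : ∀ u ∈ P, ∀ z ∈ P, ⁅u, z⁆ ≠ 1 → ∀ v ∈ P, ∃ i : ℕ, ⁅u, v⁆ = ⁅u, z⁆ ^ i :=
    fun u hu z hz hne' =>
      (line_lemma P hP (relIndex_dvd_prime h P hP u) hz (hcen u hu z hz z) hne').2
  refine ⟨(line_lemma P hP (relIndex_dvd_prime h P hP a₀) hb (hcen a₀ ha b₀ hb b₀) hne).1, ?_⟩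
  intro u hu v hv
  by_cases huv : ⁅u, v⁆ = 1
  · rw [huv]; exact one_mem _
  obtain ⟨z, hz, hz1, hz2⟩ : ∃ z ∈ P, ⁅u, z⁆ ≠ 1 ∧ ⁅a₀, z⁆ ≠ 1 := by
    by_cases h1 : ⁅a₀, v⁆ = 1
    · by_cases h2 : ⁅u, b₀⁆ = 1
      · refine ⟨v * b₀, P.mul_mem hv hb, ?_, ?_⟩
        · rw [comm_mul_right u v b₀ (by rw [h2]; exact Commute.one_left _), h2, mul_one]
          exact huv
        · rw [comm_mul_right a₀ v b₀ (hcen a₀ ha b₀ hb v), h1, one_mul]
          exact hne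
      · exact ⟨b₀, hb, h2, hne⟩
    · exact ⟨v, hv, huv, h1⟩
  obtain ⟨k, hk⟩ := K1 a₀ ha b₀ hb hne z hz
  have e1 : ⁅a₀, z⁆ ∈ Subgroup.zpowers ⁅a₀, b₀⁆ := by
    rw [hk]; exact pow_mem (Subgroup.mem_zpowers _) k
  have e2 : ⁅z, a₀⁆ ∈ Subgroup.zpowers ⁅a₀, b₀⁆ := by
    have h3 := inv_mem e1
    rwa [commutatorElement_inv] at h3
  have hz2' : ⁅z, a₀⁆ ≠ 1 := fun h0 =>
    hz2 (commutatorElement_eq_one_iff_commute.2 (commutatorElement_eq_one_iff_commute.1 h0).symm)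
  obtain ⟨j, hj⟩ := K1 z hz a₀ ha hz2' u hu
  have e3 : ⁅z, u⁆ ∈ Subgroup.zpowers ⁅a₀, b₀⁆ := by
    rw [hj]; exact pow_mem e2 j
  have e4 : ⁅u, z⁆ ∈ Subgroup.zpowers ⁅a₀, b₀⁆ := by
    have h3 := inv_mem e3
    rwa [commutatorElement_inv] at h3
  obtain ⟨i, hi⟩ := K1 u hu z hz hz1 v hv
  rw [hi]; exact pow_mem e4 i

theorem pprime_centralizes
    (h : ∀ x : X, Squarefree (Subgroup.centralizer ({x} : Set X)).index)
    (P : Subgroup X) [hPn : P.Normal] (hP : IsPGroup p P)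
    (hnab : ∃ a ∈ P, ∃ b ∈ P, ⁅a, b⁆ ≠ 1) (g : X) (hg : (orderOf g).Coprime p) :
    ∀ n ∈ P, g * n = n * g := by
  by_contra hcon
  push_neg at hcon
  obtain ⟨n₀, hn₀, hn₀g⟩ := hcon
  have hp : p.Prime := Fact.out
  have hcen : ∀ u ∈ P, ∀ v ∈ P, ∀ x : X, Commute ⁅u, v⁆ x :=
    fun u hu v hv x => comm_central h P hP hu hv x
  obtain ⟨A, hAdef⟩ : ∃ A : Subgroup X, A = Subgroup.centralizer ({g} : Set X) := ⟨_, rfl⟩
  have hAmem : ∀ w : X, w ∈ A ↔ g * w = w * g := fun w => by rw [hAdef]; exact mem_cent_iff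
  have hA : A.relIndex P ∣ p := by rw [hAdef]; exact relIndex_dvd_prime h P hP g
  have hn₀A : n₀ ∉ A := fun hh => hn₀g ((hAmem n₀).1 hh)
  have hAp : A.relIndex P = p := by
    rcases (Nat.dvd_prime hp).1 hA with h1 | h1
    · exact absurd (Subgroup.relIndex_eq_one.1 h1 hn₀) hn₀A
    · exact h1
  -- `A ⊓ P` is abelian
  have comm1 : ∀ x' ∈ P, x' ∈ A → ∀ w ∈ P, w ∈ A → w * x' = x' * w := by
    intro x' hx' hx'A w hw hwA
    have hgx : g * x' = x' * g := (hAmem x').1 hx'A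
    have hpow : ∃ j : ℕ, (g * x') ^ j = g := by
      obtain ⟨k, hk⟩ := hP ⟨x', hx'⟩
      have hk' : x' ^ (p ^ k) = 1 := by simpa using congrArg Subtype.val hk
      have hco : (p ^ k).Coprime (orderOf g) := Nat.Coprime.pow_left k hg.symm
      obtain ⟨m, hm⟩ := exists_pow_eq_self_of_coprime hco
      refine ⟨p ^ k * m, ?_⟩
      have hcomm : Commute g x' := hgx
      rw [hcomm.mul_pow, pow_mul, pow_mul, hk', one_pow, mul_one, hm]
    obtain ⟨j, hj⟩ := hpow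
    have hB : (Subgroup.centralizer ({g * x'} : Set X)).relIndex P ∣ p :=
      relIndex_dvd_prime h P hP (g * x')
    have hBA : ∀ y ∈ P, y ∈ Subgroup.centralizer ({g * x'} : Set X) → y ∈ A := by
      intro y _ hy
      have hy' : Commute (g * x') y := mem_cent_iff.1 hy
      have hy2 := hy'.pow_left j
      rw [hj] at hy2
      exact (hAmem y).2 hy2.eq
    have hwB := eq_of_relIndex P _ A hB hAp hBA w hw hwA
    have hwB' : (g * x') * w = w * (g * x') := mem_cent_iff.1 hwB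
    have hwg : g * w = w * g := (hAmem w).1 hwA
    have e : g * (x' * w) = g * (w * x') := by
      calc g * (x' * w) = (g * x') * w := by rw [mul_assoc]
        _ = w * (g * x') := hwB'
        _ = (w * g) * x' := by rw [mul_assoc]
        _ = (g * w) * x' := by rw [hwg]
        _ = g * (w * x') := by rw [mul_assoc]
    exact (mul_left_cancel e).symm
  -- a non-commuting pair `a ∉ A`, `x' ∈ A`
  obtain ⟨a, haP, haA, x', hx', hx'A, hax⟩ :
      ∃ a ∈ P, a ∉ A ∧ ∃ x' ∈ P, x' ∈ A ∧ ⁅a, x'⁆ ≠ 1 := by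
    by_contra hno
    push_neg at hno
    obtain ⟨a₁, ha₁, b₁, hb₁, hab₁⟩ := hnab
    apply hab₁
    obtain ⟨-, -, t3⟩ := idx_tools P A hP hA
    obtain ⟨i, hi⟩ := t3 n₀ hn₀ hn₀A a₁ ha₁
    obtain ⟨j, hj⟩ := t3 n₀ hn₀ hn₀A b₁ hb₁
    obtain ⟨w, hw⟩ : ∃ w, w = (n₀ ^ i)⁻¹ * a₁ := ⟨_, rfl⟩
    obtain ⟨w', hw'⟩ : ∃ w', w' = (n₀ ^ j)⁻¹ * b₁ := ⟨_, rfl⟩
    rw [← hw] at hi
    rw [← hw'] at hj
    have hwP : w ∈ P := by
      rw [hw]; exact P.mul_mem (P.inv_mem (P.pow_mem hn₀ i)) ha₁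
    have hw'P : w' ∈ P := by
      rw [hw']; exact P.mul_mem (P.inv_mem (P.pow_mem hn₀ j)) hb₁
    have c1 : Commute n₀ w :=
      commutatorElement_eq_one_iff_commute.1 (hno n₀ hn₀ hn₀A w hwP hi)
    have c2 : Commute n₀ w' :=
      commutatorElement_eq_one_iff_commute.1 (hno n₀ hn₀ hn₀A w' hw'P hj)
    have c3 : Commute w w' := comm1 w' hw'P hj w hwP hi
    have ea : a₁ = n₀ ^ i * w := by rw [hw, mul_inv_cancel_left]
    have eb : b₁ = n₀ ^ j * w' := by rw [hw', mul_inv_cancel_left]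
    rw [commutatorElement_eq_one_iff_commute, ea, eb]
    exact Commute.mul_left
      (Commute.mul_right ((Commute.refl n₀).pow_pow i j) (c2.pow_left i))
      (Commute.mul_right (c1.symm.pow_right j) c3)
  have hbP : g * a * g⁻¹ ∈ P := hPn.conj_mem a haP g
  have hgx : g * x' = x' * g := (hAmem x').1 hx'A
  have hb1 : ⁅g * a * g⁻¹, x'⁆ = ⁅a, x'⁆ := by
    have hx3 : g * x' * g⁻¹ = x' := by rw [hgx, mul_inv_cancel_right]
    have e1 : ⁅g * a * g⁻¹, x'⁆ = g * ⁅a, x'⁆ * g⁻¹ := by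
      calc ⁅g * a * g⁻¹, x'⁆ = ⁅g * a * g⁻¹, g * x' * g⁻¹⁆ := by rw [hx3]
        _ = g * ⁅a, x'⁆ * g⁻¹ := by simp only [commutatorElement_def]; group
    rw [e1, ← (hcen a haP x' hx' g).eq, mul_inv_cancel_right]
  obtain ⟨c', hc'⟩ : ∃ c', c' = a⁻¹ * (g * a * g⁻¹) := ⟨_, rfl⟩
  have hc'P : c' ∈ P := by rw [hc']; exact P.mul_mem (P.inv_mem haP) hbP
  have hc'x : ⁅c', x'⁆ = 1 := by
    have e2 : ⁅a⁻¹ * a, x'⁆ = ⁅a, x'⁆ * ⁅a⁻¹, x'⁆ :=
      comm_mul_left a⁻¹ a x' (hcen a haP x' hx' a⁻¹)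
    rw [inv_mul_cancel, commutatorElement_one_left] at e2
    rw [hc', comm_mul_left a⁻¹ (g * a * g⁻¹) x' (hcen _ hbP x' hx' a⁻¹), hb1]
    exact e2.symm
  have hc'A : c' ∈ A := by
    have hB : (Subgroup.centralizer ({x'} : Set X)).relIndex P ∣ p :=
      relIndex_dvd_prime h P hP x'
    have hBp : (Subgroup.centralizer ({x'} : Set X)).relIndex P = p := by
      rcases (Nat.dvd_prime hp).1 hB with h1 | h1
      · exfalso
        have h2 := Subgroup.relIndex_eq_one.1 h1 haP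
        exact hax (commutatorElement_eq_one_iff_commute.2 (mem_cent_iff.1 h2).symm)
      · exact h1
    refine eq_of_relIndex P A _ hA hBp (fun w hw hwA => ?_) c' hc'P ?_
    · exact mem_cent_iff.2 (comm1 x' hx' hx'A w hw hwA).symm
    · exact mem_cent_iff.2 (commutatorElement_eq_one_iff_commute.1 hc'x).symm.eq
  have hgc : Commute g c' := (hAmem c').1 hc'A
  have hconj : g * a * g⁻¹ = a * c' := by rw [hc', mul_inv_cancel_left]
  have hiter : ∀ k : ℕ, g ^ k * a * (g ^ k)⁻¹ = a * c' ^ k := by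
    intro k
    induction k with
    | zero => simp
    | succ k ih =>
      have hgck : g * c' ^ k * g⁻¹ = c' ^ k := by
        rw [(hgc.pow_right k).eq, mul_inv_cancel_right]
      calc g ^ (k + 1) * a * (g ^ (k + 1))⁻¹ = g * (g ^ k * a * (g ^ k)⁻¹) * g⁻¹ := by group
        _ = g * (a * c' ^ k) * g⁻¹ := by rw [ih]
        _ = (g * a * g⁻¹) * (g * c' ^ k * g⁻¹) := by group
        _ = a * c' ^ (k + 1) := by rw [hconj, hgck, pow_succ', mul_assoc]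
  have h5 := hiter (orderOf g)
  rw [pow_orderOf_eq_one] at h5
  have h6 : c' ^ orderOf g = 1 := by simpa using h5
  obtain ⟨k, hk⟩ := hP ⟨c', hc'P⟩
  have hk' : c' ^ (p ^ k) = 1 := by simpa using congrArg Subtype.val hk
  have h7 : c' = 1 := (pow_eq_one_iff_of_coprime (Nat.Coprime.pow_right k hg)).1 ⟨h6, hk'⟩
  rw [h7, mul_one] at hconj
  apply haA
  rw [hAmem]
  calc g * a = g * a * g⁻¹ * g := by group
    _ = a * g := by rw [hconj]

/-! ### the final step -/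

theorem exists_decomp (P : Sylow p X) [(P : Subgroup X).Normal] (x : X) :
    ∃ x₂ x₁ : X, x = x₂ * x₁ ∧ x₁ ∈ (P : Subgroup X) ∧ (orderOf x₂).Coprime p := by
  have hp : p.Prime := Fact.out
  obtain ⟨e, he⟩ := P.isPGroup'.exists_card_eq
  have hkp : ¬ p ∣ (P : Subgroup X).index := P.not_dvd_index
  have hco : Nat.Coprime (p ^ e) (P : Subgroup X).index :=
    Nat.Coprime.pow_left e ((Nat.Prime.coprime_iff_not_dvd hp).2 hkp)
  obtain ⟨a, b, hab⟩ := Nat.isCoprime_iff_coprime.2 hco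
  refine ⟨(x ^ (p ^ e)) ^ a, (x ^ (P : Subgroup X).index) ^ b, ?_, ?_, ?_⟩
  · have h1 : x ^ (1 : ℤ) = (x ^ (p ^ e)) ^ a * (x ^ (P : Subgroup X).index) ^ b := by
      rw [← hab, zpow_add, mul_comm a, mul_comm b, zpow_mul, zpow_mul, zpow_natCast,
        zpow_natCast]
    rw [zpow_one] at h1
    exact h1
  · exact Subgroup.zpow_mem _ (Subgroup.pow_index_mem _ x) b
  · have h1 : ((x ^ (p ^ e)) ^ a) ^ (P : Subgroup X).index = 1 := by
      rw [← zpow_natCast ((x ^ (p ^ e)) ^ a) (P : Subgroup X).index, ← zpow_mul,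
        mul_comm a, zpow_mul, zpow_natCast, ← pow_mul, ← he, Subgroup.card_mul_index,
        pow_card_eq_one', one_zpow]
    exact Nat.Coprime.coprime_dvd_left (orderOf_dvd_of_pow_eq_one h1)
      ((Nat.Prime.coprime_iff_not_dvd hp).2 hkp).symm

theorem comm_le_of_step (P : Sylow p X) (hXP : commutator X ≤ (P : Subgroup X))
    (L : Subgroup X) (hL : ∀ x : X, ∀ n ∈ (P : Subgroup X), ⁅x, n⁆ ∈ L) :
    commutator X ≤ L := by
  have hp : p.Prime := Fact.out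
  have hnorm : (P : Subgroup X).Normal := normal_of_commutator_le hXP
  have hmem : ∀ a b : X, ⁅a, b⁆ ∈ (P : Subgroup X) := comm_mem_of_le hXP
  rw [commutator_def, Subgroup.commutator_le]
  intro g _ h _
  have step : ∀ j : ℕ, ∃ l ∈ L, ⁅g ^ j, h⁆ = l * ⁅g, h⁆ ^ j := by
    intro j
    induction j with
    | zero => exact ⟨1, L.one_mem, by simp⟩
    | succ j ih =>
      obtain ⟨l, hl, hlj⟩ := ih
      refine ⟨⁅g, ⁅g ^ j, h⁆⁆ * l, L.mul_mem (hL g _ (hmem _ _)) hl, ?_⟩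
      have e1 : ⁅g ^ (j + 1), h⁆ = ⁅g, ⁅g ^ j, h⁆⁆ * ⁅g ^ j, h⁆ * ⁅g, h⁆ := by
        simp only [commutatorElement_def]; group
      calc ⁅g ^ (j + 1), h⁆ = ⁅g, ⁅g ^ j, h⁆⁆ * ⁅g ^ j, h⁆ * ⁅g, h⁆ := e1
        _ = ⁅g, ⁅g ^ j, h⁆⁆ * (l * ⁅g, h⁆ ^ j) * ⁅g, h⁆ := by rw [← hlj]
        _ = ⁅g, ⁅g ^ j, h⁆⁆ * l * ⁅g, h⁆ ^ (j + 1) := by
            rw [pow_succ ⁅g, h⁆ j]; simp only [mul_assoc]
  obtain ⟨l, hl, hlm⟩ := step (P : Subgroup X).index
  have h1 : ⁅g ^ (P : Subgroup X).index, h⁆ ∈ L := by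
    have h0 := L.inv_mem (hL h _ (Subgroup.pow_index_mem (P : Subgroup X) g))
    rwa [commutatorElement_inv] at h0
  have h2 : ⁅g, h⁆ ^ (P : Subgroup X).index ∈ L := by
    have h0 : ⁅g, h⁆ ^ (P : Subgroup X).index = l⁻¹ * ⁅g ^ (P : Subgroup X).index, h⁆ := by
      rw [hlm, inv_mul_cancel_left]
    rw [h0]; exact L.mul_mem (L.inv_mem hl) h1
  obtain ⟨k, hk⟩ := P.isPGroup' ⟨⁅g, h⁆, hmem g h⟩
  have hk' : ⁅g, h⁆ ^ (p ^ k) = 1 := by simpa using congrArg Subtype.val hk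
  have hco : ((P : Subgroup X).index).Coprime (orderOf ⁅g, h⁆) := by
    have hd : orderOf ⁅g, h⁆ ∣ p ^ k := orderOf_dvd_of_pow_eq_one hk'
    exact Nat.Coprime.coprime_dvd_right hd
      (Nat.Coprime.pow_right k ((Nat.Prime.coprime_iff_not_dvd hp).2 P.not_dvd_index).symm)
  obtain ⟨m, hm⟩ := exists_pow_eq_self_of_coprime hco
  have h3 := L.pow_mem h2 m
  rwa [hm] at h3

/-! ### the abelian case -/

theorem conj_comm_abelian {P : Subgroup X} (hXP : commutator X ≤ P)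
    (hab : ∀ a ∈ P, ∀ b ∈ P, a * b = b * a) (y z : X) {n : X} (hn : n ∈ P) :
    z * ⁅y, n⁆ * z⁻¹ = ⁅y, z * n * z⁻¹⁆ := by
  have hnorm : P.Normal := normal_of_commutator_le hXP
  have hmem : ∀ a b : X, ⁅a, b⁆ ∈ P := comm_mem_of_le hXP
  have hn' : z * n * z⁻¹ ∈ P := hnorm.conj_mem n hn z
  have e1 : z * ⁅y, n⁆ * z⁻¹ = ⁅⁅z, y⁆ * y, z * n * z⁻¹⁆ := by
    simp only [commutatorElement_def]; group
  have hc : Commute ⁅y, z * n * z⁻¹⁆ ⁅z, y⁆ := hab _ (hmem _ _) _ (hmem _ _)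
  have e2 : ⁅⁅z, y⁆, z * n * z⁻¹⁆ = 1 :=
    commutatorElement_eq_one_iff_commute.2 (hab _ (hmem _ _) _ hn')
  rw [e1, comm_mul_left ⁅z, y⁆ y (z * n * z⁻¹) hc, e2, mul_one]

theorem comm_eq_one_of_fixed {P : Subgroup X} (hP : IsPGroup p P)
    (hab : ∀ a ∈ P, ∀ b ∈ P, a * b = b * a) {y m : X} (hm : m ∈ P) (hl : ⁅y, m⁆ ∈ P)
    {k : ℕ} (hk : k.Coprime p) (hyk : y ^ k ∈ P) (hfix : Commute y ⁅y, m⁆) :
    ⁅y, m⁆ = 1 := by
  obtain ⟨l, hldef⟩ : ∃ l, l = ⁅y, m⁆ := ⟨_, rfl⟩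
  rw [← hldef] at hl hfix ⊢
  have h1 : y * m * y⁻¹ = l * m := by rw [hldef, commutatorElement_def]; group
  have iter : ∀ j : ℕ, y ^ j * m * (y ^ j)⁻¹ = l ^ j * m := by
    intro j
    induction j with
    | zero => simp
    | succ j ih =>
      have h2 : y * l ^ j * y⁻¹ = l ^ j := by
        rw [(hfix.pow_right j).eq, mul_inv_cancel_right]
      calc y ^ (j + 1) * m * (y ^ (j + 1))⁻¹ = y * (y ^ j * m * (y ^ j)⁻¹) * y⁻¹ := by group
        _ = y * (l ^ j * m) * y⁻¹ := by rw [ih]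
        _ = (y * l ^ j * y⁻¹) * (y * m * y⁻¹) := by group
        _ = l ^ (j + 1) * m := by rw [h2, h1, pow_succ, mul_assoc]
  have h3 := iter k
  have h4 : y ^ k * m * (y ^ k)⁻¹ = m := by rw [hab _ hyk _ hm, mul_inv_cancel_right]
  rw [h4] at h3
  have h5 : l ^ k = 1 := by
    have h6 : l ^ k * m = 1 * m := by rw [one_mul]; exact h3.symm
    exact mul_right_cancel h6
  obtain ⟨e, he⟩ := hP ⟨l, hl⟩
  have he' : l ^ (p ^ e) = 1 := by simpa using congrArg Subtype.val he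
  exact (pow_eq_one_iff_of_coprime (Nat.Coprime.pow_right e hk)).1 ⟨h5, he'⟩

theorem common_line
    (h : ∀ x : X, Squarefree (Subgroup.centralizer ({x} : Set X)).index)
    {P : Subgroup X} (hP : IsPGroup p P) (hXP : commutator X ≤ P)
    (hab : ∀ a ∈ P, ∀ b ∈ P, a * b = b * a) {k : ℕ} (hk : k.Coprime p)
    (hpow : ∀ x : X, x ^ k ∈ P) {y z m m' : X} (hm : m ∈ P) (hm' : m' ∈ P)
    (hl : ⁅y, m⁆ ≠ 1) (hl' : ⁅z, m'⁆ ≠ 1) : ∃ i : ℕ, ⁅z, m'⁆ = ⁅y, m⁆ ^ i := by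
  have hp : p.Prime := Fact.out
  have hnorm : P.Normal := normal_of_commutator_le hXP
  have hmem : ∀ a b : X, ⁅a, b⁆ ∈ P := comm_mem_of_le hXP
  have hrel : ∀ x : X, (Subgroup.centralizer ({x} : Set X)).relIndex P ∣ p :=
    fun x => relIndex_dvd_prime h P hP x
  have T : ∀ x n : X, n ∈ P → ⁅x, n⁆ ≠ 1 →
      ⁅x, n⁆ ^ p = 1 ∧ ∀ v ∈ P, ∃ i : ℕ, ⁅x, v⁆ = ⁅x, n⁆ ^ i :=
    fun x n hn hne => line_lemma P hP (hrel x) hn (hab _ (hmem _ _) _ hn) hne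
  have gen : ∀ l w : X, l ^ p = 1 → ∀ i : ℕ, w = l ^ i → w ≠ 1 → ∃ j : ℕ, l = w ^ j := by
    intro l w hlp i hw hw1
    have hl1 : l ≠ 1 := by
      rintro rfl
      exact hw1 (by rw [hw, one_pow])
    have hord : orderOf l = p := orderOf_eq_prime hlp hl1
    have hco : i.Coprime (orderOf l) := by
      rw [hord]
      refine ((Nat.Prime.coprime_iff_not_dvd hp).2 ?_).symm
      rintro ⟨t, rfl⟩
      exact hw1 (by rw [hw, pow_mul, hlp, one_pow])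
    obtain ⟨j, hj⟩ := exists_pow_eq_self_of_coprime hco
    exact ⟨j, by rw [hw, hj]⟩
  by_contra hcon
  push_neg at hcon
  obtain ⟨l, hldef⟩ : ∃ l, l = ⁅y, m⁆ := ⟨_, rfl⟩
  obtain ⟨l', hl'def⟩ : ∃ l', l' = ⁅z, m'⁆ := ⟨_, rfl⟩
  have hlP : l ∈ P := by rw [hldef]; exact hmem y m
  have hl'P : l' ∈ P := by rw [hl'def]; exact hmem z m'
  obtain ⟨hlp, Ty⟩ := T y m hm hl
  obtain ⟨hl'p, Tz⟩ := T z m' hm' hl'
  rw [← hldef] at hl hcon hlp Ty
  rw [← hl'def] at hl' hcon hl'p Tz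
  have hinv : ∀ w : X, w ^ p = 1 → w⁻¹ = w ^ (p - 1) := by
    intro w hw
    rw [inv_eq_iff_mul_eq_one, ← pow_succ', Nat.sub_add_cancel hp.pos, hw]
  -- `z` centralizes `l`
  have hzl : ⁅z, l⁆ = 1 := by
    by_contra hne
    have e1 : z * l * z⁻¹ = ⁅y, z * m * z⁻¹⁆ := by
      rw [hldef]; exact conj_comm_abelian hXP hab y z hm
    obtain ⟨a, ha⟩ := Ty (z * m * z⁻¹) (hnorm.conj_mem m hm z)
    have e2 : ⁅z, l⁆ = l ^ (a + (p - 1)) := by
      rw [commutatorElement_def, e1, ha, hinv l hlp, ← pow_add]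
    obtain ⟨b, hb⟩ := Tz l hlP
    obtain ⟨j, hj⟩ := gen l' ⁅z, l⁆ hl'p b hb hne
    refine hcon ((a + (p - 1)) * j) ?_
    calc l' = ⁅z, l⁆ ^ j := hj
      _ = (l ^ (a + (p - 1))) ^ j := by rw [e2]
      _ = l ^ ((a + (p - 1)) * j) := by rw [pow_mul]
  -- `y` centralizes `l'`
  have hyl' : ⁅y, l'⁆ = 1 := by
    by_contra hne
    have e1 : y * l' * y⁻¹ = ⁅z, y * m' * y⁻¹⁆ := by
      rw [hl'def]; exact conj_comm_abelian hXP hab z y hm'
    obtain ⟨a, ha⟩ := Tz (y * m' * y⁻¹) (hnorm.conj_mem m' hm' y)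
    have e2 : ⁅y, l'⁆ = l' ^ (a + (p - 1)) := by
      rw [commutatorElement_def, e1, ha, hinv l' hl'p, ← pow_add]
    obtain ⟨b, hb⟩ := Ty l' hl'P
    obtain ⟨j, hj⟩ := gen l ⁅y, l'⁆ hlp b hb hne
    have hl_eq : l = l' ^ ((a + (p - 1)) * j) := by
      calc l = ⁅y, l'⁆ ^ j := hj
        _ = (l' ^ (a + (p - 1))) ^ j := by rw [e2]
        _ = l' ^ ((a + (p - 1)) * j) := by rw [pow_mul]
    obtain ⟨j', hj'⟩ := gen l' l hl'p _ hl_eq hl
    exact hcon j' hj'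
  have hzl_c : Commute z l := commutatorElement_eq_one_iff_commute.1 hzl
  have hyl'_c : Commute y l' := commutatorElement_eq_one_iff_commute.1 hyl'
  have hyl : ⁅y, l⁆ ≠ 1 := by
    intro h0
    apply hl
    rw [hldef]
    refine comm_eq_one_of_fixed hP hab hm (hmem y m) hk (hpow y) ?_
    rw [← hldef]; exact commutatorElement_eq_one_iff_commute.1 h0
  have hzl' : ⁅z, l'⁆ ≠ 1 := by
    intro h0
    apply hl'
    rw [hl'def]
    refine comm_eq_one_of_fixed hP hab hm' (hmem z m') hk (hpow z) ?_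
    rw [← hl'def]; exact commutatorElement_eq_one_iff_commute.1 h0
  have e3 : ⁅y * z, l⁆ = ⁅y, l⁆ := by
    have h0 : z * l * z⁻¹ = l := by rw [hzl_c.eq, mul_inv_cancel_right]
    calc ⁅y * z, l⁆ = y * (z * l * z⁻¹) * y⁻¹ * l⁻¹ := by
          simp only [commutatorElement_def]; group
      _ = ⁅y, l⁆ := by rw [h0, commutatorElement_def]
  have e4 : ⁅y * z, l'⁆ = ⁅z, l'⁆ := by
    obtain ⟨t, ht⟩ := Tz l' hl'P
    have hc : Commute y (z * l' * z⁻¹) := by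
      have e : z * l' * z⁻¹ = l' ^ (t + 1) := by
        have h0 : z * l' * z⁻¹ = ⁅z, l'⁆ * l' := by rw [commutatorElement_def]; group
        rw [h0, ht, pow_succ]
      rw [e]; exact hyl'_c.pow_right (t + 1)
    calc ⁅y * z, l'⁆ = y * (z * l' * z⁻¹) * y⁻¹ * l'⁻¹ := by
          simp only [commutatorElement_def]; group
      _ = z * l' * z⁻¹ * l'⁻¹ := by rw [hc.eq, mul_inv_cancel_right]
      _ = ⁅z, l'⁆ := by rw [commutatorElement_def]
  have hne3 : ⁅y * z, l⁆ ≠ 1 := by rw [e3]; exact hyl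
  obtain ⟨-, Tyz⟩ := T (y * z) l hlP hne3
  obtain ⟨i, hi⟩ := Tyz l' hl'P
  rw [e3, e4] at hi
  obtain ⟨s, hs⟩ := Ty l hlP
  obtain ⟨t, ht⟩ := Tz l' hl'P
  obtain ⟨j, hj⟩ := gen l' ⁅z, l'⁆ hl'p t ht hzl'
  refine hcon (s * i * j) ?_
  calc l' = ⁅z, l'⁆ ^ j := hj
    _ = (⁅y, l⁆ ^ i) ^ j := by rw [hi]
    _ = ((l ^ s) ^ i) ^ j := by rw [hs]
    _ = l ^ (s * i * j) := by rw [pow_mul, pow_mul]

/-! ### the main lemma -/

/-- If all class sizes of `X` are square-free and the commutator subgroup of `X` is a `p`-group,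
then the commutator subgroup has order dividing `p`. -/
theorem card_commutator_dvd_prime
    (h : ∀ x : X, Squarefree (Subgroup.centralizer ({x} : Set X)).index)
    (hX : IsPGroup p (commutator X)) : Nat.card (commutator X) ∣ p := by
  have hp : p.Prime := Fact.out
  obtain ⟨P, hXP⟩ := hX.exists_le_sylow
  have hnorm : (P : Subgroup X).Normal := normal_of_commutator_le hXP
  have hPp : IsPGroup p (P : Subgroup X) := P.isPGroup'
  have hmem : ∀ a b : X, ⁅a, b⁆ ∈ (P : Subgroup X) := comm_mem_of_le hXP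
  suffices hs : ∃ l : X, l ^ p = 1 ∧
      ∀ x : X, ∀ n ∈ (P : Subgroup X), ⁅x, n⁆ ∈ Subgroup.zpowers l by
    obtain ⟨l, hlp, hl⟩ := hs
    have hle : commutator X ≤ Subgroup.zpowers l := comm_le_of_step P hXP _ hl
    have h1 : Nat.card (commutator X) ∣ Nat.card (Subgroup.zpowers l) :=
      Subgroup.card_dvd_of_le hle
    rw [Nat.card_zpowers] at h1
    exact h1.trans (orderOf_dvd_of_pow_eq_one hlp)
  by_cases hab : ∀ a ∈ (P : Subgroup X), ∀ b ∈ (P : Subgroup X), a * b = b * a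
  · by_cases htriv : ∀ x : X, ∀ n ∈ (P : Subgroup X), ⁅x, n⁆ = 1
    · exact ⟨1, one_pow p, fun x n hn => by rw [htriv x n hn]; exact one_mem _⟩
    · push_neg at htriv
      obtain ⟨y, m, hm, hl⟩ := htriv
      have hk : ((P : Subgroup X).index).Coprime p :=
        ((Nat.Prime.coprime_iff_not_dvd hp).2 P.not_dvd_index).symm
      have hpow : ∀ x : X, x ^ (P : Subgroup X).index ∈ (P : Subgroup X) :=
        fun x => Subgroup.pow_index_mem _ x
      have hT := line_lemma (P : Subgroup X) hPp (relIndex_dvd_prime h _ hPp y) hm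
        (hab _ (hmem _ _) _ hm) hl
      refine ⟨⁅y, m⁆, hT.1, fun x n hn => ?_⟩
      by_cases hxn : ⁅x, n⁆ = 1
      · rw [hxn]; exact one_mem _
      · obtain ⟨i, hi⟩ := common_line h hPp hXP hab hk hpow hm hn hl hxn
        rw [hi]; exact pow_mem (Subgroup.mem_zpowers _) i
  · push_neg at hab
    obtain ⟨a₀, ha₀, b₀, hb₀, hne⟩ := hab
    have hne' : ⁅a₀, b₀⁆ ≠ 1 := fun h0 => hne (commutatorElement_eq_one_iff_commute.1 h0).eq
    obtain ⟨hcp, hK⟩ := knoche h (P : Subgroup X) hPp ha₀ hb₀ hne'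
    refine ⟨⁅a₀, b₀⁆, hcp, fun x n hn => ?_⟩
    obtain ⟨x₂, x₁, hx, hx₁, hx₂⟩ := exists_decomp P x
    have hcent := pprime_centralizes h (P : Subgroup X) hPp ⟨a₀, ha₀, b₀, hb₀, hne'⟩ x₂ hx₂
    have hn' : x₁ * n * x₁⁻¹ ∈ (P : Subgroup X) := hnorm.conj_mem n hn x₁
    have e : ⁅x, n⁆ = ⁅x₁, n⁆ := by
      have h2 : x₂ * (x₁ * n * x₁⁻¹) * x₂⁻¹ = x₁ * n * x₁⁻¹ := by
        rw [hcent _ hn', mul_inv_cancel_right]
      calc ⁅x, n⁆ = x₂ * (x₁ * n * x₁⁻¹) * x₂⁻¹ * n⁻¹ := by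
            rw [hx]; simp only [commutatorElement_def]; group
        _ = ⁅x₁, n⁆ := by rw [h2, commutatorElement_def]
    rw [e]; exact hK x₁ hx₁ n hn

end Finite

end Cfsg.Agent.H79.Sqf
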