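import Mathlib
import Cfsg.Agent.H79.SqfCommA
import Cfsg.Agent.H14.Cores
import Cfsg.Agent.S0526

/-!
# Groups with square-free class sizes: the commutator subgroup is cyclic of square-free order

`commutator_cyclic`: a supersolvable finite group all of whose class sizes are square-free has
cyclic commutator subgroup of square-free order (part P4 of S4130).
-/

namespace Cfsg.Agent.H79.Sqf

open Subgroup
open scoped commutatorElement

variable {G : Type*} [Group G] [Finite G]

theorem sq_quotient (h : ∀ x : G, Squarefree (Subgroup.centralizer ({x} : Set G)).index)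
    (K : Subgroup G) [K.Normal] :
    ∀ x : G ⧸ K, Squarefree (Subgroup.centralizer ({x} : Set (G ⧸ K))).index := by
  intro x
  obtain ⟨g, rfl⟩ := QuotientGroup.mk_surjective x
  have h1 : (Subgroup.centralizer ({g} : Set G)).map (QuotientGroup.mk' K) ≤
      Subgroup.centralizer ({(g : G ⧸ K)} : Set (G ⧸ K)) := by
    rintro _ ⟨c, hc, rfl⟩
    have hc' : g * c = c * g := mem_cent_iff.1 hc
    apply mem_cent_iff.2
    show (g : G ⧸ K) * (c : G ⧸ K) = (c : G ⧸ K) * (g : G ⧸ K)
    rw [← QuotientGroup.mk_mul, ← QuotientGroup.mk_mul, hc']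
  have h2 := Subgroup.index_dvd_of_le h1
  have h3 := Subgroup.index_map_dvd (Subgroup.centralizer ({g} : Set G))
    (QuotientGroup.mk'_surjective K)
  exact Squarefree.squarefree_of_dvd (h2.trans h3) (h g)

theorem not_sq_dvd_card_commutator
    (h : ∀ x : G, Squarefree (Subgroup.centralizer ({x} : Set G)).index)
    (hnil : Group.IsNilpotent ↥(commutator G)) (p : ℕ) [Fact p.Prime] :
    ¬ p * p ∣ Nat.card ↥(commutator G) := by
  have hp : p.Prime := Fact.out
  obtain ⟨K₀, hK₀⟩ : ∃ K₀ : Subgroup ↥(commutator G), K₀ = Cfsg.pPrimeCore p ↥(commutator G) :=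
    ⟨_, rfl⟩
  have hK₀n : K₀.Normal := by rw [hK₀]; exact Cfsg.Agent.H14.pPrimeCore_normal p _
  have hK₀c : K₀.Characteristic := by
    rw [hK₀, Subgroup.characteristic_iff_map_le]
    intro ϕ
    rw [Subgroup.map_le_iff_le_comap]
    apply sSup_le
    rintro N ⟨hNn, hNp⟩
    rw [← Subgroup.map_le_iff_le_comap]
    refine le_sSup ⟨hNn.map _ ϕ.surjective, ?_⟩
    rw [Subgroup.card_map_of_injective ϕ.injective]
    exact hNp
  obtain ⟨K, hK⟩ : ∃ K : Subgroup G, K = K₀.map (commutator G).subtype := ⟨_, rfl⟩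
  have hKn : K.Normal := by rw [hK]; infer_instance
  -- the index of `K₀` is a power of `p`
  have hidx : ∃ j, K₀.index = p ^ j := by
    have hne : K₀.index ≠ 0 := Subgroup.index_ne_zero_of_finite
    refine ⟨_, Nat.eq_prime_pow_of_unique_prime_dvd hne ?_⟩
    intro q hq hqd
    by_contra hqp
    have : Fact q.Prime := ⟨hq⟩
    obtain ⟨Q⟩ : Nonempty (Sylow q ↥(commutator G)) := inferInstance
    have hq3 := (Group.isNilpotent_of_finite_tfae (G := ↥(commutator G))).out 0 3
    have hQn : (Q : Subgroup ↥(commutator G)).Normal := hq3.1 hnil q ⟨hq⟩ Q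
    have hQcop : (Nat.card (Q : Subgroup ↥(commutator G))).Coprime p := by
      rw [Q.card_eq_multiplicity]
      exact Nat.Coprime.pow_left _ ((Nat.coprime_primes hq hp).2 hqp)
    have hQle : (Q : Subgroup ↥(commutator G)) ≤ K₀ := by
      rw [hK₀]; exact Cfsg.Agent.H14.le_pPrimeCore hQn hQcop
    have h1 : K₀.index ∣ (Q : Subgroup ↥(commutator G)).index := Subgroup.index_dvd_of_le hQle
    exact Q.not_dvd_index (hqd.trans h1)
  have hcomm_map : commutator (G ⧸ K) = (commutator G).map (QuotientGroup.mk' K) := by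
    rw [_root_.commutator_def, _root_.commutator_def, Subgroup.map_commutator,
      Subgroup.map_top_of_surjective _ (QuotientGroup.mk'_surjective K)]
  have hpg : IsPGroup p ↥(commutator (G ⧸ K)) := by
    obtain ⟨j, hj⟩ := hidx
    rintro ⟨x, hx⟩
    have hx' := hx
    rw [hcomm_map] at hx'
    obtain ⟨d, hd, hdx⟩ := hx'
    refine ⟨j, Subtype.ext ?_⟩
    rw [Subgroup.coe_pow, Subgroup.coe_one]
    show x ^ p ^ j = 1
    rw [← hdx, ← map_pow, ← hj]
    have h1 : (⟨d, hd⟩ : ↥(commutator G)) ^ K₀.index ∈ K₀ := Subgroup.pow_index_mem K₀ _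
    have h2 : d ^ K₀.index ∈ K := by
      rw [hK]
      exact ⟨_, h1, by simp⟩
    exact (QuotientGroup.eq_one_iff _).2 h2
  have hA : Nat.card ↥(commutator (G ⧸ K)) ∣ p :=
    card_commutator_dvd_prime (X := G ⧸ K) (sq_quotient h K) hpg
  have hcard : Nat.card ↥(commutator (G ⧸ K)) = K₀.index := by
    obtain ⟨f, hf⟩ : ∃ f : ↥(commutator G) →* G ⧸ K,
        f = (QuotientGroup.mk' K).comp (commutator G).subtype := ⟨_, rfl⟩
    have hker : f.ker = K₀ := by
      ext ⟨d, hd⟩
      rw [MonoidHom.mem_ker, hf]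
      show (QuotientGroup.mk' K) d = 1 ↔ _
      rw [QuotientGroup.mk'_apply, QuotientGroup.eq_one_iff, hK]
      constructor
      · rintro ⟨y, hy, hyd⟩
        have hy' : y = ⟨d, hd⟩ := Subtype.ext hyd
        rw [← hy']; exact hy
      · intro hd'
        exact ⟨_, hd', rfl⟩
    have hrange : f.range = commutator (G ⧸ K) := by
      rw [hcomm_map, hf, ← MonoidHom.map_range, Subgroup.range_subtype]
    rw [← hrange, ← Subgroup.index_ker, hker]
  intro hpp
  have hcK : (Nat.card K₀).Coprime p := by
    rw [hK₀]; exact Cfsg.Agent.H14.pPrimeCore_coprime p _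
  have hmul : Nat.card K₀ * K₀.index = Nat.card ↥(commutator G) := Subgroup.card_mul_index K₀
  rw [← hmul] at hpp
  have h1 : p * p ∣ K₀.index :=
    (Nat.Coprime.mul_left hcK.symm hcK.symm).dvd_of_dvd_mul_left hpp
  rw [← hcard] at h1
  have h2 := Nat.le_of_dvd hp.pos (h1.trans hA)
  have h3 : 2 * p ≤ p * p := Nat.mul_le_mul_right p hp.two_le
  have h4 := hp.two_le
  linarith

/-- **P4 of S4130.** A supersolvable finite group all of whose conjugacy class sizes are
square-free has a cyclic commutator subgroup of square-free order. -/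
theorem commutator_cyclic
    (h : ∀ x : G, Squarefree (Subgroup.centralizer ({x} : Set G)).index)
    (hss : Cfsg.IsSupersolvable G) :
    IsCyclic ↥(commutator G) ∧ Squarefree (Nat.card ↥(commutator G)) := by
  have hnil : Group.IsNilpotent ↥(commutator G) := Cfsg.Agent.S0526.result hss
  have hsq : Squarefree (Nat.card ↥(commutator G)) := by
    rw [Nat.squarefree_iff_prime_squarefree]
    intro p hp hpp
    have : Fact p.Prime := ⟨hp⟩
    exact not_sq_dvd_card_commutator h hnil p hpp
  refine ⟨?_, hsq⟩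
  have hZ : IsZGroup ↥(commutator G) := IsZGroup.of_squarefree hsq
  infer_instance

end Cfsg.Agent.H79.Sqf
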